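import Cfsg.Agent.McLLyComp.MapComp

/-!
# Groups with a 2-component of a given simple type: definitions

`𝒯` is a property of groups (isomorphic to `McL`, resp. `Ly`); `Facts 𝒯` lists what is used about it.
-/

set_option autoImplicit false

open Cfsg Subgroup
open Cfsg.Agent.SignalizersComponents Cfsg.Agent.Lib
open Cfsg.Agent.SignalizersComponents.IntrinsicBasic
open Cfsg.Agent.Intrinsic.Basic Cfsg.Agent.Intrinsic.Cen

universe u

namespace Cfsg.Agent.McLLyComp.Defs

/-- a property of groups -/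
abbrev Ty := ∀ (X : Type u) [Group X], Prop

/-- `K` is a 2-component of `H` with `K / O(K)` of type `𝒯` -/
def TComp (𝒯 : Ty.{u}) {G : Type u} [Group G] (H K : Subgroup G) : Prop :=
  IsComp H K ∧ 𝒯 (↥K ⧸ oddCore ↥K)

/-- minimality: no counterexample of order `< N` -/
def NoT (𝒯 : Ty.{u}) (N : ℕ) : Prop :=
  ∀ (X : Type u) [Group X] [Finite X], Nat.card X < N → oddCore X = ⊥ →
    IsQuasisimple ↥(generalizedFittingSubgroup X) → ∀ t : X, orderOf t = 2 →
      ∀ K : Subgroup X, ¬ TComp 𝒯 (centralizer ({t} : Set X)) K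

/-- the facts on groups of type `𝒯` -/
structure Facts (𝒯 : Ty.{u}) : Prop where
  /-- invariance under isomorphisms -/
  iso : ∀ {X Y : Type u} [Group X] [Group Y], (X ≃* Y) → 𝒯 X → 𝒯 Y
  simple : ∀ {X : Type u} [Group X] [Finite X], 𝒯 X → IsSimpleGroup X
  cent_qs : ∀ {X : Type u} [Group X] [Finite X], 𝒯 X → ∀ b : X, orderOf b = 2 →
    IsQuasisimple ↥(centralizer ({b} : Set X))
  cent_core : ∀ {X : Type u} [Group X] [Finite X], 𝒯 X → ∀ b : X, orderOf b = 2 →
    oddCore ↥(centralizer ({b} : Set X)) = ⊥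
  /-- the centre of the centralizer of an involution `b` is `⟨b⟩` -/
  cent_center : ∀ {X : Type u} [Group X] [Finite X], 𝒯 X → ∀ b : X, orderOf b = 2 →
    ∀ x : X, (∀ y : X, y * b = b * y → x * y = y * x) → x = 1 ∨ x = b
  /-- no proper central extensions by 2-groups -/
  cover : ∀ {J X : Type u} [Group J] [Finite J] [Group X] [Finite X], IsQuasisimple J →
    oddCore J = ⊥ → 𝒯 X → ∀ f : J →* X, Function.Surjective f → f.ker ≤ center J → 𝒯 J
  /-- automorphisms centralizing the centralizer of an involution -/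
  fix : ∀ {X : Type u} [Group X] [Finite X], 𝒯 X → ∀ b : X, orderOf b = 2 → ∀ α : MulAut X,
    (∀ x : X, x * b = b * x → α x = x) → α = 1 ∨ α = MulAut.conj b
  /-- outer involutory automorphisms -/
  outer : ∀ {X : Type u} [Group X] [Finite X], 𝒯 X → ∀ β : MulAut X, β * β = 1 →
    (∀ x : X, β ≠ MulAut.conj x) → ∃ m c : X, m * (β m)⁻¹ = c * c ∧ c * c ≠ 1 ∧
      (c * c) * (c * c) = 1 ∧ β c = c
  /-- squares of automorphisms of 2-power order are inner -/
  sq : ∀ {X : Type u} [Group X] [Finite X], 𝒯 X → ∀ (γ : MulAut X) (k : ℕ), γ ^ 2 ^ k = 1 →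
    ∃ x : X, γ * γ = MulAut.conj x

variable {𝒯 : Ty.{u}} {G : Type u} [Group G]

theorem TComp.comp {H K : Subgroup G} (h : TComp 𝒯 H K) : IsComp H K := h.1

/-- `t` is an involution whose centralizer has a 2-component of type `𝒯` -/
def Bad (𝒯 : Ty.{u}) {G : Type u} [Group G] (t : G) : Prop :=
  orderOf t = 2 ∧ ∃ K : Subgroup G, TComp 𝒯 (centralizer ({t} : Set G)) K

/-- the only 2-elements of `C(t)` fixing `K` are `1` and `t` -/
def Tight {G : Type u} [Group G] (t : G) (K : Subgroup G) : Prop :=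
  ∀ (r : G) (n : ℕ), r ^ 2 ^ n = 1 → r * t = t * r → Fixes r K → r = 1 ∨ r = t

variable [Finite G]

omit [Finite G] in
theorem TComp.cj (F : Facts 𝒯) {H K : Subgroup G} (h : TComp 𝒯 H K) (g : G) :
    TComp 𝒯 (cj g H) (cj g K) := ⟨h.1.cj g, F.iso (cjQuot g K) h.2⟩

theorem TComp.simple (F : Facts 𝒯) {H K : Subgroup G} (h : TComp 𝒯 H K) :
    IsSimpleGroup (↥K ⧸ oddCore ↥K) := F.simple h.2

omit [Finite G] in
theorem cj_self_of_comm {t g : G} (hg : g * t = t * g) :
    cj g (centralizer ({t} : Set G)) = centralizer ({t} : Set G) :=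
  cj_eq_self_of_mem (mem_centralizer_singleton_iff.mpr hg)

theorem TComp.cj_of_mem (F : Facts 𝒯) {H K : Subgroup G} (h : TComp 𝒯 H K) {g : G}
    (hg : g ∈ H) : TComp 𝒯 H (IntrinsicBasic.cj g K) := by
  have := h.cj F g
  rwa [cj_eq_self_of_mem hg] at this

theorem Bad.conj (F : Facts 𝒯) {t : G} (h : Bad 𝒯 t) (g : G) : Bad 𝒯 (g * t * g⁻¹) := by
  obtain ⟨h1, K, hK⟩ := h
  refine ⟨?_, IntrinsicBasic.cj g K, ?_⟩
  · have e : orderOf (MulAut.conj g t) = orderOf t := orderOf_injective (MulAut.conj g).toMonoidHom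
      (MulAut.conj g).injective t
    rw [← h1, ← e]
    rfl
  · rw [← cj_centralizer]
    exact hK.cj F g

omit [Finite G] in
theorem Bad.sq {t : G} (h : Bad 𝒯 t) : t * t = 1 := by
  rw [← pow_two, ← h.1, pow_orderOf_eq_one]

omit [Finite G] in
theorem Bad.ne_one {t : G} (h : Bad 𝒯 t) : t ≠ 1 := by
  rintro rfl
  have := h.1
  simp at this

omit [Finite G] in
theorem order_two {x : G} (h1 : x ≠ 1) (h2 : x * x = 1) : orderOf x = 2 :=
  orderOf_eq_prime (by rw [pow_two, h2]) h1

omit [Finite G] in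
theorem sq_of_order {x : G} (h : orderOf x = 2) : x * x = 1 := by
  rw [← pow_two, ← h, pow_orderOf_eq_one]

omit [Finite G] in
theorem ne_one_of_order {x : G} (h : orderOf x = 2) : x ≠ 1 := by
  rintro rfl
  simp at h

end Cfsg.Agent.McLLyComp.Defs
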