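import Cfsg.Agent.TypeM.FactsAut
import Cfsg.Agent.S0892
import Cfsg.Agent.McLLyComp.Defs
import Mathlib.GroupTheory.Transfer

/-!
# Groups with involution centraliser `2.A_n` (`n ≥ 8`) have no proper perfect central extension by a `2`-group

Gaschütz' argument: the preimage `Γ` of `C(t) = 2.A_n` in a perfect central extension `J` has odd index, and by the
bound on the Schur multiplier of `A_n` its commutator subgroup meets the kernel trivially.
-/

set_option autoImplicit false

open Cfsg Subgroup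
open scoped commutatorElement

namespace Cfsg.Agent.McLLyComp.CoverMT

open Cfsg.Agent.SporRec.TwoAn Cfsg.Agent.TypeM.Two

/-- Transfer: a central element of a perfect group, raised to the index of a subgroup containing it, lies in the
commutator subgroup of that subgroup. -/
theorem pow_index_mem {J : Type*} [Group J] [Finite J] (hJ : commutator J = ⊤) (H : Subgroup J) {z : J}
    (hz : z ∈ center J) (hzH : z ∈ H) : z ^ H.index ∈ (commutator H).map H.subtype := by
  have hzc : ∀ g : J, g * z = z * g := fun g => mem_center_iff.1 hz g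
  have hzk : ∀ (k : ℕ) (g : J), g⁻¹ * z ^ k * g = z ^ k := by
    intro k g
    have : g * z ^ k = z ^ k * g := (Commute.pow_right (hzc g) k)
    rw [mul_assoc, ← this, ← mul_assoc, inv_mul_cancel, one_mul]
  let φ : H →* Abelianization H := Abelianization.of
  have h1 := MonoidHom.transfer_eq_pow φ z (fun k g _ => hzk k g)
  have h2 : MonoidHom.transfer φ z = 1 := by
    have h3 : commutator J ≤ (MonoidHom.transfer φ).ker := Abelianization.commutator_subset_ker _
    rw [hJ] at h3
    exact h3 (mem_top z)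
  rw [h2] at h1
  have h4 : (⟨z ^ H.index, H.pow_mem hzH _⟩ : H) ∈ commutator H := by
    rw [← Abelianization.ker_of]
    exact h1.symm
  exact ⟨_, h4, rfl⟩

/-- Commutators are not changed by central factors. -/
theorem comm_mul {Γ : Type*} [Group Γ] {d d' w w' : Γ} (hw : ∀ y, w * y = y * w) (hw' : ∀ y, w' * y = y * w') :
    ⁅d * w, d' * w'⁆ = ⁅d, d'⁆ := by
  rw [commutatorElement_def, commutatorElement_def, mul_inv_rev, mul_inv_rev]
  calc d * w * (d' * w') * (w⁻¹ * d⁻¹) * (w'⁻¹ * d'⁻¹)
      = d * (w * (d' * w')) * w⁻¹ * d⁻¹ * w'⁻¹ * d'⁻¹ := by simp only [mul_assoc]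
    _ = d * (d' * w' * w) * w⁻¹ * d⁻¹ * w'⁻¹ * d'⁻¹ := by rw [hw]
    _ = d * d' * (w' * d⁻¹) * w'⁻¹ * d'⁻¹ := by simp only [mul_assoc, mul_inv_cancel_left]
    _ = d * d' * (d⁻¹ * w') * w'⁻¹ * d'⁻¹ := by rw [hw']
    _ = d * d' * d⁻¹ * d'⁻¹ := by simp only [mul_assoc, mul_inv_cancel_left]

/-- An element whose commutators with the perfect subgroup `D` are central commutes with `D`. -/
theorem comm_of_perfect {Γ : Type*} [Group Γ] {D : Subgroup Γ} (hD : ⁅D, D⁆ = D) {x : Γ}
    (hx : ∀ y ∈ D, ∀ a : Γ, ⁅x, y⁆ * a = a * ⁅x, y⁆) : ∀ y ∈ D, x * y = y * x := by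
  have h1 : D ≤ centralizer ({x} : Set Γ) := by
    conv_lhs => rw [← hD]
    rw [Subgroup.commutator_le]
    intro y hy y' hy'
    rw [mem_centralizer_singleton_iff]
    have e1 : x * y * x⁻¹ = y * ⁅x, y⁆ := by
      rw [← hx y hy, commutatorElement_def]; group
    have e2 : x * y' * x⁻¹ = y' * ⁅x, y'⁆ := by
      rw [← hx y' hy', commutatorElement_def]; group
    have e3 : x * ⁅y, y'⁆ * x⁻¹ = ⁅y, y'⁆ := by
      have : x * ⁅y, y'⁆ * x⁻¹ = ⁅x * y * x⁻¹, x * y' * x⁻¹⁆ := by
        rw [commutatorElement_def, commutatorElement_def]; group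
      rw [this, e1, e2, comm_mul (hx y hy) (hx y' hy')]
    exact (mul_inv_eq_iff_eq_mul.1 e3).symm
  intro y hy
  exact (mem_centralizer_singleton_iff.1 (h1 hy)).symm

/-- A subgroup `D` with `[D, D] = D` is perfect. -/
theorem commutator_eq_top_of {Γ : Type*} [Group Γ] {D : Subgroup Γ} (hD : ⁅D, D⁆ = D) : commutator D = ⊤ := by
  rw [_root_.commutator_def, eq_top_iff]
  intro x _
  have h1 : (x : Γ) ∈ (⁅(⊤ : Subgroup D), (⊤ : Subgroup D)⁆ : Subgroup D).map D.subtype := by
    rw [Subgroup.map_commutator, ← MonoidHom.range_eq_map, D.range_subtype, hD]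
    exact x.2
  obtain ⟨y, hy, e⟩ := h1
  have : y = x := Subtype.ext e
  rw [← this]
  exact hy

section

variable {n : ℕ} {J X : Type*} [Group J] [Finite J] [Group X] (L : MT n X)

/-- The commutator subgroup of the preimage of `C(t)` meets the kernel trivially. -/
theorem inf_ker (hn : 8 ≤ n) (f : J →* X) (hf : Function.Surjective f) (hc : f.ker ≤ center J) {z : J}
    (hz : z ∈ f.ker)
    (hzD : z ∈ (commutator ((centralizer ({L.t} : Set X)).comap f)).map
      ((centralizer ({L.t} : Set X)).comap f).subtype) : z = 1 := by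
  classical
  set C := centralizer ({L.t} : Set X) with hC
  set Γ := C.comap f with hΓ
  let g : Γ →* C := f.subgroupComap C
  have hg : Function.Surjective g := MonoidHom.subgroupComap_surjective_of_surjective f C hf
  let D := commutator Γ
  -- `D` covers `C`
  have hα : 5 ≤ Fintype.card (Fin n) := by rw [Fintype.card_fin]; omega
  have hperf : commutator C = ⊤ := Cfsg.Agent.SporRec.LyFiveCov.commutator_eq_top L.K hα
  have hDmap : D.map g = ⊤ := by
    change (commutator Γ).map g = ⊤
    rw [_root_.commutator_def, Subgroup.map_commutator, ← MonoidHom.range_eq_map,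
      MonoidHom.range_eq_top.2 hg, ← _root_.commutator_def, hperf]
  -- elements of the kernel of `g` are central
  have hgk : ∀ x : Γ, g x = 1 → ∀ y : Γ, x * y = y * x := by
    intro x hx y
    have h1 : (x : J) ∈ f.ker := by
      rw [MonoidHom.mem_ker]
      exact congrArg Subtype.val hx
    apply Subtype.ext
    exact (mem_center_iff.1 (hc h1) y).symm
  have hcov : ∀ x : Γ, ∃ d ∈ D, ∃ w : Γ, g w = 1 ∧ x = d * w := by
    intro x
    have h1 : g x ∈ D.map g := by rw [hDmap]; exact mem_top _
    obtain ⟨d, hd, e⟩ := h1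
    exact ⟨d, hd, d⁻¹ * x, by rw [map_mul, map_inv, e, inv_mul_cancel], by group⟩
  -- `D` is perfect
  have hDD : ⁅D, D⁆ = D := by
    apply le_antisymm (Subgroup.commutator_le_left D D |>.trans le_rfl)
    change commutator Γ ≤ _
    rw [_root_.commutator_def, Subgroup.commutator_le]
    intro x _ y _
    obtain ⟨d, hd, w, hw, rfl⟩ := hcov x
    obtain ⟨d', hd', w', hw', rfl⟩ := hcov y
    rw [comm_mul (hgk w hw) (hgk w' hw')]
    exact Subgroup.commutator_mem_commutator hd hd'
  have hDperf : commutator D = ⊤ := commutator_eq_top_of hDD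
  -- the projection to `A_n`
  let π : D →* Equiv.Perm (Fin n) := L.K.π.comp (g.comp D.subtype)
  have hπr : π.range = alternatingGroup (Fin n) := by
    rw [← L.K.range_eq]
    apply le_antisymm
    · rintro _ ⟨x, rfl⟩
      exact ⟨_, rfl⟩
    · rintro _ ⟨c, rfl⟩
      have h1 : c ∈ D.map g := by rw [hDmap]; exact mem_top _
      obtain ⟨d, hd, e⟩ := h1
      exact ⟨⟨d, hd⟩, congrArg L.K.π e⟩
  have hπk : π.ker ≤ center D := by
    intro x hx
    rw [mem_center_iff]
    -- the map `y ↦ [x, y]` is a homomorphism to the kernel of `g`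
    have hcom : ∀ y : D, g (⁅(x : Γ), (y : Γ)⁆) = 1 := by
      intro y
      rw [map_commutatorElement, commutatorElement_eq_one_iff_mul_comm]
      have h1 : L.K.π (g (x : Γ)) = 1 := hx
      rcases (L.K.ker _).1 h1 with h | h
      · rw [h, one_mul, mul_one]
      · rw [h]; exact (L.K.z_comm _).symm
    intro y
    exact Subtype.ext (comm_of_perfect hDD (fun a ha b => hgk _ (hcom ⟨a, ha⟩) b) y y.2).symm
  have hπc : π.ker ≤ commutator D := by rw [hDperf]; exact le_top
  let e : D ⧸ π.ker ≃* alternatingGroup (Fin n) :=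
    (QuotientGroup.quotientKerEquivRange π).trans (MulEquiv.subgroupCongr hπr)
  have hcard := Cfsg.Agent.S0892.result n (by omega) (by omega) (by omega) π.ker hπk hπc e
  -- the element over the central involution
  obtain ⟨c, hcD, hcz⟩ : (L.K.z : C) ∈ D.map g := by rw [hDmap]; exact mem_top _
  obtain ⟨z', hz'D, hz'⟩ := hzD
  by_contra hne
  have hz'1 : z' ≠ 1 := by
    rintro rfl
    exact hne (by rw [← hz']; rfl)
  have hgz' : g z' = 1 := by
    apply Subtype.ext
    change f (z' : J) = 1
    have : (z' : J) = z := hz'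
    rw [this]
    exact hz
  let s : Fin 3 → π.ker := ![1, ⟨⟨z', hz'D⟩, by
    change L.K.π (g z') = 1
    rw [hgz', map_one]⟩, ⟨⟨c, hcD⟩, by
    change L.K.π (g c) = 1
    rw [hcz]
    exact L.K.π_z⟩]
  have hc1 : c ≠ 1 := by
    rintro rfl
    rw [map_one] at hcz
    exact L.K.z_ne hcz.symm
  have hcz' : z' ≠ c := by
    rintro rfl
    rw [hgz'] at hcz
    exact L.K.z_ne hcz.symm
  have hs : Function.Injective s := by
    intro i j hij
    fin_cases i <;> fin_cases j
    · rfl
    · exact absurd (congrArg (fun x : π.ker => ((x : D) : Γ)) hij) (fun h => hz'1 h.symm)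
    · exact absurd (congrArg (fun x : π.ker => ((x : D) : Γ)) hij) (fun h => hc1 h.symm)
    · exact absurd (congrArg (fun x : π.ker => ((x : D) : Γ)) hij) (fun h => hz'1 h)
    · rfl
    · exact absurd (congrArg (fun x : π.ker => ((x : D) : Γ)) hij) (fun h => hcz' h)
    · exact absurd (congrArg (fun x : π.ker => ((x : D) : Γ)) hij) (fun h => hc1 h)
    · exact absurd (congrArg (fun x : π.ker => ((x : D) : Γ)) hij) (fun h => hcz' h.symm)
    · rfl
  have h3 : 3 ≤ Nat.card π.ker := by
    have := Nat.card_le_card_of_injective s hs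
    rwa [Nat.card_eq_fintype_card, Fintype.card_fin] at this
  omega

include L in
/-- The kernel has odd order. -/
theorem pow_ker [Finite X] (hn : 8 ≤ n) (hJ : commutator J = ⊤) (f : J →* X) (hf : Function.Surjective f)
    (hc : f.ker ≤ center J) : ∃ m : ℕ, Odd m ∧ ∀ z ∈ f.ker, z ^ m = 1 := by
  refine ⟨(centralizer ({L.t} : Set X)).index, Cfsg.Agent.TypeM.FactsAut.odd_index L, fun z hz => ?_⟩
  have hzΓ : z ∈ (centralizer ({L.t} : Set X)).comap f := by
    rw [mem_comap, (MonoidHom.mem_ker.1 hz)]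
    exact one_mem _
  have h1 := pow_index_mem hJ ((centralizer ({L.t} : Set X)).comap f) (hc hz) hzΓ
  rw [index_comap_of_surjective _ hf] at h1
  exact inf_ker L hn f hf hc (pow_mem hz _) h1

include L in
/-- A perfect central extension `J` with `O(J) = 1` is an isomorphism. -/
theorem injective [Finite X] (hn : 8 ≤ n) (hJ : commutator J = ⊤) (hO : oddCore J = ⊥) (f : J →* X)
    (hf : Function.Surjective f) (hc : f.ker ≤ center J) : Function.Injective f := by
  obtain ⟨m, hm, hz⟩ := pow_ker L hn hJ f hf hc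
  rw [← MonoidHom.ker_eq_bot_iff, eq_bot_iff, ← hO]
  have hodd : Odd (Nat.card f.ker) := by
    by_contra hodd
    rw [Nat.not_odd_iff_even, even_iff_two_dvd] at hodd
    obtain ⟨x, hx⟩ := exists_prime_orderOf_dvd_card' (G := f.ker) 2 hodd
    have h1 := hz x x.2
    have h2 : x ^ m = 1 := Subtype.ext h1
    have h3 := orderOf_dvd_of_pow_eq_one h2
    rw [hx] at h3
    exact (Nat.not_even_iff_odd.2 hm) (even_iff_two_dvd.2 h3)
  exact le_sSup ⟨f.normal_ker, Nat.coprime_two_right.mpr hodd⟩

include L in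
/-- The isomorphism. -/
theorem exists_equiv [Finite X] (hn : 8 ≤ n) (hJ : IsQuasisimple J) (hO : oddCore J = ⊥) (f : J →* X)
    (hf : Function.Surjective f) (hc : f.ker ≤ center J) : ∃ e : J ≃* X, ∀ x, e x = f x :=
  ⟨MulEquiv.ofBijective f ⟨injective L hn hJ.1.commutator_eq_top hO f hf hc, hf⟩, fun _ => rfl⟩

end

/-- The field `cover` of `Facts` for every invariant type of groups with involution centraliser `2.A_n`, `n ≥ 8`. -/
theorem cover.{u} {𝒯 : Defs.Ty.{u}} {n : ℕ} (hn : 8 ≤ n)
    (iso : ∀ {X Y : Type u} [Group X] [Group Y], (X ≃* Y) → 𝒯 X → 𝒯 Y)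
    (mt : ∀ {X : Type u} [Group X] [Finite X], 𝒯 X → Nonempty (MT n X))
    {J X : Type u} [Group J] [Finite J] [Group X] [Finite X] (hJ : IsQuasisimple J)
    (hO : oddCore J = ⊥) (hX : 𝒯 X) (f : J →* X) (hf : Function.Surjective f) (hc : f.ker ≤ center J) :
    𝒯 J := by
  obtain ⟨L⟩ := mt hX
  obtain ⟨e, -⟩ := exists_equiv L hn hJ hO f hf hc
  exact iso e.symm hX

end Cfsg.Agent.McLLyComp.CoverMT
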