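import Cfsg.Agent.McLLyComp.TwoGroup
import Cfsg.Prelude.Def_TwoFusion
import Cfsg.Agent.SignalizersComponents.StandardTrichotomy

/-!
# Case I: every pair is tight

`CaseI.tight`: if `K` is a 2-component of type `𝒯` of `C(t)`, the only 2-elements of `C(t)` fixing `K` are
`1` and `t`.  If some pair is not tight, choose `(t, K)` with `|D(t, K)|_2` maximal and then `|C(t)|_2`
maximal: `C(t)` contains a Sylow 2-subgroup `S` of `G`, and `S ∩ D(t, K)`, `S ∩ K` are strongly closed.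
-/

set_option autoImplicit false

open Cfsg Subgroup
open Cfsg.Agent.SignalizersComponents Cfsg.Agent.Lib
open Cfsg.Agent.SignalizersComponents.IntrinsicBasic
open Cfsg.Agent.Intrinsic.Basic Cfsg.Agent.Intrinsic.Cen
open Cfsg.Agent.McLLyComp.Act Cfsg.Agent.McLLyComp.Defs
open Cfsg.Agent.McLLyComp.Lift Cfsg.Agent.McLLyComp.World Cfsg.Agent.McLLyComp.CaseOne
open Cfsg.Agent.McLLyComp.TwoGroup
open scoped commutatorElement

universe u

namespace Cfsg.Agent.McLLyComp.CaseOneEnd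

/-- Goldschmidt's product theorem, commutator part: `TwoFusion.ClosedCommutator.commutator_le` -/
def ProductThm : Prop :=
  ∀ (G : Type u) [Group G] [Finite G] (P : Sylow 2 G) (A B : Subgroup G), A ⊓ B = ⊥ →
    IsStronglyClosed A (P : Subgroup G) → IsStronglyClosed B (P : Subgroup G) →
      ⁅normalClosure (A : Set G), normalClosure (B : Set G)⁆ ≤ oddCore G

variable {𝒯 : Ty.{u}} {G : Type u} [Group G] [Finite G]

/-- `C(t)` -/
local notation "CC" t:max => (centralizer ({t} : Set _))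

/-- the elements of `C(t)` fixing `K` -/
def Dg (t : G) (K : Subgroup G) : Subgroup G where
  carrier := {a | a * t = t * a ∧ Fixes a K}
  one_mem' := ⟨by simp, fixes_one K⟩
  mul_mem' := fun {a b} ha hb =>
    ⟨by rw [mul_assoc, hb.1, ← mul_assoc, ha.1, mul_assoc], fixes_mul ha.2 hb.2⟩
  inv_mem' := fun {a} ha => ⟨((show Commute a t from ha.1).inv_left).eq, fixes_inv ha.2⟩

omit [Finite G] in
theorem mem_Dg {t a : G} {K : Subgroup G} : a ∈ Dg t K ↔ a * t = t * a ∧ Fixes a K := Iff.rfl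

omit [Finite G] in
theorem Tight.cj {t : G} {K : Subgroup G} (h : Tight t K) (g : G) :
    Tight (g * t * g⁻¹) (IntrinsicBasic.cj g K) := by
  intro r n hrn hrt hr
  have h1 : (g⁻¹ * r * g) ^ 2 ^ n = 1 := by
    have : g⁻¹ * r * g = g⁻¹ * r * g⁻¹⁻¹ := by rw [inv_inv]
    rw [this, conj_pow, hrn, mul_one, mul_inv_cancel]
  have h2 : (g⁻¹ * r * g) * t = t * (g⁻¹ * r * g) := by
    calc (g⁻¹ * r * g) * t = g⁻¹ * (r * (g * t * g⁻¹)) * g := by group
      _ = g⁻¹ * ((g * t * g⁻¹) * r) * g := by rw [hrt]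
      _ = _ := by group
  have h3 : Fixes (g⁻¹ * r * g) K := by
    have := hr.cj g⁻¹
    rwa [inv_inv, cj_inv_cj] at this
  rcases h _ n h1 h2 h3 with h4 | h4
  · left
    calc r = g * (g⁻¹ * r * g) * g⁻¹ := by group
      _ = 1 := by rw [h4]; group
  · right
    calc r = g * (g⁻¹ * r * g) * g⁻¹ := by group
      _ = g * t * g⁻¹ := by rw [h4]

/-- the type 𝒯 pairs which are not tight -/
def Wide (𝒯 : Ty.{u}) {G : Type u} [Group G] (t : G) (K : Subgroup G) : Prop :=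
  orderOf t = 2 ∧ TComp 𝒯 (centralizer ({t} : Set G)) K ∧ ¬ Tight t K

variable (W : CaseI 𝒯 G)
include W

/-- bad involutions commuting with `t` fix `K` when `(t, K)` is wide -/
theorem star {t y : G} {K : Subgroup G} (h : Wide 𝒯 t K) (hy : Bad 𝒯 y) (hyt : y * t = t * y) :
    Fixes y K := by
  obtain ⟨hy2, L, hL⟩ := hy
  by_contra hne
  exact h.2.2 (W.tight_of_not_fixes h.1 hy2 hyt.symm h.2.1 hL hne)

/-- an involution fixing `K` gives a wide pair -/
theorem wide_of_fixes {t s : G} {K : Subgroup G} (h : Wide 𝒯 t K) (hs : s * s = 1) (hs1 : s ≠ 1)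
    (hst : s * t = t * s) (hf : Fixes s K) : ∃ J, Wide 𝒯 s J ∧ cen K s ⊔ core J = J ∧
      cen K s ⊔ core K = K ∧ cen K s = cen J t := by
  have hK2 := (tcomp_cen W.facts h.2.1 (mem_CC.mpr hst) hs hf).2
  by_cases he : s = t
  · subst he
    exact ⟨K, h, hK2, hK2, rfl⟩
  · obtain ⟨J, hJ, h1, h2, h3⟩ := W.pump1 h.1 h.2.1 (order_two hs1 hs) hst hf
    refine ⟨J, ⟨order_two hs1 hs, hJ, fun hT => ?_⟩, h3, hK2, h2⟩
    rcases hT t 1 (pow_two_pow (sq_of_order h.1)) hst.symm h1 with h4 | h4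
    · exact ne_one_of_order h.1 h4
    · exact he h4.symm

theorem fixes_transfer {t s r : G} {K J : Subgroup G} (h : Wide 𝒯 t K) (hJ : Wide 𝒯 s J)
    (h1 : cen K s ⊔ core J = J) (h2 : cen K s ⊔ core K = K) (hrt : r * t = t * r)
    (hrs : r * s = s * r) : Fixes r K ↔ Fixes r J := by
  have hrK := W.norm h.1 h.2.1 hrt
  have hrJ := W.norm hJ.1 hJ.2.1 hrs
  have h3 : r ∈ normalizer (cen K s : Set G) := mem_normalizer_cen hrK hrs
  exact (fixes_iff_of_sup h2 h3 hrK).symm.trans (fixes_iff_of_sup h1 h3 hrJ)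

/-- some wide pair `(t, K)` such that `C(t)` contains a Sylow 2-subgroup of `G` -/
theorem exists_sylow (hex : ∃ (t : G) (K : Subgroup G), Wide 𝒯 t K) :
    ∃ (t : G) (K : Subgroup G) (S : Sylow 2 G), Wide 𝒯 t K ∧ (S : Subgroup G) ≤ CC t := by
  have hp : Fact (Nat.Prime 2) := ⟨Nat.prime_two⟩
  obtain ⟨t₀, K₀, h₀⟩ := hex
  obtain ⟨⟨t, K⟩, h, hmax⟩ := Set.exists_max_image
    {p : G × Subgroup G | Wide 𝒯 p.1 p.2}
    (fun p => toLex ((Nat.card (Dg p.1 p.2)).factorization 2,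
      (Nat.card (centralizer ({p.1} : Set G))).factorization 2)) (Set.toFinite _) ⟨(t₀, K₀), h₀⟩
  have h : Wide 𝒯 t K := h
  refine ⟨t, K, ?_⟩
  -- a Sylow 2-subgroup of `C(t)`
  obtain ⟨T⟩ : Nonempty (Sylow 2 ↥(CC t)) := inferInstance
  obtain ⟨P, hP⟩ : ∃ P, P = (T : Subgroup ↥(CC t)).map (CC t).subtype := ⟨_, rfl⟩
  have hPC : P ≤ CC t := hP ▸ map_subtype_le _
  have hP2 : IsPGroup 2 P := hP ▸ T.isPGroup'.map _
  have hPcard : Nat.card P = 2 ^ (Nat.card ↥(CC t)).factorization 2 := by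
    rw [hP, card_map_of_injective (CC t).subtype_injective]
    exact T.card_eq_multiplicity
  have hPmax : ∀ Q : Subgroup G, IsPGroup 2 Q → Q ≤ CC t → ∃ g ∈ CC t, cj g Q ≤ P := by
    intro Q hQ hQC
    rw [hP]
    exact exists_conj_le T hQ hQC
  obtain ⟨S, hS⟩ := hP2.exists_le_sylow
  refine ⟨S, h, ?_⟩
  by_contra hSC
  have hlt : P < S := lt_of_le_of_ne hS fun he => hSC (he ▸ hPC)
  obtain ⟨N, hN⟩ : ∃ N, N = (S : Subgroup G) ⊓ normalizer (P : Set G) := ⟨_, rfl⟩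
  have hPN : P < N := by
    rw [hN]
    exact StandardTrichotomy.lt_inf_normalizer S.isPGroup' hlt
  have hN2 : IsPGroup 2 N := S.isPGroup'.to_le (hN ▸ inf_le_left)
  have hNn : N ≤ normalizer (P : Set G) := hN ▸ inf_le_right
  have htt := sq_of_order h.1
  have ht1 := ne_one_of_order h.1
  have htP : t ∈ P := by
    obtain ⟨g, hg, h1⟩ := hPmax (zpowers t) (isPGroup_zpowers (pow_two_pow htt))
      (zpowers_le.mpr (mem_CC.mpr rfl))
    have h2 := h1 (conj_mem_cj (mem_zpowers t))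
    have h3 : g * t * g⁻¹ = t := by rw [mem_CC.mp hg, mul_inv_cancel_right]
    rwa [h3] at h2
  -- the group `V`
  let V : Subgroup G :=
    { carrier := {x | x ∈ P ∧ x * x = 1 ∧ (∀ p ∈ P, p * x = x * p) ∧ Fixes x K}
      one_mem' := ⟨P.one_mem, one_mul 1, fun p _ => by simp, fixes_one K⟩
      mul_mem' := by
        rintro a b ⟨a1, a2, a3, a4⟩ ⟨b1, b2, b3, b4⟩
        refine ⟨P.mul_mem a1 b1, ?_, fun p hp => ?_, fixes_mul a4 b4⟩
        · calc (a * b) * (a * b) = a * (b * a) * b := by group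
            _ = (a * a) * (b * b) := by rw [a3 b b1]; group
            _ = 1 := by rw [a2, b2, one_mul]
        · rw [← mul_assoc, a3 p hp, mul_assoc, b3 p hp, mul_assoc]
      inv_mem' := by
        rintro a ⟨a1, a2, a3, a4⟩
        have : a⁻¹ = a := inv_eq_of_mul_eq_one_left a2
        rw [this]
        exact ⟨a1, a2, a3, a4⟩ }
  have hVt : t ∈ V := ⟨htP, htt, fun p hp => mem_CC.mp (hPC hp), fixes_self h.2.1.1.le⟩
  have hV2 : IsPGroup 2 V := hP2.to_le fun x hx => hx.1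
  have hVne : V ≠ ⊥ := fun h => ht1 (by rw [h] at hVt; exact mem_bot.mp hVt)
  have hVconj : ∀ n ∈ N, ∀ x ∈ V, n * x * n⁻¹ ∈ V := by
    rintro n hn x ⟨x1, x2, x3, x4⟩
    have hn' := hNn hn
    have e1 : n * x * n⁻¹ ∈ P := (mem_normalizer_iff.mp hn' x).mp x1
    refine ⟨e1, ?_, ?_, ?_⟩
    · calc n * x * n⁻¹ * (n * x * n⁻¹) = n * (x * x) * n⁻¹ := by group
        _ = 1 := by rw [x2]; group
    · intro p hp
      have h1 : n⁻¹ * p * n ∈ P := by
        have := (mem_normalizer_iff.mp (inv_mem hn') p).mp hp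
        rwa [inv_inv] at this
      calc p * (n * x * n⁻¹) = n * ((n⁻¹ * p * n) * x) * n⁻¹ := by group
        _ = n * (x * (n⁻¹ * p * n)) * n⁻¹ := by rw [x3 _ h1]
        _ = n * x * n⁻¹ * p := by group
    · by_cases hx1 : x = 1
      · rw [hx1]
        have : n * 1 * n⁻¹ = 1 := by group
        rw [this]
        exact fixes_one K
      · have hbad : Bad 𝒯 x := bad_of_fixes W.toMin h.1 h.2.1 (order_two hx1 x2)
          (mem_CC.mp (hPC x1)) x4
        exact star W h (hbad.conj W.facts n) (mem_CC.mp (hPC e1))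
  have hVn : N ≤ normalizer (V : Set G) := by
    intro n hn
    rw [mem_normalizer_iff]
    intro x
    constructor
    · exact hVconj n hn x
    · intro hx
      have := hVconj n⁻¹ (inv_mem hn) _ hx
      have h1 : n⁻¹ * (n * x * n⁻¹) * n⁻¹⁻¹ = x := by group
      rwa [h1] at this
  obtain ⟨s, ⟨s1, s2, s3, s4⟩, hs1, hsN⟩ := exists_fixed hN2 hV2 hVne hVn
  have hst : s * t = t * s := mem_CC.mp (hPC s1)
  obtain ⟨J, hJ, h1, h2, -⟩ := wide_of_fixes W h s2 hs1 hst s4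
  have hle := hmax (s, J) hJ
  -- the first invariant
  have hd : (Nat.card (Dg t K)).factorization 2 ≤ (Nat.card (Dg s J)).factorization 2 := by
    obtain ⟨R⟩ : Nonempty (Sylow 2 ↥(Dg t K)) := inferInstance
    obtain ⟨R', hR'⟩ : ∃ R', R' = (R : Subgroup ↥(Dg t K)).map (Dg t K).subtype := ⟨_, rfl⟩
    have hR'D : R' ≤ Dg t K := hR' ▸ map_subtype_le _
    have hR'2 : IsPGroup 2 R' := hR' ▸ R.isPGroup'.map _
    have hR'C : R' ≤ CC t := fun x hx => mem_CC.mpr (mem_Dg.mp (hR'D hx)).1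
    have hR'card : Nat.card R' = 2 ^ (Nat.card ↥(Dg t K)).factorization 2 := by
      rw [hR', card_map_of_injective (Dg t K).subtype_injective]
      exact R.card_eq_multiplicity
    obtain ⟨g, hg, hgP⟩ := hPmax R' hR'2 hR'C
    have hcard : Nat.card (cj g R') = 2 ^ (Nat.card ↥(Dg t K)).factorization 2 := by
      rw [← hR'card, cj_def]
      exact card_map_of_injective (MulAut.conj g).injective
    refine le_factorization hcard ?_
    rintro _ ⟨x, hx, rfl⟩
    have hxD := mem_Dg.mp (hR'D hx)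
    have e1 : g * x * g⁻¹ ∈ P := hgP ⟨x, hx, rfl⟩
    have e2 : Fixes (g * x * g⁻¹) K := fixes_conj hxD.2 (W.norm h.1 h.2.1 (mem_CC.mp hg))
    have e3 : (g * x * g⁻¹) * s = s * (g * x * g⁻¹) := s3 _ e1
    exact mem_Dg.mpr ⟨e3, (fixes_transfer W h hJ h1 h2 (mem_CC.mp (hPC e1)) e3).mp e2⟩
  have hc : (Nat.card ↥(CC t)).factorization 2 < (Nat.card ↥(CC s)).factorization 2 := by
    obtain ⟨a, ha⟩ := IsPGroup.iff_card.mp hN2
    have h3 : a ≤ (Nat.card ↥(CC s)).factorization 2 :=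
      le_factorization ha fun n hn => mem_CC.mpr (hsN n hn)
    refine lt_of_lt_of_le ?_ h3
    have h4 : Nat.card P < Nat.card N :=
      lt_of_le_of_ne (Subgroup.card_le_of_le hPN.le) fun he =>
        hPN.ne (Subgroup.eq_of_le_of_card_ge hPN.le he.ge)
    rw [hPcard, ha] at h4
    exact (Nat.pow_lt_pow_iff_right (by norm_num)).mp h4
  have hlt' : toLex ((Nat.card (Dg t K)).factorization 2, (Nat.card ↥(CC t)).factorization 2) <
      toLex ((Nat.card (Dg s J)).factorization 2, (Nat.card ↥(CC s)).factorization 2) := by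
    rw [Prod.Lex.toLex_lt_toLex]
    rcases hd.lt_or_eq with h3 | h3
    · exact Or.inl h3
    · exact Or.inr ⟨h3, hc⟩
  exact absurd hle (not_le_of_gt hlt')

/-- every bad involution is wide -/
theorem wide_of_bad {t : G} {K : Subgroup G} {S : Sylow 2 G} (h : Wide 𝒯 t K)
    (hS : (S : Subgroup G) ≤ CC t) {x : G} {X : Subgroup G} (hx : orderOf x = 2)
    (hX : TComp 𝒯 (CC x) X) : Wide 𝒯 x X := by
  have hp : Fact (Nat.Prime 2) := ⟨Nat.prime_two⟩
  refine ⟨hx, hX, fun hT => ?_⟩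
  obtain ⟨g, -, hg⟩ := exists_conj_mem (H := ⊤) S le_top (pow_two_pow (sq_of_order hx)) (mem_top x)
  have hT' := Tight.cj hT g
  have hbad : Bad 𝒯 (g * x * g⁻¹) := Bad.conj W.facts ⟨hx, X, hX⟩ g
  have hX' : TComp 𝒯 (CC (g * x * g⁻¹)) (cj g X) := by
    rw [← cj_centralizer]
    exact hX.cj W.facts g
  have hxt : (g * x * g⁻¹) * t = t * (g * x * g⁻¹) := mem_CC.mp (hS hg)
  obtain ⟨J, hJ, -⟩ := wide_of_fixes W h hbad.sq hbad.ne_one hxt (star W h hbad hxt)
  rw [W.uniq hbad.1 hX' hJ.2.1] at hT'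
  exact hJ.2.2 hT'

/-- **Case I**: all pairs are tight. -/
theorem tight (hpt : ProductThm.{u}) {t : G} {K : Subgroup G} (ht : orderOf t = 2)
    (hK : TComp 𝒯 (CC t) K) :
    Tight t K := by
  have hp : Fact (Nat.Prime 2) := ⟨Nat.prime_two⟩
  by_contra hnt
  obtain ⟨t, K, S, h, hS⟩ := exists_sylow W ⟨t, K, ht, hK, hnt⟩
  clear ht hK hnt
  have htt := sq_of_order h.1
  have hKt := h.2.1
  -- all commuting bad involutions fix each other's components
  have hall : ∀ {x : G} {X : Subgroup G}, orderOf x = 2 → TComp 𝒯 (CC x) X → Wide 𝒯 x X :=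
    fun hx hX => wide_of_bad W h hS hx hX
  have htbad : Bad 𝒯 t := ⟨h.1, K, hKt⟩
  have htS : t ∈ (S : Subgroup G) := by
    obtain ⟨g, hg, h1⟩ := exists_conj_mem S hS (pow_two_pow htt) (mem_CC.mpr rfl)
    have h3 : g * t * g⁻¹ = t := by rw [mem_CC.mp hg, mul_inv_cancel_right]
    rwa [h3] at h1
  obtain ⟨R, hR⟩ : ∃ R, R = (S : Subgroup G) ⊓ Dg t K := ⟨_, rfl⟩
  obtain ⟨S₀, hS₀⟩ : ∃ S₀, S₀ = (S : Subgroup G) ⊓ K := ⟨_, rfl⟩
  have hmemR : ∀ x, x ∈ R ↔ x ∈ (S : Subgroup G) ∧ x ∈ Dg t K := fun x => by rw [hR, mem_inf]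
  have hmemS₀ : ∀ x, x ∈ S₀ ↔ x ∈ (S : Subgroup G) ∧ x ∈ K := fun x => by rw [hS₀, mem_inf]
  -- `R` is strongly closed
  have hRc : IsStronglyClosed R (S : Subgroup G) := by
    refine ⟨hR ▸ inf_le_left, fun r hr g hg => ?_⟩
    obtain ⟨hrS, hrt, hrK⟩ := (hmemR r).mp hr
    by_cases hr1 : r = 1
    · rw [hr1]
      have : g * 1 * g⁻¹ = 1 := by group
      rw [this]
      exact one_mem R
    obtain ⟨n, hn⟩ := two_elt S.isPGroup' hrS
    obtain ⟨i, j, hij, hii, hi1⟩ := exists_pow_involution hn hr1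
    have hit : i * t = t * i := by rw [hij]; exact ((show Commute r t from hrt).pow_left j).eq
    have hri : r * i = i * r := by rw [hij]; exact ((Commute.refl r).pow_right j).eq
    have hiK : Fixes i K := by rw [hij]; exact fixes_pow hrK j
    obtain ⟨J, hJ, h1, h2, -⟩ := wide_of_fixes W h hii hi1 hit hiK
    have hrJ : Fixes r J := (fixes_transfer W h hJ h1 h2 hrt hri).mp hrK
    have hrJ' := hrJ.cj g
    -- `g i g⁻¹`
    have hJ' : Wide 𝒯 (g * i * g⁻¹) (cj g J) := by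
      refine hall (Bad.conj W.facts (⟨hJ.1, J, hJ.2.1⟩ : Bad 𝒯 i) g).1 ?_
      rw [← cj_centralizer]
      exact hJ.2.1.cj W.facts g
    have hyS : g * i * g⁻¹ ∈ (S : Subgroup G) := by
      rw [hij, ← conj_pow]
      exact pow_mem hg j
    have hyt : (g * i * g⁻¹) * t = t * (g * i * g⁻¹) := mem_CC.mp (hS hyS)
    have hybad : Bad 𝒯 (g * i * g⁻¹) := ⟨hJ'.1, _, hJ'.2.1⟩
    have hyK : Fixes (g * i * g⁻¹) K := star W h hybad hyt
    obtain ⟨J₁, hJ₁, h3, h4, -⟩ := wide_of_fixes W h hybad.sq hybad.ne_one hyt hyK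
    have h5 := W.uniq hJ'.1 hJ'.2.1 hJ₁.2.1
    rw [h5] at hrJ'
    have hgt : (g * r * g⁻¹) * t = t * (g * r * g⁻¹) := mem_CC.mp (hS hg)
    have hgi : (g * r * g⁻¹) * (g * i * g⁻¹) = (g * i * g⁻¹) * (g * r * g⁻¹) := by
      calc (g * r * g⁻¹) * (g * i * g⁻¹) = g * (r * i) * g⁻¹ := by group
        _ = g * (i * r) * g⁻¹ := by rw [hri]
        _ = _ := by group
    exact (hmemR _).mpr ⟨hg, hgt, (fixes_transfer W h hJ₁ h3 h4 hgt hgi).mpr hrJ'⟩
  have htR : t ∈ R := (hmemR t).mpr ⟨htS, rfl, fixes_self hKt.1.le⟩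
  -- transfer of membership of 2-elements
  have hmemtr : ∀ {x i k : G} {X Y : Subgroup G} {n : ℕ}, x ^ 2 ^ n = 1 → Wide 𝒯 i X →
      Wide 𝒯 k Y → k * i = i * k → x ∈ X → x * k = k * x → x ∈ Y := by
    intro x i k X Y n hxn hX hY hki hxX hxk
    have hkbad : Bad 𝒯 k := ⟨hY.1, Y, hY.2.1⟩
    obtain ⟨Y', hY', -, -, h1⟩ := wide_of_fixes W hX hkbad.sq hkbad.ne_one hki
      (star W hX hkbad hki)
    have h2 := W.uniq hY.1 hY.2.1 hY'.2.1
    rw [h2]
    have h3 : x ∈ cen X k := mem_cen hxX hxk hxn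
    rw [h1] at h3
    exact cen_le _ _ h3
  -- `S₀` is strongly closed
  have hSc : IsStronglyClosed S₀ (S : Subgroup G) := by
    refine ⟨hS₀ ▸ inf_le_left, fun s hs g hg => ?_⟩
    obtain ⟨hsS, hsK⟩ := (hmemS₀ s).mp hs
    refine (hmemS₀ _).mpr ⟨hg, ?_⟩
    obtain ⟨n, hn⟩ := two_elt S.isPGroup' hg
    obtain ⟨x, hx⟩ : ∃ x, x = g * s * g⁻¹ := ⟨_, rfl⟩
    rw [← hx] at hg hn ⊢
    -- the pair `(i, X)`, `x ∈ X`
    obtain ⟨i, hi⟩ : ∃ i, i = g * t * g⁻¹ := ⟨_, rfl⟩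
    obtain ⟨X, hXdef⟩ : ∃ X, X = cj g K := ⟨_, rfl⟩
    have hX : TComp 𝒯 (CC i) X := by
      rw [hi, hXdef, ← cj_centralizer]
      exact hKt.cj W.facts g
    have hibad : Bad 𝒯 i := hi ▸ htbad.conj W.facts g
    have hxX : x ∈ X := hx ▸ hXdef ▸ conj_mem_cj hsK
    have hxi : x * i = i * x := mem_CC.mp (hX.1.le hxX)
    have hxt : x * t = t * x := mem_CC.mp (hS hg)
    -- a Sylow 2-subgroup of `C(x)` containing `t` and a conjugate of `i`
    have htx : IsPGroup 2 ((zpowers t).subgroupOf (CC x)) :=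
      (isPGroup_zpowers (pow_two_pow htt)).comap_of_injective _ (CC x).subtype_injective
    obtain ⟨T, hT⟩ := htx.exists_le_sylow
    obtain ⟨Q, hQ⟩ : ∃ Q, Q = (T : Subgroup ↥(CC x)).map (CC x).subtype := ⟨_, rfl⟩
    have hQC : Q ≤ CC x := hQ ▸ map_subtype_le _
    have hQ2 : IsPGroup 2 Q := hQ ▸ T.isPGroup'.map _
    have htQ : t ∈ Q := by
      rw [hQ]
      exact ⟨⟨t, mem_CC.mpr hxt.symm⟩, hT (mem_zpowers t), rfl⟩
    obtain ⟨c, hc, hcQ⟩ : ∃ c ∈ CC x, cj c (zpowers i) ≤ Q := by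
      rw [hQ]
      exact exists_conj_le T (isPGroup_zpowers (pow_two_pow hibad.sq))
        (zpowers_le.mpr (mem_CC.mpr hxi.symm))
    have hi'Q : c * i * c⁻¹ ∈ Q := hcQ (conj_mem_cj (mem_zpowers i))
    have hcx : c * x * c⁻¹ = x := by rw [mem_CC.mp hc, mul_inv_cancel_right]
    have hX' : Wide 𝒯 (c * i * c⁻¹) (cj c X) := by
      refine hall (hibad.conj W.facts c).1 ?_
      rw [← cj_centralizer]
      exact hX.cj W.facts c
    have hxX' : x ∈ cj c X := by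
      rw [← hcx]; exact conj_mem_cj hxX
    -- a bad involution of `Z(Q)`
    obtain ⟨S₁, hQS₁⟩ := hQ2.exists_le_sylow
    obtain ⟨a, ha⟩ := MulAction.exists_smul_eq G S S₁
    have hmemS₁ : ∀ y, y ∈ (S₁ : Subgroup G) ↔ a⁻¹ * y * a ∈ (S : Subgroup G) := by
      intro y
      rw [← ha]
      constructor
      · rintro ⟨z, hz, rfl⟩
        change a⁻¹ * (a * z * a⁻¹) * a ∈ (S : Subgroup G)
        have : a⁻¹ * (a * z * a⁻¹) * a = z := by group
        rw [this]; exact hz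
      · intro hy
        refine ⟨_, hy, ?_⟩
        change a * (a⁻¹ * y * a) * a⁻¹ = y
        group
    have hRa : ∀ r ∈ R, ∀ b : G, b * r * b⁻¹ ∈ (S : Subgroup G) → b * r * b⁻¹ ∈ R := fun r hr b hb =>
      hRc.2 r hr b hb
    let V : Subgroup G := Q ⊓ cj a R
    have hVt : t ∈ V := by
      refine ⟨htQ, ?_⟩
      change t ∈ cj a R
      rw [mem_cj]
      have h1 := (hmemS₁ t).mp (hQS₁ htQ)
      have h2 := hRa t htR a⁻¹ (by rwa [inv_inv])
      rwa [inv_inv] at h2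
    have hV2 : IsPGroup 2 V := hQ2.to_le inf_le_left
    have hVne : V ≠ ⊥ := fun h => htbad.ne_one (by rw [h] at hVt; exact mem_bot.mp hVt)
    have hVconj : ∀ q ∈ Q, ∀ v ∈ V, q * v * q⁻¹ ∈ V := by
      rintro q hq v ⟨hv1, hv2⟩
      have e1 : q * v * q⁻¹ ∈ Q := mul_mem (mul_mem hq hv1) (inv_mem hq)
      refine ⟨e1, ?_⟩
      change q * v * q⁻¹ ∈ cj a R
      have hv2 : v ∈ cj a R := hv2
      rw [mem_cj] at hv2 ⊢
      have h1 := (hmemS₁ _).mp (hQS₁ e1)
      have h2 := hRa _ hv2 (a⁻¹ * q * a) (by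
        have : a⁻¹ * q * a * (a⁻¹ * v * a) * (a⁻¹ * q * a)⁻¹ = a⁻¹ * (q * v * q⁻¹) * a := by group
        rw [this]; exact h1)
      have : a⁻¹ * q * a * (a⁻¹ * v * a) * (a⁻¹ * q * a)⁻¹ = a⁻¹ * (q * v * q⁻¹) * a := by group
      rwa [this] at h2
    have hVn : Q ≤ normalizer (V : Set G) := by
      intro q hq
      rw [mem_normalizer_iff]
      intro y
      constructor
      · exact hVconj q hq y
      · intro hy
        have := hVconj q⁻¹ (inv_mem hq) _ hy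
        have h1 : q⁻¹ * (q * y * q⁻¹) * q⁻¹⁻¹ = y := by group
        rwa [h1] at this
    obtain ⟨v, hvV, hv1, hvQ⟩ := exists_fixed hQ2 hV2 hVne hVn
    obtain ⟨m, hm⟩ := two_elt hV2 hvV
    obtain ⟨k, l, hkl, hkk, hk1⟩ := exists_pow_involution hm hv1
    have hkV : k ∈ V := hkl ▸ pow_mem hvV l
    have hkQ : ∀ q ∈ Q, q * k = k * q := fun q hq => by
      rw [hkl]; exact ((show Commute q v from hvQ q hq).pow_right l).eq
    -- `k` is bad
    have hkbad : Bad 𝒯 k := by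
      have h1 : a⁻¹ * k * a ∈ R := mem_cj.mp (show k ∈ cj a R from hkV.2)
      have h2 := (hmemR _).mp h1
      have h3 : a⁻¹ * k * a ≠ 1 := by
        intro h
        apply hk1
        calc k = a * (a⁻¹ * k * a) * a⁻¹ := by group
          _ = 1 := by rw [h]; group
      have h4 : (a⁻¹ * k * a) * (a⁻¹ * k * a) = 1 := by
        calc (a⁻¹ * k * a) * (a⁻¹ * k * a) = a⁻¹ * (k * k) * a := by group
          _ = 1 := by rw [hkk]; group
      have h5 := bad_of_fixes W.toMin h.1 hKt (order_two h3 h4) h2.2.1 h2.2.2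
      have h6 := h5.conj W.facts a
      have h7 : a * (a⁻¹ * k * a) * a⁻¹ = k := by group
      rwa [h7] at h6
    obtain ⟨hk2, Y, hY⟩ := hkbad
    have hYw : Wide 𝒯 k Y := hall hk2 hY
    have hxk : x * k = k * x := (mem_CC.mp (hQC hkV.1)).symm
    have hxY : x ∈ Y := hmemtr hn hX' hYw (hkQ _ hi'Q).symm hxX' hxk
    exact hmemtr hn hYw h (hkQ t htQ) hxY hxt
  -- the contradiction
  have hdisj : R ⊓ S₀ = ⊥ := by
    rw [eq_bot_iff]
    rintro x ⟨hx1, hx2⟩
    have h1 := (hmemR x).mp hx1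
    have h2 := (hmemS₀ x).mp hx2
    have h3 := mem_core_of_fixes W.facts hKt h2.2 h1.2.2
    obtain ⟨n, hn⟩ := two_elt S.isPGroup' h1.1
    rw [mem_bot]
    exact eq_one_of_mem_core h3 hn
  have hcomm := hpt G S R S₀ hdisj hRc hSc
  have hW0 : oddCore G = ⊥ := W.core
  rw [hW0, le_bot_iff] at hcomm
  refine W.false_of_commute (A := normalClosure (R : Set G)) (B := normalClosure (S₀ : Set G)) h.1
    hKt normalClosure_normal htbad.ne_one (subset_normalClosure htR) ?_ hcomm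
  apply hKt.1.le_of_two
  intro k hk n hn
  obtain ⟨g, hg, h1⟩ := exists_conj_mem S hS hn (hKt.1.le hk)
  have hgK := W.norm h.1 hKt (mem_CC.mp hg)
  have h2 : g * k * g⁻¹ ∈ S₀ := (hmemS₀ _).mpr ⟨h1, (mem_normalizer_iff.mp hgK k).mp hk⟩
  have h3 : g * k * g⁻¹ ∈ normalClosure (S₀ : Set G) := subset_normalClosure h2
  have h4 := (normalClosure_normal (s := (S₀ : Set G))).conj_mem _ h3 g⁻¹
  have h5 : g⁻¹ * (g * k * g⁻¹) * g⁻¹⁻¹ = k := by group
  rwa [h5] at h4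

end Cfsg.Agent.McLLyComp.CaseOneEnd
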