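import Cfsg.Agent.McLLyComp.CoverMT
import Cfsg.Agent.Intrinsic.TypesB
import Cfsg.Agent.Intrinsic.RedStd
import Cfsg.Agent.TypeM.CoverTools

/-!
# The facts on `McL` and `Ly`

`TM n X`: `X` is a simple group of the order of `McL` (`n = 8`), `Ly` (`n = 11`), with one class of involutions
and involution centralizer `2.A_n`.  `facts : Facts (TM n)`.
-/

set_option autoImplicit false

open Cfsg Subgroup
open Cfsg.Agent.TypeM.Two (MT)
open Cfsg.Agent.TypeM.FactsAut (OrderEq)
open Cfsg.Agent.McLLyComp.Defs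

universe u

namespace Cfsg.Agent.McLLyComp.FactsMT

/-- the type of `McL` (`n = 8`), `Ly` (`n = 11`) -/
def TM (n : ℕ) : Ty.{u} := fun X _ => IsSimpleGroup X ∧ OrderEq n X ∧ Nonempty (MT n X)

theorem TM.eq {n : ℕ} {X : Type u} [Group X] (h : TM n X) : n = 8 ∨ n = 11 := by
  rcases h.2.1 with h | h
  · exact Or.inl h.1
  · exact Or.inr h.1

theorem TM.iso {n : ℕ} {X Y : Type u} [Group X] [Group Y] (e : X ≃* Y) (h : TM n X) : TM n Y := by
  obtain ⟨h1, h2, ⟨L⟩⟩ := h
  have hnt : Nontrivial Y := e.symm.toEquiv.nontrivial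
  refine ⟨IsSimpleGroup.isSimpleGroup_of_surjective e.toMonoidHom e.surjective, ?_, ⟨L.congr e⟩⟩
  rwa [OrderEq, ← Nat.card_congr e.toEquiv]

variable {n : ℕ} {X : Type u} [Group X]

/-- the structure `MT` with given base involution -/
theorem TM.exists_at [Finite X] (h : TM n X) {b : X} (hb : orderOf b = 2) : ∃ L : MT n X, L.t = b := by
  obtain ⟨-, -, ⟨L⟩⟩ := h
  exact L.exists_rebase (sq_of_order hb) (ne_one_of_order hb)

theorem TM.cent_qs [Finite X] (h : TM n X) {b : X} (hb : orderOf b = 2) :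
    IsQuasisimple ↥(centralizer ({b} : Set X)) := by
  obtain ⟨L, rfl⟩ := h.exists_at hb
  exact Intrinsic.TypesB.quasisimple_of_Cover L.K (by
    rw [Fintype.card_fin]
    rcases h.eq with h | h <;> omega)

theorem TM.cent_core [Finite X] (h : TM n X) {b : X} (hb : orderOf b = 2) :
    oddCore ↥(centralizer ({b} : Set X)) = ⊥ := by
  have hq := h.cent_qs hb
  obtain ⟨L, rfl⟩ := h.exists_at hb
  exact Intrinsic.Red.oddCore_eq_bot_of_cover hq
    (TypeM.CoverTools.card_center L.K (by rcases h.eq with h | h <;> omega))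

theorem TM.cent_center [Finite X] (h : TM n X) {b : X} (hb : orderOf b = 2) {x : X}
    (hx : ∀ y : X, y * b = b * y → x * y = y * x) : x = 1 ∨ x = b := by
  obtain ⟨L, rfl⟩ := h.exists_at hb
  have hxc : x ∈ centralizer ({L.t} : Set X) := mem_centralizer_singleton_iff.mpr (hx _ rfl)
  refine (L.mem_center_cent (g := ⟨x, hxc⟩) (by rcases h.eq with h | h <;> omega)).mp ?_
  rw [mem_center_iff]
  rintro ⟨y, hy⟩
  apply Subtype.ext
  exact (hx y (mem_centralizer_singleton_iff.mp hy)).symm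

theorem TM.fix [Finite X] (h : TM n X) {b : X} (hb : orderOf b = 2) {α : MulAut X}
    (hα : ∀ x : X, x * b = b * x → α x = x) : α = 1 ∨ α = MulAut.conj b := by
  obtain ⟨L, rfl⟩ := h.exists_at hb
  exact TypeM.FactsAut.eq_one_or_conj L h.eq (TypeM.FactsAut.gen L h.2.1)
    fun g hg => hα g (mem_centralizer_singleton_iff.mp hg)

/-- the number of solutions of `x² = 1` in a group of even order is even -/
theorem two_dvd_card_sq {X : Type*} [Group X] [Fintype X] [DecidableEq X] (h2 : 2 ∣ Nat.card X) :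
    2 ∣ Fintype.card {x : X // x * x = 1} := by
  have hp : Fact (Nat.Prime 2) := ⟨Nat.prime_two⟩
  let f : Function.End X := fun x => x⁻¹
  have hf : f ^ 2 ^ 1 = 1 := by
    rw [pow_one, pow_two]
    funext x
    exact inv_inv x
  have h1 := Equiv.Perm.card_fixedPoints_modEq (p := 2) (n := 1) hf
  have h3 : Fintype.card f.fixedPoints = Fintype.card {x : X // x * x = 1} := by
    refine Fintype.card_congr (Equiv.subtypeEquivRight fun x => ?_)
    constructor
    · intro hx
      have hx' : x⁻¹ = x := hx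
      nth_rw 1 [← hx']
      exact inv_mul_cancel x
    · intro hx
      exact inv_eq_of_mul_eq_one_left hx
  rw [h3] at h1
  rw [Nat.card_eq_fintype_card] at h2
  exact (Nat.modEq_zero_iff_dvd.mp (h1.symm.trans (Nat.modEq_zero_iff_dvd.mpr h2)))

/-- an automorphism of square one of a group of even order fixes an involution -/
theorem exists_fixed_involution {X : Type*} [Group X] [Finite X] (h2 : 2 ∣ Nat.card X) {β : MulAut X}
    (hβ : β * β = 1) : ∃ b : X, b * b = 1 ∧ b ≠ 1 ∧ β b = b := by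
  classical
  have := Fintype.ofFinite X
  have hp : Fact (Nat.Prime 2) := ⟨Nat.prime_two⟩
  have hββ : ∀ x, β (β x) = x := fun x => DFunLike.congr_fun hβ x
  have hS : ∀ x : X, x * x = 1 → β x * β x = 1 := fun x hx => by rw [← map_mul, hx, map_one]
  let σ : Equiv.Perm {x : X // x * x = 1} :=
    { toFun := fun x => ⟨β x, hS x x.2⟩
      invFun := fun x => ⟨β x, hS x x.2⟩
      left_inv := fun x => Subtype.ext (hββ x)
      right_inv := fun x => Subtype.ext (hββ x) }
  have hσ : σ ^ 2 ^ 1 = 1 := by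
    rw [pow_one, pow_two]
    ext x
    exact hββ x
  obtain ⟨⟨b, hb⟩, h3, h4⟩ := Equiv.Perm.exists_fixed_point_of_prime' (p := 2) (n := 1)
    (two_dvd_card_sq h2) hσ (a := ⟨1, one_mul 1⟩) (Subtype.ext (map_one β))
  exact ⟨b, hb, fun h => h4 (Subtype.ext h), congrArg Subtype.val h3⟩

theorem TM.two_dvd (h : TM n X) : 2 ∣ Nat.card X := by
  rcases h.2.1 with ⟨-, h⟩ | ⟨-, h⟩ <;> rw [h] <;> norm_num

theorem TM.outer [Finite X] (h : TM n X) {β : MulAut X} (hβ : β * β = 1)
    (hno : ∀ x : X, β ≠ MulAut.conj x) : ∃ m c : X, m * (β m)⁻¹ = c * c ∧ c * c ≠ 1 ∧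
      (c * c) * (c * c) = 1 ∧ β c = c := by
  obtain ⟨b, hbb, hb1, hb⟩ := exists_fixed_involution h.two_dvd hβ
  obtain ⟨L, rfl⟩ := h.exists_at (order_two hb1 hbb)
  obtain ⟨⟨a, ha, ha'⟩, q, -, hq, hqq⟩ := TypeM.FactsAut.exists_neg_pos L h.eq
    (TypeM.FactsAut.gen L h.2.1) hno hb fun g _ => DFunLike.congr_fun hβ g
  refine ⟨a, q, ?_, ?_, ?_, hq⟩
  · rw [ha', hqq, mul_inv_rev, L.t_inv, ← mul_assoc, ha, mul_assoc, mul_inv_cancel, mul_one]
  · rw [hqq]; exact L.t_ne
  · rw [hqq]; exact L.t_mul_t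

theorem TM.sq [Finite X] (h : TM n X) (γ : MulAut X) : ∃ x : X, γ * γ = MulAut.conj x := by
  by_cases hin : ∃ x, γ = MulAut.conj x
  · obtain ⟨x, rfl⟩ := hin
    exact ⟨x * x, (map_mul _ _ _).symm⟩
  · push Not at hin
    obtain ⟨-, -, ⟨L⟩⟩ := id h
    exact TypeM.FactsAut.mul_inner L h.eq (TypeM.FactsAut.gen L h.2.1) hin hin

/-- **The facts on `McL` and `Ly`.** -/
theorem facts (hn : n = 8 ∨ n = 11) : Facts.{u} (TM n) where
  iso := fun e h => h.iso e
  simple := fun h => h.1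
  cent_qs := fun h _ hb => h.cent_qs hb
  cent_core := fun h _ hb => h.cent_core hb
  cent_center := fun h _ hb _ hx => h.cent_center hb hx
  cover := fun hJ hO hX f hf hc => CoverMT.cover (𝒯 := TM n) (by omega) (fun e h => h.iso e)
    (fun h => h.2.2) hJ hO hX f hf hc
  fix := fun h _ hb _ hα => h.fix hb hα
  outer := fun h _ hβ hno => h.outer hβ hno
  sq := fun h γ _ _ => h.sq γ

end Cfsg.Agent.McLLyComp.FactsMT
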