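import Cfsg.Agent.McLLyComp.Main
import Cfsg.Agent.McLLyComp.CaseOneEnd
import Cfsg.Agent.McLLyComp.FactsMT
import Cfsg.Prelude.Def_Spor_Conway
import Cfsg.Prelude.Def_Spor_Ly

/-!
# S1739 from Theorem W

`assemble`: the statement of S1739 from the simple case of S1738, Goldschmidt's product theorem (commutator
part), Theorem W for the two types, and the facts on `McL` and `Ly` with their recognition theorems.
-/

set_option autoImplicit false

open Cfsg Subgroup
open Cfsg.Agent.SignalizersComponents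
open Cfsg.Agent.Intrinsic
open Cfsg.Agent.TypeM.Two (MT)
open Cfsg.Agent.McLLyComp.Defs Cfsg.Agent.McLLyComp.CaseOneEnd Cfsg.Agent.McLLyComp.Main
open Cfsg.Agent.McLLyComp.FactsMT

universe u

namespace Cfsg.Agent.McLLyComp.Asm

/-- the end of Case I for every type -/
theorem tightStmt (hpt : ProductThm.{u}) (𝒯 : Ty.{u}) : TightStmt 𝒯 :=
  fun _ _ _ W _ _ ht hK => tight W hpt ht hK

/-- the hypotheses of the frame for `McL` -/
theorem type_mcl
    (mcl : ∀ (X : Type u) [Group X], Spor.IsoMcL X → IsSimpleGroup X ∧ Nat.card X = 898128000 ∧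
      Nonempty (MT 8 X))
    (rmcl : ∀ (X : Type u) [Group X] [Finite X] [IsSimpleGroup X] (z : X), orderOf z = 2 →
      IsNonsplitDoubleCover ↥(centralizer ({z} : Set X)) ↥(alternatingGroup (Fin 8)) → Spor.IsoMcL X) :
    Type' (TM.{u} 8) 8 898128000 where
  F := facts (Or.inl rfl)
  hn := Or.inl rfl
  mt := fun h => h.2.2
  hc1 := fun X _ _ h => by
    rcases h.2.1 with ⟨-, h⟩ | ⟨h, -⟩
    · exact h
    · exact absurd h (by norm_num)
  hc2 := fun X _ _ _ z hz hcov => (mcl X (rmcl X z hz hcov)).2.1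

/-- the hypotheses of the frame for `Ly` -/
theorem type_ly
    (ly : ∀ (X : Type u) [Group X], Spor.IsoLy X → IsSimpleGroup X ∧ Nat.card X = 51765179004000000 ∧
      Nonempty (MT 11 X))
    (rly : ∀ (X : Type u) [Group X] [Finite X] [IsSimpleGroup X] (z : X), orderOf z = 2 →
      IsNonsplitDoubleCover ↥(centralizer ({z} : Set X)) ↥(alternatingGroup (Fin 11)) → Spor.IsoLy X) :
    Type' (TM.{u} 11) 11 51765179004000000 where
  F := facts (Or.inr rfl)
  hn := Or.inr rfl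
  mt := fun h => h.2.2
  hc1 := fun X _ _ h => by
    rcases h.2.1 with ⟨h, -⟩ | ⟨-, h⟩
    · exact absurd h (by norm_num)
    · exact h
  hc2 := fun X _ _ _ z hz hcov => (ly X (rly X z hz hcov)).2.1

/-- **S1739 from Theorem W.** -/
theorem assemble (hS : Red.SimpleCase.{u}) (hpt : ProductThm.{u})
    (hW8 : WStmt (TM.{u} 8)) (hW11 : WStmt (TM.{u} 11))
    (mcl : ∀ (X : Type u) [Group X], Spor.IsoMcL X → IsSimpleGroup X ∧ Nat.card X = 898128000 ∧
      Nonempty (MT 8 X))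
    (rmcl : ∀ (X : Type u) [Group X] [Finite X] [IsSimpleGroup X] (z : X), orderOf z = 2 →
      IsNonsplitDoubleCover ↥(centralizer ({z} : Set X)) ↥(alternatingGroup (Fin 8)) → Spor.IsoMcL X)
    (ly : ∀ (X : Type u) [Group X], Spor.IsoLy X → IsSimpleGroup X ∧ Nat.card X = 51765179004000000 ∧
      Nonempty (MT 11 X))
    (rly : ∀ (X : Type u) [Group X] [Finite X] [IsSimpleGroup X] (z : X), orderOf z = 2 →
      IsNonsplitDoubleCover ↥(centralizer ({z} : Set X)) ↥(alternatingGroup (Fin 11)) → Spor.IsoLy X)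
    {G : Type u} [Group G] [Finite G]
    (hO : Cfsg.oddCore G = ⊥) (hF : Cfsg.IsQuasisimple ↥(Cfsg.generalizedFittingSubgroup G)) (t : G)
    (ht : orderOf t = 2)
    (K : Subgroup ↥(Subgroup.centralizer ({t} : Set G))) (hK : Cfsg.IsPComponent 2 K) :
    ¬ Cfsg.Spor.IsoMcL (↥K ⧸ Cfsg.oddCore ↥K) ∧ ¬ Cfsg.Spor.IsoLy (↥K ⧸ Cfsg.oddCore ↥K) := by
  constructor
  · intro h
    obtain ⟨h1, h2, h3⟩ := mcl _ h
    exact not_type hS (type_mcl mcl rmcl) (tightStmt hpt _) hW8 hO hF t ht K hK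
      ⟨h1, Or.inl ⟨rfl, h2⟩, h3⟩
  · intro h
    obtain ⟨h1, h2, h3⟩ := ly _ h
    exact not_type hS (type_ly ly rly) (tightStmt hpt _) hW11 hO hF t ht K hK
      ⟨h1, Or.inr ⟨rfl, h2⟩, h3⟩

end Cfsg.Agent.McLLyComp.Asm
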