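import Cfsg.Agent.McLLyComp.World

/-!
# Case I: no involution of a 2-component of type `𝒯` is bad

`tight_of_not_fixes` (Lemma C): commuting bad involutions `t`, `y`, `y` not fixing `K`: then `1` and `t` are
the only 2-elements of `C(t)` fixing `K`.
-/

set_option autoImplicit false

open Cfsg Subgroup
open Cfsg.Agent.SignalizersComponents Cfsg.Agent.Lib
open Cfsg.Agent.SignalizersComponents.IntrinsicBasic
open Cfsg.Agent.SignalizersComponents.PLayerAut
open Cfsg.Agent.Intrinsic.Basic Cfsg.Agent.Intrinsic.Cen Cfsg.Agent.Intrinsic.Quot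
open Cfsg.Agent.Intrinsic.Lifting
open Cfsg.Agent.McLLyComp.Act Cfsg.Agent.McLLyComp.MapComp Cfsg.Agent.McLLyComp.Defs
open Cfsg.Agent.McLLyComp.Reduce Cfsg.Agent.McLLyComp.Lift Cfsg.Agent.McLLyComp.World
open scoped commutatorElement

universe u

namespace Cfsg.Agent.McLLyComp.CaseOne

variable {𝒯 : Ty.{u}} {G : Type u} [Group G] [Finite G]

/-- `C(t)` -/
local notation "CC" t => (centralizer ({t} : Set _))

omit [Finite G] in
theorem mem_CC {t x : G} : x ∈ (CC t) ↔ x * t = t * x := mem_centralizer_singleton_iff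

/-- a 2-component contains an involution -/
theorem exists_involution_mem {H K : Subgroup G} (hK : IsComp H K) :
    ∃ x ∈ K, orderOf x = 2 := by
  have hp : Fact (Nat.Prime 2) := ⟨Nat.prime_two⟩
  obtain ⟨x, hx⟩ := exists_prime_orderOf_dvd_card' (G := ↥K) 2 hK.even
  exact ⟨x, x.2, by rw [← hx]; exact (Subgroup.orderOf_coe x)⟩

theorem tcomp_cen (F : Facts 𝒯) {H L : Subgroup G} (hL : TComp 𝒯 H L) {x : G} (hx : x ∈ H)
    (hxx : x * x = 1) (hf : Fixes x L) :
    TComp 𝒯 (H ⊓ centralizer ({x} : Set G)) (cen L x) ∧ cen L x ⊔ core L = L := by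
  obtain ⟨h1, h2⟩ := isComp_cen hL.1 hx hxx hf
  obtain ⟨e, -⟩ := exists_quotEquiv h2
  exact ⟨⟨h1, F.iso e.symm hL.2⟩, h2⟩

/-- the pump-up to `C(x)` when `x` fixes `L` -/
theorem pump_fixes (W : Min 𝒯 G) {t x : G} {L : Subgroup G} (ht : orderOf t = 2)
    (hL : TComp 𝒯 (CC t) L) (hx : orderOf x = 2) (hxt : x * t = t * x) (hf : Fixes x L) :
    ∃ J, TComp 𝒯 (CC x) J ∧ ((Fixes t J ∧ cen L x = cen J t ∧ cen L x ⊔ core J = J) ∨
      (cj t J ≠ J ∧ cen L x = Intrinsic.Diag.diag (CC x) J t)) := by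
  obtain ⟨h1, -⟩ := tcomp_cen W.facts hL (mem_CC.mpr hxt) (sq_of_order hx) hf
  rw [inf_comm] at h1
  exact W.pump (ne_one_of_order hx) hxt.symm (sq_of_order ht) h1

theorem bad_of_fixes (W : Min 𝒯 G) {t x : G} {L : Subgroup G} (ht : orderOf t = 2)
    (hL : TComp 𝒯 (CC t) L) (hx : orderOf x = 2) (hxt : x * t = t * x) (hf : Fixes x L) :
    Bad 𝒯 x := by
  obtain ⟨J, hJ, -⟩ := pump_fixes W ht hL hx hxt hf
  exact ⟨hx, J, hJ⟩

/-- Case I -/
structure CaseI (𝒯 : Ty.{u}) (G : Type u) [Group G] [Finite G] : Prop extends Min 𝒯 G where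
  h0 : ∀ (t : G) (K : Subgroup G), orderOf t = 2 → TComp 𝒯 (centralizer ({t} : Set G)) K →
    ∀ z ∈ K, ¬ Bad 𝒯 z

variable (W : CaseI 𝒯 G)
include W

/-- (I.1) -/
theorem CaseI.uniq {t : G} {K L : Subgroup G} (ht : orderOf t = 2) (hK : TComp 𝒯 (CC t) K)
    (hL : TComp 𝒯 (CC t) L) : K = L := by
  by_contra hne
  obtain ⟨x, hx, hx2⟩ := exists_involution_mem hK.1
  have hf : Fixes x L := hL.1.fixes_of_mem hK.1 (Ne.symm hne) hx
  exact W.h0 t K ht hK x hx (bad_of_fixes W.toMin ht hL hx2 (mem_CC.mp (hK.1.le hx)) hf)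

theorem CaseI.norm {t g : G} {K : Subgroup G} (ht : orderOf t = 2) (hK : TComp 𝒯 (CC t) K)
    (hg : g * t = t * g) : g ∈ normalizer (K : Set G) := by
  rw [mem_normalizer_iff_cj]
  exact W.uniq ht (hK.cj_of_mem W.facts (mem_CC.mpr hg)) hK

/-- in Case I all pump-ups are trivial -/
theorem CaseI.pump1 {t x : G} {K : Subgroup G} (ht : orderOf t = 2) (hK : TComp 𝒯 (CC t) K)
    (hx : orderOf x = 2) (hxt : x * t = t * x) (hf : Fixes x K) :
    ∃ J, TComp 𝒯 (CC x) J ∧ Fixes t J ∧ cen K x = cen J t ∧ cen K x ⊔ core J = J := by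
  obtain ⟨J, hJ, h | h⟩ := pump_fixes W.toMin ht hK hx hxt hf
  · exact ⟨J, hJ, h⟩
  · exact absurd (W.uniq hx (hJ.cj_of_mem W.facts (mem_CC.mpr hxt.symm)) hJ) h.1

omit W [Finite G] in
theorem fixes_self {t : G} {K : Subgroup G} (hK : K ≤ CC t) : Fixes t K := by
  have h1 : ∀ y ∈ K, t * y * t⁻¹ = y := by
    intro y hy
    rw [← mem_CC.mp (hK hy), mul_inv_cancel_right]
  refine ⟨?_, fun y hy => ?_⟩
  · rw [mem_normalizer_iff]
    intro y
    constructor
    · intro hy; rw [h1 y hy]; exact hy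
    · intro hy
      have h2 := mem_CC.mp (hK hy)
      have h3 : y = t * y * t⁻¹ := by
        calc y = t⁻¹ * (t * y * t⁻¹ * t) := by group
          _ = t⁻¹ * (t * (t * y * t⁻¹)) := by rw [h2]
          _ = t * y * t⁻¹ := by group
      rw [h3]; exact hy
  · have : ⁅t, y⁆ = 1 := by
      rw [commutatorElement_def, h1 y hy, mul_inv_cancel]
    rw [this]
    exact one_mem _

omit W [Finite G] in
theorem fixes_pow {a : G} {K : Subgroup G} (h : Fixes a K) (n : ℕ) : Fixes (a ^ n) K := by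
  induction n with
  | zero => rw [pow_zero]; exact fixes_one K
  | succ n ih => rw [pow_succ]; exact fixes_mul ih h

omit W [Finite G] in
/-- a nontrivial 2-element has a power which is an involution -/
theorem exists_pow_involution {r : G} {n : ℕ} (hrn : r ^ 2 ^ n = 1) (hr1 : r ≠ 1) :
    ∃ (i : G) (j : ℕ), i = r ^ j ∧ i * i = 1 ∧ i ≠ 1 := by
  induction n generalizing r with
  | zero => rw [pow_zero, pow_one] at hrn; exact absurd hrn hr1
  | succ n ih =>
    by_cases h : r * r = 1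
    · exact ⟨r, 1, by rw [pow_one], h, hr1⟩
    · obtain ⟨i, j, h1, h2, h3⟩ := ih (r := r * r) (by
        rw [← pow_two, ← pow_mul, ← pow_succ']; exact hrn) h
      exact ⟨i, 2 * j, by rw [h1, ← pow_two, ← pow_mul], h2, h3⟩

/-- (1), (2): `A = cen K y ≤ L` -/
theorem CaseI.step {t y b : G} {K L : Subgroup G} (ht : orderOf t = 2) (hy : orderOf y = 2)
    (hty : t * y = y * t) (hK : TComp 𝒯 (CC t) K) (hL : TComp 𝒯 (CC y) L) (hb : b ∈ K)
    (hbb : b * b = 1) (hb1 : b ≠ 1) (hyb : y * b = b * y) (hf : Fixes (y * b) K) :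
    ¬ Fixes b L ∧ cen K y ≤ L := by
  have hbL : ¬ Fixes b L := fun h => W.h0 t K ht hK b hb
    (bad_of_fixes W.toMin hy hL (order_two hb1 hbb) hyb.symm h)
  refine ⟨hbL, ?_⟩
  obtain ⟨h1, h2, -, -⟩ := cen_inner W.facts hK (sq_of_order hy) (W.norm ht hK hty.symm) hb hbb hb1
    hyb hf
  rw [inf_comm] at h1
  rcases PumpT.tc_le_or (mem_CC.mpr hty) (sq_of_order ht) h1.tc hL.1.tc (W.norm hy hL hty)
    with h | h
  · exact h
  · exact absurd ((hL.1.fixes_iff (mem_CC.mpr hyb.symm)).mpr (h h2)) hbL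

/-- `b` is central in `cen K y` modulo the core -/
theorem CaseI.central {t y b a : G} {K : Subgroup G} (ht : orderOf t = 2)
    (hty : t * y = y * t) (hK : TComp 𝒯 (CC t) K) (hb : b ∈ K)
    (hbb : b * b = 1) (hf : Fixes (y * b) K) (ha : a ∈ cen K y) :
    a⁻¹ * (b * a * b⁻¹) ∈ core K := by
  rw [← commute_mod_of hb hbb hf (W.norm ht hK hty.symm) (cen_le K y ha), ← comm_of_mem_cen ha]
  simp

/-- **Lemma A.** -/
theorem CaseI.lemmaA {t y : G} {K L : Subgroup G} (ht : orderOf t = 2) (hy : orderOf y = 2)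
    (hty : t * y = y * t) (hK : TComp 𝒯 (CC t) K) (hL : TComp 𝒯 (CC y) L) (hny : ¬ Fixes y K)
    {k : G} (hk : k ∈ K) (hfk : Fixes (y * k) K) {l : G} (hl : l ∈ L) (hfl : Fixes (t * l) L) :
    Tight t K := by
  have htt := sq_of_order ht
  have hyy := sq_of_order hy
  have hyK := W.norm ht hK hty.symm
  have htL := W.norm hy hL hty
  obtain ⟨b, hb, hbb, hb1, hyb, hf⟩ := inner_rep W.facts hK hyK hyy hk hfk hny
  have hbi : b⁻¹ = b := inv_eq_of_mul_eq_one_left hbb
  have hbt : b * t = t * b := mem_CC.mp (hK.1.le hb)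
  obtain ⟨hbL, hAL⟩ := W.step ht hy hty hK hL hb hbb hb1 hyb hf
  obtain ⟨hA1, hA2, hA3, hA4⟩ := cen_inner W.facts hK hyy hyK hb hbb hb1 hyb hf
  have hcent := fun a (ha : a ∈ cen K y) => W.central ht hty hK hb hbb hf ha
  -- `b` fixes `A`
  have hbA : Fixes b (cen K y) := by
    rw [fixes_iff_conj]
    refine ⟨le_normalizer hA2, fun a ha => ?_⟩
    rw [hA3]
    exact mem_inf.mpr ⟨mul_mem (inv_mem ha) (mul_mem (mul_mem hA2 ha) (inv_mem hA2)), hcent a ha⟩
  -- (3)
  have hnt : ¬ Fixes t L := by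
    intro h
    obtain ⟨h1, -⟩ := tcomp_cen W.facts hL (mem_CC.mpr hty) htt h
    rw [inf_comm] at h1
    have h2 : cen K y ≤ cen L t := hA1.le_of_two fun a ha n hn =>
      mem_cen (hAL ha) (mem_CC.mp (hK.1.le (cen_le K y ha))) hn
    have h3 := hA1.eq_of_le h1.1 h2
    rw [← h3] at h1
    exact not_fixes_of_mem W.facts h1 hA2 hbb hb1 hbA
  -- (4)
  obtain ⟨b₂, hb₂, hbb₂, hb₂1, htb₂, hf₂⟩ := inner_rep W.facts hL htL htt hl hfl hnt
  obtain ⟨-, hAK⟩ := W.step hy ht hty.symm hL hK hb₂ hbb₂ hb₂1 htb₂ hf₂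
  obtain ⟨hB1, hB2, hB3, hB4⟩ := cen_inner W.facts hL htt htL hb₂ hbb₂ hb₂1 htb₂ hf₂
  have hAB : cen K y = cen L t := by
    apply le_antisymm
    · exact hA1.le_of_two fun a ha n hn =>
        mem_cen (hAL ha) (mem_CC.mp (hK.1.le (cen_le K y ha))) hn
    · exact hB1.le_of_two fun a ha n hn =>
        mem_cen (hAK ha) (mem_CC.mp (hL.1.le (cen_le L t ha))) hn
  have hbL' : b ∈ L := hAL hA2
  have hcoreL : core (cen K y) ≤ core L := by
    rw [hAB, hB3]; exact inf_le_right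
  -- (5)
  have hb₂b : b₂⁻¹ * b ∈ core L := by
    rcases W.facts.cent_center hL.2 _ (mk_order hb₂ hbb₂ hb₂1) (QuotientGroup.mk ⟨b, hbL'⟩)
      (fun x hx => by
        obtain ⟨⟨x, hxL⟩, rfl⟩ := QuotientGroup.mk_surjective x
        rw [← commute_mod_iff hxL hb₂] at hx
        obtain ⟨a, ha, hax⟩ := hB4 x hxL hx
        have haL := cen_le L t ha
        have h1 : (QuotientGroup.mk (⟨x, hxL⟩ : ↥L) : ↥L ⧸ oddCore ↥L) =
            QuotientGroup.mk ⟨a, haL⟩ := ((mk_eq_iff haL hxL).mpr hax).symm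
        rw [h1]
        have h2 : a⁻¹ * (b * a * b⁻¹) ∈ core L := by
          apply hcoreL
          rw [hA3]
          rw [← hAB] at ha
          exact mem_inf.mpr
            ⟨mul_mem (inv_mem ha) (mul_mem (mul_mem hA2 ha) (inv_mem hA2)), hcent a ha⟩
        exact ((commute_mod_iff haL hbL').mp h2).symm) with h | h
    · rw [Act.mk_eq_one_iff] at h
      exact absurd (eq_one_of_mem_core_sq h hbb) hb1
    · exact (mk_eq_iff hb₂ hbL').mp h.symm
  have hftb : Fixes (t * b) L := by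
    have h1 : t * b = (t * b₂) * (b₂⁻¹ * b) := by group
    rw [h1]
    exact fixes_mul hf₂ (fixes_core hL.1 hb₂b)
  obtain ⟨-, -, -, hC4⟩ := cen_inner W.facts hL htt htL hbL' hbb hb1 hbt.symm hftb
  rw [← hAB] at hC4
  have hftK : Fixes t K := fixes_self hK.1.le
  -- (6)
  have hJ : ∀ r : G, r * r = 1 → r ≠ 1 → r * t = t * r → r * y = y * r → Fixes r K →
      ¬ Fixes r L := by
    intro r hrr hr1 hrt hry hrK hrL
    have hr := order_two hr1 hrr
    obtain ⟨J, hJ1, hJ2, -, hJ4⟩ := W.pump1 ht hK hr hrt hrK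
    obtain ⟨J', hJ1', -, -, hJ4'⟩ := W.pump1 hy hL hr hry hrL
    have h1 := W.uniq hr hJ1' hJ1
    rw [h1] at hJ4'
    have h2 := (tcomp_cen W.facts hL (mem_CC.mpr hry) hrr hrL).2
    have h3 : t ∈ normalizer (cen L r : Set G) := mem_normalizer_cen htL hrt.symm
    have h4 : Fixes t (cen L r) := (fixes_iff_of_sup hJ4' h3 hJ2.1).mpr hJ2
    exact hnt ((fixes_iff_of_sup h2 h3 htL).mp h4)
  have hJ' : ∀ (r : G) (n : ℕ), r ^ 2 ^ n = 1 → r * t = t * r → r * y = y * r → Fixes r K →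
      Fixes r L → r = 1 := by
    intro r n hrn hrt hry hrK hrL
    by_contra hr1
    obtain ⟨i, j, hj, hii, hi1⟩ := exists_pow_involution hrn hr1
    have hpow : ∀ {M : Subgroup G}, Fixes r M → Fixes i M := by
      intro M hM
      rw [hj]
      exact fixes_pow hM j
    refine hJ i hii hi1 ?_ ?_ (hpow hrK) (hpow hrL)
    · rw [hj]; exact ((show Commute r t from hrt).pow_left j).eq
    · rw [hj]; exact ((show Commute r y from hry).pow_left j).eq
  have hP : ∀ (r : G) (n : ℕ), r ^ 2 ^ n = 1 → r * t = t * r → r * y = y * r → r * b = b * r →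
      Fixes r K → r = 1 ∨ r = t := by
    intro r n hrn hrt hry hrb hrK
    have hrL := W.norm hy hL hry
    have hrA : r ∈ normalizer (cen K y : Set G) := mem_normalizer_cen hrK.1 hry
    rcases fix_lift W.facts hL hrL hbL' hbb hb1 (fun x hx hxb => by
      obtain ⟨a, ha, hax⟩ := hC4 x hx hxb
      have h1 : a⁻¹ * (r * a * r⁻¹) ∈ core L := by
        apply hcoreL
        rw [hA3]
        exact mem_inf.mpr ⟨mul_mem (inv_mem ha) ((mem_normalizer_iff.mp hrA a).mp ha),
          (fixes_iff_conj.mp hrK).2 a (cen_le K y ha)⟩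
      have h2 : r * (a⁻¹ * x) * r⁻¹ ∈ core L := conj_mem_core hrL hax
      have h3 : x⁻¹ * (r * x * r⁻¹) = (a⁻¹ * x)⁻¹ * (a⁻¹ * (r * a * r⁻¹)) *
        (r * (a⁻¹ * x) * r⁻¹) := by group
      rw [h3]
      exact mul_mem (mul_mem (inv_mem hax) h1) h2) with h | h
    · exact Or.inl (hJ' r n hrn hrt hry hrK h)
    · -- `r t` fixes `L`
      right
      have h1 : Fixes (r * t) L := by
        have h2 := fixes_mul h (fixes_inv hftb)
        have h3 : r * b * (t * b)⁻¹ = r * t := by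
          rw [mul_inv_rev, inv_eq_of_mul_eq_one_left htt]; group
        rwa [h3] at h2
      have h2 : (r * t) ^ 2 ^ (n + 1) = 1 := by
        rw [(show Commute r t from hrt).mul_pow, pow_succ, pow_mul, hrn, one_pow, one_mul,
          mul_comm, pow_mul, pow_two, htt, one_pow]
      have h3 := hJ' (r * t) (n + 1) h2 (by rw [mul_assoc, ← mul_assoc t r t, ← hrt]; group)
        (by rw [mul_assoc, hty, ← mul_assoc, hry, mul_assoc]) (fixes_mul hrK hftK) h1
      have := mul_eq_one_iff_eq_inv.mp h3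
      rw [this, inv_eq_of_mul_eq_one_left htt]
  -- (7)
  have hyt : y = t * b := by
    have h1 : (y * b) * (y * b) = 1 := by
      calc (y * b) * (y * b) = y * (b * y) * b := by group
        _ = (y * y) * (b * b) := by rw [← hyb]; group
        _ = 1 := by rw [hyy, hbb, one_mul]
    rcases hP (y * b) 1 (pow_two_pow h1) (by rw [mul_assoc, hbt, ← mul_assoc, ← hty, mul_assoc])
      (by rw [mul_assoc, ← hyb]) (by rw [mul_assoc, ← mul_assoc b y b, ← hyb, mul_assoc]) hf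
      with h | h
    · exfalso
      have h2 : y = b := by
        have := mul_eq_one_iff_eq_inv.mp h
        rw [this, hbi]
      exact W.h0 t K ht hK b hb (h2 ▸ ⟨hy, L, hL⟩)
    · calc y = (y * b) * b := by rw [mul_assoc, hbb, mul_one]
        _ = t * b := by rw [h]
  -- (8)
  intro r n hrn hrt hrK
  have hrb : r⁻¹ * (b * r * b⁻¹) ∈ core K := by
    have h1 := (fixes_iff_conj.mp hrK).2 b hb
    have h2 := conj_mem_core (le_normalizer hb) h1
    -- `b (b⁻¹ (r b r⁻¹)) b⁻¹ = r b r⁻¹ b⁻¹`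
    have h3 := conj_mem_core (K := K) (inv_mem hrK.1) h2
    have h4 : r⁻¹ * (b * r * b⁻¹) = (r⁻¹ * (b * (b⁻¹ * (r * b * r⁻¹)) * b⁻¹) * r⁻¹⁻¹)⁻¹ := by
      group
    rw [h4]
    exact inv_mem h3
  obtain ⟨o, ho, h1, h2⟩ := exists_two_element (m := n) (odd_card_core K) (pow_two_pow hbb)
    (le_normalizer_core K hb) (normalizer_le_normalizer_core K hrK.1)
    (by rw [hrn]; exact one_mem _) hrb
  have hot : o * t = t * o := mem_CC.mp (hK.1.le (core_le K ho))
  have h3 : (r * o) * t = t * (r * o) := by rw [mul_assoc, hot, ← mul_assoc, hrt, mul_assoc]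
  have h4 : (r * o) * y = y * (r * o) := by
    rw [hyt, ← mul_assoc, h3, mul_assoc, ← h2, mul_assoc]
  rcases hP (r * o) n h1 h3 h4 h2.symm (fixes_mul hrK (fixes_core hK.1 ho)) with h | h
  · left
    have h5 : r = o⁻¹ := mul_eq_one_iff_eq_inv.mp h
    have h6 : r ∈ core K := h5 ▸ inv_mem ho
    exact eq_one_of_mem_core h6 hrn
  · right
    refine eq_of_commute (odd_card_core K) hrn (pow_two_pow htt) hrt ?_
    rw [← h]
    simpa using ho

/-- **Lemma B.** -/
theorem CaseI.lemmaB {t y : G} {K L : Subgroup G} (ht : orderOf t = 2) (hy : orderOf y = 2)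
    (hty : t * y = y * t) (hK : TComp 𝒯 (CC t) K) (hL : TComp 𝒯 (CC y) L)
    (hout : ∀ x ∈ L, ¬ Fixes (t * x) L) : Tight t K := by
  have htt := sq_of_order ht
  obtain ⟨m, hm, c, hc, h1, hct, h2, h3⟩ := outer_lift W.facts hL (W.norm hy hL hty) htt hout
  have hcct : c * c * t = t * (c * c) := by rw [mul_assoc, hct, ← mul_assoc, hct, mul_assoc]
  have hftK : Fixes t K := fixes_self hK.1.le
  have hc4 : ∀ d : G, (d * d) * (d * d) = 1 → d ^ 2 ^ 2 = 1 := fun d hd => by rw [pow_four, hd]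
  -- `y' = m t m⁻¹`
  have hy' : orderOf (m * t * m⁻¹) = 2 := (Bad.conj W.facts (⟨ht, K, hK⟩ : Bad 𝒯 t) m).1
  have hK' : TComp 𝒯 (CC (m * t * m⁻¹)) (cj m K) := by
    rw [← cj_centralizer]
    exact hK.cj W.facts m
  have hty' : t * (m * t * m⁻¹) = (m * t * m⁻¹) * t := by
    rw [h1, ← mul_assoc, ← hcct]
  have hny : ¬ Fixes (m * t * m⁻¹) K := by
    rw [h1]
    intro h
    have h4 : Fixes (c * c) K := by
      have := fixes_mul h (fixes_inv hftK)
      rwa [mul_inv_cancel_right] at this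
    exact W.h0 y L hy hL (c * c) (mul_mem hc hc)
      (bad_of_fixes W.toMin ht hK (order_two h2 h3) hcct h4)
  obtain ⟨x, hx, hfx⟩ := sq_lift W.facts hK (W.norm ht hK hct) (hc4 c h3)
  have hxt : x * t = t * x := mem_CC.mp (hK.1.le hx)
  have hf1 : Fixes (m * t * m⁻¹ * x) K := by
    have h4 : m * t * m⁻¹ * x = (c * c * x) * t := by
      rw [h1, mul_assoc, ← hxt, ← mul_assoc]
    rw [h4]
    exact fixes_mul hfx hftK
  -- `t` is inner on `cj m K`
  obtain ⟨d, hd⟩ : ∃ d, d = m⁻¹ * c * m := ⟨_, rfl⟩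
  have hdd : d * d = m⁻¹ * (c * c) * m := by rw [hd]; group
  have hdd4 : (d * d) * (d * d) = 1 := by
    rw [hdd]
    calc m⁻¹ * (c * c) * m * (m⁻¹ * (c * c) * m) = m⁻¹ * ((c * c) * (c * c)) * m := by group
      _ = 1 := by rw [h3]; group
  have hmt : d * d * (m⁻¹ * t * m) = t := by
    have h4 : m⁻¹ * ((c * c) * t) * m = t := by rw [← h1]; group
    rw [hdd]
    calc m⁻¹ * (c * c) * m * (m⁻¹ * t * m) = m⁻¹ * ((c * c) * t) * m := by group
      _ = t := h4
  have hmt' : m⁻¹ * t * m = d * d * t := by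
    calc m⁻¹ * t * m = ((d * d) * (d * d)) * (m⁻¹ * t * m) := by rw [hdd4, one_mul]
      _ = d * d * (d * d * (m⁻¹ * t * m)) := by group
      _ = d * d * t := by rw [hmt]
  have hdt : d * t = t * d := by
    have h4 : d * (m⁻¹ * t * m) = (m⁻¹ * t * m) * d := by
      rw [hd]
      calc m⁻¹ * c * m * (m⁻¹ * t * m) = m⁻¹ * (c * t) * m := by group
        _ = m⁻¹ * (t * c) * m := by rw [hct]
        _ = _ := by group
    calc d * t = d * (d * d * (m⁻¹ * t * m)) := by rw [hmt]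
      _ = d * d * (d * (m⁻¹ * t * m)) := by group
      _ = d * d * (m⁻¹ * t * m) * d := by rw [h4]; group
      _ = t * d := by rw [hmt]
  obtain ⟨x', hx', hfx'⟩ := sq_lift W.facts hK (W.norm ht hK hdt) (hc4 d hdd4)
  have hx't : x' * t = t * x' := mem_CC.mp (hK.1.le hx')
  have hf2 : Fixes (m⁻¹ * t * m * x') K := by
    have h4 : m⁻¹ * t * m * x' = (d * d * x') * t := by
      rw [hmt', mul_assoc, ← hx't, ← mul_assoc]
    rw [h4]
    exact fixes_mul hfx' hftK
  have hf3 : Fixes (t * (m * x' * m⁻¹)) (cj m K) := by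
    have := hf2.cj m
    have h4 : m * (m⁻¹ * t * m * x') * m⁻¹ = t * (m * x' * m⁻¹) := by group
    rwa [h4] at this
  exact W.lemmaA ht hy' hty' hK hK' hny hx hf1 (conj_mem_cj hx') hf3

/-- **Lemma C.** -/
theorem CaseI.tight_of_not_fixes {t y : G} {K L : Subgroup G} (ht : orderOf t = 2)
    (hy : orderOf y = 2) (hty : t * y = y * t) (hK : TComp 𝒯 (CC t) K) (hL : TComp 𝒯 (CC y) L)
    (hny : ¬ Fixes y K) : Tight t K := by
  by_cases h1 : ∃ l ∈ L, Fixes (t * l) L
  swap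
  · push Not at h1
    exact W.lemmaB ht hy hty hK hL h1
  obtain ⟨l, hl, hfl⟩ := h1
  by_cases h2 : ∃ k ∈ K, Fixes (y * k) K
  · obtain ⟨k, hk, hfk⟩ := h2
    exact W.lemmaA ht hy hty hK hL hny hk hfk hl hfl
  exfalso
  push Not at h2
  have hR := W.lemmaB hy ht hty.symm hL hK h2
  have hnt : ¬ Fixes t L := by
    intro h
    obtain ⟨J, hJ1, hJ2, -, -⟩ := W.pump1 hy hL ht hty h
    rw [W.uniq ht hJ1 hK] at hJ2
    exact hny hJ2
  have htt := sq_of_order ht
  have htL := W.norm hy hL hty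
  obtain ⟨b, hb, hbb, hb1, htb, hf⟩ := inner_rep W.facts hL htL htt hl hfl hnt
  have hby : b * y = y * b := mem_CC.mp (hL.1.le hb)
  have h3 : t * b ≠ 1 := by
    intro h
    have h4 : t = b := by
      rw [mul_eq_one_iff_eq_inv.mp h, inv_eq_of_mul_eq_one_left hbb]
    exact W.h0 y L hy hL b hb (h4 ▸ ⟨ht, K, hK⟩)
  have h4 : (t * b) * (t * b) = 1 := by
    calc (t * b) * (t * b) = t * (b * t) * b := by group
      _ = (t * t) * (b * b) := by rw [← htb]; group
      _ = 1 := by rw [htt, hbb, one_mul]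
  have h5 : t * b = y := (hR (t * b) 1 (pow_two_pow h4)
    (by rw [mul_assoc, hby, ← mul_assoc, hty, mul_assoc]) hf).resolve_left h3
  -- `b ∈ K`
  obtain ⟨-, hAK⟩ := W.step hy ht hty.symm hL hK hb hbb hb1 htb hf
  obtain ⟨-, hA2, -, -⟩ := cen_inner W.facts hL htt htL hb hbb hb1 htb hf
  refine h2 b (hAK hA2) ?_
  have h6 : y * b = t := by rw [← h5, mul_assoc, hbb, mul_one]
  rw [h6]
  exact fixes_self hK.1.le

end Cfsg.Agent.McLLyComp.CaseOne
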