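import Cfsg.Agent.McLLyComp.WFinal
import Cfsg.Agent.McLLyComp.Asm
import Cfsg.Agent.TypeM.FactsMcL
import Cfsg.Agent.TypeM.OutLyFin
import Cfsg.Agent.Intrinsic.RecogMcL
import Cfsg.Agent.Intrinsic.RecogLy

/-!
# S1739: from the bridge, the end of the wreath pattern and the cited statements
-/

set_option autoImplicit false

open Cfsg Subgroup
open Cfsg.Agent.SignalizersComponents
open Cfsg.Agent.Intrinsic
open Cfsg.Agent.TypeM
open Cfsg.Agent.McLLyComp.CaseOneEnd Cfsg.Agent.McLLyComp.FactsMT Cfsg.Agent.McLLyComp.WFinal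
open Cfsg.Agent.McLLyComp.Defs

universe u

namespace Cfsg.Agent.McLLyComp.Close

theorem order_t {n : ℕ} {X : Type u} [Group X] (L : Two.MT n X) : orderOf L.t = 2 := order_two L.t_ne L.t_mul_t

/-- groups of type `TM 11` are isomorphic to `Ly`, so all their automorphisms are inner -/
theorem inner_eleven (X : Type u) [Group X] [Finite X] (h : TM 11 X) (φ : MulAut X) :
    φ ∈ (MulAut.conj : X →* MulAut X).range := by
  obtain ⟨hs, -, ⟨L⟩⟩ := h
  exact OutLyFin.inner (RecogLy.ly X L.t (order_t L) (CoverTools.isNonsplit_of_cover L.K (by norm_num))) φ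

/-- **S1739** -/
theorem close (hS : Red.SimpleCase.{u}) (hpt : ProductThm.{u}) (hZ : AutSylow.ZStar.{u}) (hWA : WAStmt.{u})
    (hE : EndStmt.{u}) {G : Type u} [Group G] [Finite G]
    (hO : Cfsg.oddCore G = ⊥) (hF : Cfsg.IsQuasisimple ↥(Cfsg.generalizedFittingSubgroup G)) (t : G)
    (ht : orderOf t = 2)
    (K : Subgroup ↥(Subgroup.centralizer ({t} : Set G))) (hK : Cfsg.IsPComponent 2 K) :
    ¬ Cfsg.Spor.IsoMcL (↥K ⧸ Cfsg.oddCore ↥K) ∧ ¬ Cfsg.Spor.IsoLy (↥K ⧸ Cfsg.oddCore ↥K) :=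
  Asm.assemble hS hpt (w_eight hZ hWA hE) (w_eleven hZ hWA hE inner_eleven)
    (fun _ _ h => (FactsMcL.facts h).2) RecogMcL.mcl (fun _ _ h => (FactsLy.facts h).2) RecogLy.ly hO hF t ht K hK

end Cfsg.Agent.McLLyComp.Close
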