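import Cfsg.Agent.McLLyComp.Reduce
import Cfsg.Agent.TypeM.CoverTools
import Cfsg.Agent.TypeM.Two

/-!
# S1739 and S1738: the context

`bridge`: for an involution `z` of a 2-component `K` with quasisimple core-free involution centralizer in
`K / O(K)`, the subgroup `cen K z = O^{2'}(C_K(z))` is a 2-component of `C_H(z)` and maps onto
`C_{K / O(K)}(z)`.

`Ctx 𝒯 n G`: the hypotheses on a minimal counterexample to S1739 which follow from S1738.
-/

set_option autoImplicit false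

open Cfsg Subgroup
open Cfsg.Agent.SignalizersComponents Cfsg.Agent.Lib
open Cfsg.Agent.SignalizersComponents.IntrinsicBasic
open Cfsg.Agent.SignalizersComponents.PLayerAut
open Cfsg.Agent.Intrinsic.Basic Cfsg.Agent.Intrinsic.Cen Cfsg.Agent.Intrinsic.Quot
open Cfsg.Agent.McLLyComp.Defs

universe u

namespace Cfsg.Agent.McLLyComp.NoPair

section bridge

variable {G : Type*} [Group G] [Finite G]

theorem bridge {H K : Subgroup G} {z : G} (hK : IsComp H K) (hz2 : z * z = 1) (hzK : z ∈ K)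
    (hq : IsQuasisimple ↥(centralizer ({(QuotientGroup.mk ⟨z, hzK⟩ : ↥K ⧸ oddCore ↥K)} : Set _)))
    (h2 : 2 ∣ Nat.card ↥(centralizer ({(QuotientGroup.mk ⟨z, hzK⟩ : ↥K ⧸ oddCore ↥K)} : Set _))) :
    IsComp (H ⊓ centralizer ({z} : Set G)) (cen K z) ∧
      centralizer ({(QuotientGroup.mk ⟨z, hzK⟩ : ↥K ⧸ oddCore ↥K)} : Set _) = qs K (cen K z) := by
  obtain ⟨Q, hQ⟩ : ∃ Q : Subgroup (↥K ⧸ oddCore ↥K),
      Q = centralizer ({(QuotientGroup.mk ⟨z, hzK⟩ : ↥K ⧸ oddCore ↥K)} : Set _) := ⟨_, rfl⟩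
  rw [← hQ] at hq h2 ⊢
  have hz1 : z ^ 2 ^ 1 = 1 := by rw [pow_one, pow_two, hz2]
  -- the map
  obtain ⟨g, hg⟩ : ∃ g : ↥(K ⊓ centralizer ({z} : Set G)) →* (↥K ⧸ oddCore ↥K),
      ∀ a, g a = QuotientGroup.mk ⟨a, a.2.1⟩ :=
    ⟨(QuotientGroup.mk' (oddCore ↥K)).comp (inclusion inf_le_left), fun _ => rfl⟩
  have hgr : g.range = Q := by
    rw [hQ]
    apply le_antisymm
    · rintro _ ⟨a, rfl⟩
      rw [mem_centralizer_singleton_iff, hg]
      change (QuotientGroup.mk ⟨(a : G) * z, _⟩ : ↥K ⧸ oddCore ↥K) = QuotientGroup.mk ⟨z * a, _⟩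
      congr 1
      exact Subtype.ext (mem_centralizer_singleton_iff.mp a.2.2)
    · intro x hx
      obtain ⟨⟨k, hk⟩, rfl⟩ := QuotientGroup.mk_surjective x
      rw [mem_centralizer_singleton_iff, mk_comm_iff] at hx
      obtain ⟨o, ho, hc⟩ := Intrinsic.Lifting.exists_commute (odd_card_core K) hz1
        (le_normalizer_core K hzK) hx
      refine ⟨⟨k * o, mul_mem hk (core_le K ho), mem_centralizer_singleton_iff.mpr hc.symm⟩, ?_⟩
      rw [hg, eq_comm, mk_eq_mk_iff']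
      simpa using ho
  obtain ⟨f, hf⟩ : ∃ f : ↥(K ⊓ centralizer ({z} : Set G)) →* ↥Q,
      ∀ a, (f a : ↥K ⧸ oddCore ↥K) = QuotientGroup.mk ⟨a, a.2.1⟩ :=
    ⟨g.codRestrict Q fun a => hgr ▸ ⟨a, rfl⟩, fun a => hg a⟩
  have hfs : Function.Surjective f := by
    rintro ⟨x, hx⟩
    rw [← hgr] at hx
    obtain ⟨a, ha⟩ := hx
    exact ⟨a, Subtype.ext ((hf a).trans ((hg a).symm.trans ha))⟩
  have hfk : Odd (Nat.card f.ker) := by
    have h1 : f.ker.map (K ⊓ centralizer ({z} : Set G)).subtype ≤ core K := by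
      rintro _ ⟨a, ha, rfl⟩
      have h3 := congrArg Subtype.val (MonoidHom.mem_ker.mp ha)
      rw [hf] at h3
      exact (Intrinsic.Quot.mk_eq_one_iff a.2.1).mp h3
    have h3 := card_dvd_of_le h1
    rw [card_map_of_injective (Subgroup.subtype_injective _)] at h3
    exact Odd.of_dvd_nat (odd_card_core K) h3
  have hC : IsComponent (⊤ : Subgroup ↥Q) := by
    refine ⟨Subgroup.IsSubnormal.top, ?_⟩
    exact PCompQuot.quasisimple_congr (topEquiv (G := ↥Q)).symm hq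
  have hC2 : 2 ∣ Nat.card ↥(⊤ : Subgroup ↥Q) := by rwa [card_top]
  obtain ⟨h3, h4⟩ := IntrinsicLift.lift_component f hfs hfk hC hC2
  rw [comap_top] at h3 h4
  have h5 : IsComp (K ⊓ centralizer ({z} : Set G)) (cen K z) := by
    have h6 := isComp_of_subtype h3
    rwa [Intrinsic.Charac.pElem_map_subtype, ← MonoidHom.range_eq_map, range_subtype] at h6
  refine ⟨h5.extend (inf_le_inf_right _ hK.le) ?_, ?_⟩
  · have h6 := (isComp_iff.mp hK).2.1.comap
      (inclusion (inf_le_left : H ⊓ centralizer ({z} : Set G) ≤ H))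
    convert h6 using 1
    ext x
    constructor
    · intro hx
      exact (show (x : G) ∈ K ⊓ centralizer ({z} : Set G) from hx).1
    · intro hx
      exact ⟨hx, x.2.2⟩
  · apply le_antisymm
    · intro x hx
      have h6 : (⟨x, hx⟩ : ↥Q) ∈ (PComponents.pElem 2
          (⊤ : Subgroup ↥(K ⊓ centralizer ({z} : Set G)))).map f := by rw [h4]; exact mem_top _
      obtain ⟨a, ha, hax⟩ := h6
      have h7 : x = QuotientGroup.mk ⟨(a : G), a.2.1⟩ := by
        rw [← hf, hax]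
      have h8 : (a : G) ∈ cen K z := by
        have h9 : (a : G) ∈ (PComponents.pElem 2
            (⊤ : Subgroup ↥(K ⊓ centralizer ({z} : Set G)))).map
            (K ⊓ centralizer ({z} : Set G)).subtype := ⟨a, ha, rfl⟩
        rwa [Intrinsic.Charac.pElem_map_subtype, ← MonoidHom.range_eq_map, range_subtype] at h9
      rw [h7]
      exact (mem_qs a.2.1).mpr ⟨a, ⟨h8, a.2.1⟩, by simp⟩
    · rintro _ ⟨⟨a, haK⟩, ha, rfl⟩
      have h6 : (a : G) ∈ cen K z := ha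
      rw [hQ, mem_centralizer_singleton_iff]
      change (QuotientGroup.mk ⟨a * z, _⟩ : ↥K ⧸ oddCore ↥K) = QuotientGroup.mk ⟨z * a, _⟩
      congr 1
      exact Subtype.ext (comm_of_mem_cen h6)

end bridge

/-- The hypotheses on a minimal counterexample. -/
structure Ctx (𝒯 : Ty.{u}) (n : ℕ) (G : Type u) [Group G] [Finite G] : Prop where
  F : Facts 𝒯
  mt : ∀ {X : Type u} [Group X] [Finite X], 𝒯 X → Nonempty (TypeM.Two.MT n X)
  hn : n = 8 ∨ n = 11
  min : NoT 𝒯 (Nat.card G)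
  pqs : PQS.{u} (Nat.card G)
  pair : ∀ (u : G) (X : Subgroup G), ¬ IsPair n u X
  cent : ∀ x : G, orderOf x = 2 → centralizer ({x} : Set G) ≠ ⊤

variable {𝒯 : Ty.{u}} {n : ℕ} {G : Type u} [Group G] [Finite G]

theorem Ctx.eight_le (h : Ctx 𝒯 n G) : 8 ≤ n := by rcases h.hn with h | h <;> omega

theorem Ctx.card_lt (h : Ctx 𝒯 n G) {x : G} (hx : orderOf x = 2) :
    Nat.card ↥(centralizer ({x} : Set G)) < Nat.card G :=
  lt_of_le_of_ne (card_le_card_group _) fun e => h.cent x hx (eq_top_of_card_eq _ e)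

theorem orderOf_mk {K : Subgroup G} {z : G} (hz : orderOf z = 2) (hzK : z ∈ K) :
    orderOf (QuotientGroup.mk ⟨z, hzK⟩ : ↥K ⧸ oddCore ↥K) = 2 := by
  refine order_two ?_ ?_
  · rw [Ne, Intrinsic.Quot.mk_eq_one_iff]
    intro h
    exact ne_one_of_order hz (eq_one_of_mem_core_sq h (sq_of_order hz))
  · change (QuotientGroup.mk ⟨z * z, _⟩ : ↥K ⧸ oddCore ↥K) = 1
    rw [Intrinsic.Quot.mk_eq_one_iff, sq_of_order hz]
    exact one_mem _

/-- the centralizer of an involution in a group of type `𝒯` is `2.A_n` -/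
theorem Ctx.cover_cent (h : Ctx 𝒯 n G) {X : Type u} [Group X] [Finite X] (hX : 𝒯 X) {b : X}
    (hb : orderOf b = 2) :
    IsNonsplitDoubleCover ↥(centralizer ({b} : Set X)) ↥(alternatingGroup (Fin n)) := by
  obtain ⟨L⟩ := h.mt hX
  obtain ⟨L', rfl⟩ := L.exists_rebase (sq_of_order hb) (ne_one_of_order hb)
  exact TypeM.CoverTools.isNonsplit_of_cover L'.K (by have := h.eight_le; omega)

/-- **The bridge**: the 2-component `cen K z` of `C_H(z)`, `z` an involution of a 2-component `K`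
of type `𝒯`. -/
theorem Ctx.isComp_cen (h : Ctx 𝒯 n G) {H K : Subgroup G} {z : G} (hK : TComp 𝒯 H K)
    (hz : orderOf z = 2) (hzK : z ∈ K) :
    IsComp (H ⊓ centralizer ({z} : Set G)) (cen K z) ∧ Big n z (cen K z) K := by
  have h1 := orderOf_mk hz hzK
  have h2 := h.F.cent_qs hK.2 _ h1
  have h4 : 2 ∣ Nat.card ↥(centralizer
      ({(QuotientGroup.mk ⟨z, hzK⟩ : ↥K ⧸ oddCore ↥K)} : Set (↥K ⧸ oddCore ↥K))) := by
    have h3 := orderOf_dvd_natCard (⟨QuotientGroup.mk ⟨z, hzK⟩, mem_centralizer_singleton_iff.mpr rfl⟩ :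
      ↥(centralizer ({(QuotientGroup.mk ⟨z, hzK⟩ : ↥K ⧸ oddCore ↥K)} : Set (↥K ⧸ oddCore ↥K))))
    rwa [Subgroup.orderOf_mk, h1] at h3
  obtain ⟨h5, h6⟩ := bridge hK.1 (sq_of_order hz) hzK h2 h4
  refine ⟨h5, hzK, h.hn, h.F.simple hK.2, h6, ?_, ?_⟩
  · rw [← h6]
    exact h.F.cent_core hK.2 _ h1
  · intro x hx
    obtain ⟨L⟩ := h.mt hK.2
    exact L.conj_of_involutions (sq_of_order h1) (ne_one_of_order h1) (sq_of_order hx)
      (ne_one_of_order hx)

/-- `cen K z` modulo its core is `2.A_n` -/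
theorem Ctx.cover_cen (h : Ctx 𝒯 n G) {H K : Subgroup G} {z : G} (hK : TComp 𝒯 H K)
    (hz : orderOf z = 2) (hzK : z ∈ K) :
    IsNonsplitDoubleCover (↥(cen K z) ⧸ oddCore ↥(cen K z)) ↥(alternatingGroup (Fin n)) := by
  have h3 := h.cover_cent hK.2 (orderOf_mk hz hzK)
  obtain ⟨_, -, -, h4, h5, -⟩ := (h.isComp_cen hK hz hzK).2
  rw [h4] at h3
  obtain ⟨e, -⟩ := exists_qs_equiv (cen_le K z)
  exact cover_congr (e.trans ((QuotientGroup.quotientMulEquivOfEq h5).trans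
    QuotientGroup.quotientBot)).symm h3

/-- elements of `K` commuting with `z` modulo `O(K)` lie in `cen K z · O(K)` -/
theorem Ctx.exists_of_comm (h : Ctx 𝒯 n G) {H K : Subgroup G} {z : G} (hK : TComp 𝒯 H K)
    (hz : orderOf z = 2) (hzK : z ∈ K) {a : G} (ha : a ∈ K)
    (hc : a⁻¹ * (z * a * z⁻¹) ∈ core K) : ∃ j ∈ cen K z, j⁻¹ * a ∈ core K := by
  obtain ⟨j, hj, h1⟩ := (h.isComp_cen hK hz hzK).2.cent' ha hc
  exact ⟨j, hj.1, h1⟩

theorem Ctx.core_cen (h : Ctx 𝒯 n G) {H K : Subgroup G} {z : G} (hK : TComp 𝒯 H K)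
    (hz : orderOf z = 2) (hzK : z ∈ K) : core (cen K z) = cen K z ⊓ core K :=
  (h.isComp_cen hK hz hzK).2.core_eq (cen_le K z)

omit [Finite G] in
theorem mem_cen_self {z : G} (hz : orderOf z = 2) {K : Subgroup G} (hzK : z ∈ K) : z ∈ cen K z :=
  mem_cen_of_sq hzK rfl (sq_of_order hz)

end Cfsg.Agent.McLLyComp.NoPair
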