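import Cfsg.Agent.McLLyComp.EndMcL

/-!
# Theorem W, type `Ly`, `S₀ ≠ J`: an involution `w ∈ C_{S₀}(t) - J`, `w ∈ K`, and the involutions of `C_{S₀}(t)`
-/

set_option autoImplicit false

open Cfsg Subgroup
open Cfsg.Agent.SignalizersComponents
open Cfsg.Agent.Intrinsic.Basic
open Cfsg.Agent.McLLyComp.Act Cfsg.Agent.McLLyComp.Defs
open Cfsg.Agent.McLLyComp.Lift Cfsg.Agent.McLLyComp.World Cfsg.Agent.McLLyComp.CaseOne
open Cfsg.Agent.McLLyComp.FactsMT Cfsg.Agent.McLLyComp.EndMcL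
open Cfsg.Agent.Wreath.End Cfsg.Agent.Wreath.CommonDef
open Cfsg.Agent.StdEven.Syl

universe u

namespace Cfsg.Agent.McLLyComp.EndLy

variable {G : Type u} [Group G] [Finite G] {t : G} {K : Subgroup G}

/-- all involutions of `K` are conjugate in `K` -/
theorem one_class {n : ℕ} {H : Subgroup G} (hK : TComp (TM.{u} n) H K) {x y : G} (hx : x ∈ K) (hxx : x * x = 1)
    (hx1 : x ≠ 1) (hy : y ∈ K) (hyy : y * y = 1) (hy1 : y ≠ 1) : ∃ k ∈ K, k * x * k⁻¹ = y := by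
  obtain ⟨-, -, ⟨M⟩⟩ := id hK.2
  have h1 : ∀ {x : G} (hx : x ∈ K), x * x = 1 → x ≠ 1 → ∃ g, g * M.t * g⁻¹ = QuotientGroup.mk ⟨x, hx⟩ := by
    intro x hx hxx hx1
    have h2 := mk_order hx hxx hx1
    exact M.one _ (sq_of_order h2) (ne_one_of_order h2)
  obtain ⟨g₁, hg₁⟩ := h1 hx hxx hx1
  obtain ⟨g₂, hg₂⟩ := h1 hy hyy hy1
  obtain ⟨⟨k, hk⟩, hkg⟩ := QuotientGroup.mk_surjective (g₂ * g₁⁻¹)
  have h3 : (QuotientGroup.mk (⟨k * x * k⁻¹, K.mul_mem (K.mul_mem hk hx) (K.inv_mem hk)⟩ : ↥K) : ↥K ⧸ oddCore ↥K) =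
      QuotientGroup.mk ⟨y, hy⟩ := by
    have h4 : (⟨k * x * k⁻¹, K.mul_mem (K.mul_mem hk hx) (K.inv_mem hk)⟩ : ↥K) = ⟨k, hk⟩ * ⟨x, hx⟩ * ⟨k, hk⟩⁻¹ := rfl
    rw [h4, QuotientGroup.mk_mul, QuotientGroup.mk_mul, QuotientGroup.mk_inv, hkg, ← hg₁, ← hg₂]
    group
  rw [mk_eq_iff] at h3
  -- conjugate by the core
  have hx' : (k * x * k⁻¹) * (k * x * k⁻¹) = 1 := by
    calc (k * x * k⁻¹) * (k * x * k⁻¹) = k * (x * x) * k⁻¹ := by group
      _ = 1 := by rw [hxx]; group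
  have hzp : ∀ {x : G}, x * x = 1 → ∀ z ∈ zpowers x, z = 1 ∨ z = x := by
    intro x hxx z hz
    obtain ⟨i, rfl⟩ := mem_zpowers_iff.mp hz
    rcases Int.even_or_odd' i with ⟨j, rfl | rfl⟩
    · left; rw [zpow_mul, zpow_two, hxx, one_zpow]
    · right; rw [zpow_add, zpow_mul, zpow_two, hxx, one_zpow, one_mul, zpow_one]
  obtain ⟨o, ho, hoc⟩ := TypeM.OddConj.conj_exact (O := core K) (T₁ := zpowers (k * x * k⁻¹)) (T₂ := zpowers y)
    (fun z hz => by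
      have h5 : orderOf (⟨z, hz⟩ : core K) ∣ Nat.card (core K) := orderOf_dvd_natCard _
      rw [Subgroup.orderOf_mk] at h5
      exact Odd.of_dvd_nat (odd_card_core K) h5)
    (TwoGroup.isPGroup_zpowers (pow_two_pow hx')) (TwoGroup.isPGroup_zpowers (pow_two_pow hyy))
    (fun z hz o ho => by
      have hzK : z ∈ K := (zpowers_le.mpr hy) hz
      exact conj_mem_core (le_normalizer hzK) ho)
    (fun z hz => by
      rcases hzp hx' z hz with rfl | rfl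
      · exact ⟨1, one_mem _, by simp⟩
      · refine ⟨y, mem_zpowers y, ?_⟩
        have h5 := (core K).inv_mem h3
        rw [mul_inv_rev, inv_inv] at h5
        exact h5)
  have h5 := hoc _ (mem_zpowers _) y (mem_zpowers y) (by
    have h5 := (core K).inv_mem h3
    rw [mul_inv_rev, inv_inv] at h5
    exact h5)
  refine ⟨o * k, K.mul_mem (core_le K ho) hk, ?_⟩
  rw [← h5]
  group

variable {u' : G} {A M₁ M₂ : Subgroup G} {h : Inp t u' A M₁ M₂} {S S₀ : Subgroup G}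

/-- counting: the Sylow 2-subgroup has an involution outside `B` -/
theorem exists_involution {L : Type*} [Group L] [Finite L] (P : Sylow 2 L) {B : Subgroup L} (hB2 : IsPGroup 2 B)
    {w : L} (hww : w * w = 1) (hwB : w ∉ B) (hnorm : ∀ x ∈ B, w * x * w⁻¹ ∈ B) :
    ∃ p ∈ P, p * p = 1 ∧ p ∉ B := by
  have hp : Fact (Nat.Prime 2) := ⟨Nat.prime_two⟩
  by_contra hcon
  push Not at hcon
  have hwn : zpowers w ≤ normalizer (B : Set L) := zpowers_le.mpr (mem_normalizer_of_conj_le hnorm)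
  have hQ : IsPGroup 2 (zpowers w ⊔ B : Subgroup L) :=
    IsPGroup.to_sup_of_normal_right' (TwoGroup.isPGroup_zpowers (pow_two_pow hww)) hB2 hwn
  obtain ⟨Q, hQ'⟩ := hQ.exists_le_sylow
  obtain ⟨x, hx⟩ := MulAction.exists_smul_eq L Q P
  have h1 : ∀ q ∈ (zpowers w ⊔ B : Subgroup L), q * q = 1 → x * q * x⁻¹ ∈ B := by
    intro q hq hqq
    apply hcon
    · rw [← hx]
      exact ⟨q, hQ' hq, rfl⟩
    · calc x * q * x⁻¹ * (x * q * x⁻¹) = x * (q * q) * x⁻¹ := by group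
        _ = 1 := by rw [hqq]; group
  have h2 : ((fun q => x * q * x⁻¹) '' {q : L | q ∈ (zpowers w ⊔ B : Subgroup L) ∧ q * q = 1}) ⊆
      {q : L | q ∈ B ∧ q * q = 1} := by
    rintro _ ⟨q, ⟨hq, hqq⟩, rfl⟩
    refine ⟨h1 q hq hqq, ?_⟩
    show x * q * x⁻¹ * (x * q * x⁻¹) = 1
    calc x * q * x⁻¹ * (x * q * x⁻¹) = x * (q * q) * x⁻¹ := by group
      _ = 1 := by rw [hqq]; group
  have h3 := Set.ncard_le_ncard h2 (Set.toFinite _)
  rw [Set.ncard_image_of_injective _ (fun a b hab => mul_left_cancel (mul_right_cancel hab))] at h3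
  have h4 : {q : L | q ∈ B ∧ q * q = 1} ⊂ {q : L | q ∈ (zpowers w ⊔ B : Subgroup L) ∧ q * q = 1} := by
    refine ⟨fun q hq => ⟨(le_sup_right : B ≤ zpowers w ⊔ B) hq.1, hq.2⟩, fun h5 => ?_⟩
    exact hwB (h5 (show w ∈ {q : L | q ∈ (zpowers w ⊔ B : Subgroup L) ∧ q * q = 1} from
      ⟨(le_sup_left : zpowers w ≤ zpowers w ⊔ B) (mem_zpowers w), hww⟩)).1
  have h5 := Set.ncard_lt_ncard h4 (Set.toFinite _)
  omega

/-- **`Ly`, `S₀ ≠ J`.** -/
theorem ly {n : ℕ} (W : CaseI (TM.{u} n) G) (ht : orderOf t = 2)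
    (hK : TComp (TM n) (centralizer ({t} : Set G)) K) (hT : Tight t K)
    (hin : ∀ φ : MulAut (↥K ⧸ oddCore ↥K),
      φ ∈ (MulAut.conj : ↥K ⧸ oddCore ↥K →* MulAut (↥K ⧸ oddCore ↥K)).range)
    (c : Com h S S₀) (hne : S₀ ≠ h.J) (hA : ∀ a ∈ A, pr t a a ∈ K)
    (hfus : ∃ k ∈ K, k * k = 1 ∧ k ≠ 1 ∧ IsConj t (t * k))
    {B : Subgroup (↥K ⧸ oddCore ↥K)} (hB2 : IsPGroup 2 B)
    (hBA : ∀ (a : G) (ha : a ∈ A), (QuotientGroup.mk ⟨pr t a a, hA a ha⟩ : ↥K ⧸ oddCore ↥K) ∈ B)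
    {w₁ : ↥K ⧸ oddCore ↥K} (hw₁ : w₁ * w₁ = 1) (hw₁B : w₁ ∉ B) (hnorm : ∀ x ∈ B, w₁ * x * w₁⁻¹ ∈ B)
    {M : Subgroup G} (hKM : K ≤ M) :
    ∃ w ∈ S₀, w ∉ h.J ∧ w * w = 1 ∧ w * t = t * w ∧ w ∈ M ∧ (∃ g, g * t * g⁻¹ = t * w) ∧
      ∀ y ∈ S₀, y * y = 1 → y ≠ 1 → y * t = t * y → ∃ g, g * t = t * g ∧ g * y * g⁻¹ = pr t u' u' := by
  have hp : Fact (Nat.Prime 2) := ⟨Nat.prime_two⟩
  have hn := cen_le_norm W ht hK
  have hKC : K ≤ centralizer ({t} : Set G) := hK.1.le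
  have hKt : ∀ k ∈ K, k * t = t * k := fun k hk => mem_centralizer_singleton_iff.mp (hKC hk)
  have htt := sq_of_order ht
  -- `t ~ t k` for all involutions `k ∈ K`
  have hfus' : ∀ k ∈ K, k * k = 1 → k ≠ 1 → ∃ g, g * t * g⁻¹ = t * k := by
    intro k hk hkk hk1
    obtain ⟨k₀, hk₀, hkk₀, hk₀1, hc⟩ := hfus
    obtain ⟨g, hg⟩ := isConj_iff.mp hc
    obtain ⟨x, hx, hxk⟩ := one_class hK hk₀ hkk₀ hk₀1 hk hkk hk1
    refine ⟨x * g, ?_⟩
    calc x * g * t * (x * g)⁻¹ = x * (g * t * g⁻¹) * x⁻¹ := by group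
      _ = (x * t) * k₀ * x⁻¹ := by rw [hg]; group
      _ = t * (x * k₀ * x⁻¹) := by rw [hKt x hx]; group
      _ = t * k := by rw [hxk]
  -- involutions of `C_{S₀}(t)` lie in `K`
  have hmemK : ∀ y ∈ S₀, y * y = 1 → y ≠ 1 → y * t = t * y → y ∈ K := by
    intro y hy hyy hy1 hyt
    have hyn := hn (mem_centralizer_singleton_iff.mpr hyt)
    by_cases hf : Fixes y K
    · exfalso
      rcases hT y 1 (pow_two_pow hyy) hyt hf with h1 | h1
      · exact hy1 h1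
      · exact c.t_notMem (h1 ▸ hy)
    obtain ⟨g, hg⟩ := hin (act K ⟨y, hyn⟩)
    obtain ⟨⟨k, hk⟩, rfl⟩ := QuotientGroup.mk_surjective g
    have hfk : Fixes (y * k⁻¹) K := by
      rw [← act_eq_one_iff (mul_mem hyn (inv_mem (le_normalizer hk))), act_mul hyn (inv_mem (le_normalizer hk)),
        act_inv (le_normalizer hk), act_of_mem hk, ← hg, mul_inv_cancel]
    obtain ⟨b, hb, hbb, hb1, hyb, hfb⟩ := inner_rep W.facts hK hyn hyy (K.inv_mem hk) hfk hf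
    have h1 : (y * b) * (y * b) = 1 := by
      calc (y * b) * (y * b) = y * (b * y) * b := by group
        _ = (y * y) * (b * b) := by rw [← hyb]; group
        _ = 1 := by rw [hyy, hbb, one_mul]
    have h2 : (y * b) * t = t * (y * b) := by rw [mul_assoc, hKt b hb, ← mul_assoc, hyt, mul_assoc]
    rcases hT (y * b) 1 (pow_two_pow h1) h2 hfb with h3 | h3
    · rw [mul_eq_one_iff_eq_inv.mp h3]
      exact K.inv_mem hb
    · exfalso
      obtain ⟨g, hg⟩ := hfus' b hb hbb hb1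
      apply c.noT g
      have h4 : y = t * b := by rw [← h3, mul_assoc, hbb, mul_one]
      rw [hg, ← h4]
      exact hy
  -- the involution `w`
  obtain ⟨hsyl, -⟩ := c.sylt hne
  have hP : IsSyl ((S ⊓ centralizer ({t} : Set G)) ⊓ K) K := hsyl.inf_normal hKC hn
  obtain ⟨p, hpP, hpp, hpB⟩ := exists_involution
    (hP.toSylow.mapSurjective (f := QuotientGroup.mk' (oddCore ↥K)) (QuotientGroup.mk'_surjective _))
    hB2 hw₁ hw₁B hnorm
  obtain ⟨⟨w, hwK⟩, hw, rfl⟩ : p ∈ (hP.toSylow : Subgroup ↥K).map (QuotientGroup.mk' (oddCore ↥K)) := hpP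
  have hwP : w ∈ (S ⊓ centralizer ({t} : Set G)) ⊓ K := hw
  have hwS := hwP.1.1
  have hwt := hKt w hwK
  have hww : w * w = 1 := by
    have h1 : (QuotientGroup.mk (⟨w * w, K.mul_mem hwK hwK⟩ : ↥K) : ↥K ⧸ oddCore ↥K) = 1 := hpp
    rw [Act.mk_eq_one_iff] at h1
    obtain ⟨n, hn⟩ := TwoGroup.two_elt hP.two ((hP.toSylow : Subgroup ↥K).mul_mem hw hw : w * w ∈ _)
    exact eq_one_of_mem_core h1 hn
  have hw1 : w ≠ 1 := by
    rintro rfl
    apply hpB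
    have h1 : QuotientGroup.mk' (oddCore ↥K) (⟨1, hwK⟩ : ↥K) = 1 := map_one _
    rw [h1]
    exact B.one_mem
  have hwS₀ : w ∈ S₀ := by
    rcases c.idx w hwS with h1 | h1
    · exact h1
    · exfalso
      obtain ⟨g, hg⟩ := hfus' w hwK hww hw1
      apply c.noT g
      rw [hg, ← hwt]
      exact h1
  refine ⟨w, hwS₀, fun hwJ => ?_, hww, hwt, hKM hwK, hfus' w hwK hww hw1, ?_⟩
  · obtain ⟨a, ha, e⟩ := eq_pr_of_comm h hwJ hwt
    apply hpB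
    have h1 := hBA a ha
    have h2 : (⟨w, hwK⟩ : ↥K) = ⟨pr t a a, hA a ha⟩ := Subtype.ext e
    rw [h2]
    exact h1
  · intro y hy hyy hy1 hyt
    have hz : pr t u' u' * pr t u' u' = 1 := by
      rw [h.pr_mul h.u_mem_A h.u_mem_A h.u_mem_A h.u_mem_A, h.u_sq, h.pr_one_one]
    have hz1 : pr t u' u' ≠ 1 := fun e => h.facts.u_ne (h.pr_eq_one h.u_mem_A h.u_mem_A e).1
    obtain ⟨k, hk, hky⟩ := one_class hK (hmemK y hy hyy hy1 hyt) hyy hy1 (hA u' h.u_mem_A) hz hz1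
    exact ⟨k, hKt k hk, hky⟩

end Cfsg.Agent.McLLyComp.EndLy
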