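import Cfsg.Agent.McLLyComp.CaseOne

/-!
# Auxiliary facts on 2-subgroups
-/

set_option autoImplicit false

open Cfsg Subgroup
open Cfsg.Agent.SignalizersComponents
open Cfsg.Agent.SignalizersComponents.IntrinsicBasic

namespace Cfsg.Agent.McLLyComp.TwoGroup

variable {G : Type*} [Group G] [Finite G]

theorem two_dvd {V : Subgroup G} (hV2 : IsPGroup 2 V) (hV : V ≠ ⊥) : 2 ∣ Nat.card V := by
  have hp : Fact (Nat.Prime 2) := ⟨Nat.prime_two⟩
  have hnt : Nontrivial V := (Subgroup.nontrivial_iff_ne_bot V).mpr hV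
  obtain ⟨n, hn0, hn⟩ := hV2.nontrivial_iff_card.mp hnt
  rw [hn]
  exact dvd_pow_self _ hn0.ne'

/-- a 2-group `N` acting on the 2-group `V ≠ 1` centralizes some element of `V` -/
theorem exists_fixed {N V : Subgroup G} (hN : IsPGroup 2 N) (hV2 : IsPGroup 2 V) (hV : V ≠ ⊥)
    (hn : N ≤ normalizer (V : Set G)) : ∃ s ∈ V, s ≠ 1 ∧ ∀ n ∈ N, n * s = s * n := by
  have hp : Fact (Nat.Prime 2) := ⟨Nat.prime_two⟩
  let act : MulAction ↥N ↥V :=
    { smul := fun n v => ⟨(n : G) * v * (n : G)⁻¹, (mem_normalizer_iff.mp (hn n.2) v).mp v.2⟩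
      one_smul := fun v => Subtype.ext (by
        change (1 : G) * (v : G) * (1 : G)⁻¹ = v
        simp)
      mul_smul := fun a b v => Subtype.ext (by
        change ((a : G) * b) * (v : G) * ((a : G) * b)⁻¹ = (a : G) * ((b : G) * v * (b : G)⁻¹) * (a : G)⁻¹
        group) }
  have h1 : (1 : ↥V) ∈ MulAction.fixedPoints ↥N ↥V := by
    intro n
    apply Subtype.ext
    change (n : G) * (1 : G) * (n : G)⁻¹ = 1
    group
  obtain ⟨b, hb, hb1⟩ := hN.exists_fixed_point_of_prime_dvd_card_of_fixed_point ↥V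
    (two_dvd hV2 hV) h1
  refine ⟨b, b.2, fun h => hb1 (Subtype.ext h.symm), fun n hnN => ?_⟩
  have h2 : (n : G) * (b : G) * (n : G)⁻¹ = b := congrArg Subtype.val (hb ⟨n, hnN⟩)
  calc n * (b : G) = (n * (b : G) * n⁻¹) * n := by group
    _ = b * n := by rw [h2]

theorem exists_conj_le {H P : Subgroup G} (T : Sylow 2 ↥H) (hP : IsPGroup 2 P) (hPH : P ≤ H) :
    ∃ g ∈ H, cj g P ≤ (T : Subgroup ↥H).map H.subtype := by
  have hp : Fact (Nat.Prime 2) := ⟨Nat.prime_two⟩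
  have h1 : IsPGroup 2 (P.subgroupOf H) := hP.comap_of_injective H.subtype H.subtype_injective
  obtain ⟨Q, hQ⟩ := h1.exists_le_sylow
  obtain ⟨g, hg⟩ := MulAction.exists_smul_eq ↥H Q T
  refine ⟨g, g.2, ?_⟩
  rintro _ ⟨x, hx, rfl⟩
  have hx' : (⟨x, hPH hx⟩ : ↥H) ∈ Q := hQ hx
  have h2 : g * ⟨x, hPH hx⟩ * g⁻¹ ∈ (T : Subgroup ↥H) := by
    rw [← hg]
    exact ⟨_, hx', rfl⟩
  exact ⟨_, h2, rfl⟩

theorem exists_conj_le' {H P : Subgroup G} (S : Sylow 2 G) (hS : (S : Subgroup G) ≤ H)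
    (hP : IsPGroup 2 P) (hPH : P ≤ H) : ∃ g ∈ H, cj g P ≤ (S : Subgroup G) := by
  obtain ⟨g, hg, h⟩ := exists_conj_le (S.subtype hS) hP hPH
  refine ⟨g, hg, h.trans ?_⟩
  rw [Sylow.coe_subtype, subgroupOf_map_subtype]
  exact inf_le_left

theorem isPGroup_zpowers {x : G} {n : ℕ} (hn : x ^ 2 ^ n = 1) : IsPGroup 2 (zpowers x) := by
  rintro ⟨_, k, rfl⟩
  refine ⟨n, ?_⟩
  apply Subtype.ext
  change (x ^ k) ^ 2 ^ n = 1
  rw [← zpow_natCast, ← zpow_mul, mul_comm, zpow_mul, zpow_natCast, hn, one_zpow]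

theorem exists_conj_mem {H : Subgroup G} (S : Sylow 2 G) (hS : (S : Subgroup G) ≤ H)
    {x : G} {n : ℕ} (hn : x ^ 2 ^ n = 1) (hx : x ∈ H) : ∃ g ∈ H, g * x * g⁻¹ ∈ (S : Subgroup G) := by
  obtain ⟨g, hg, h⟩ := exists_conj_le' S hS (isPGroup_zpowers hn) ((zpowers_le).mpr hx)
  exact ⟨g, hg, h (conj_mem_cj (mem_zpowers x))⟩

theorem two_elt {P : Subgroup G} (hP : IsPGroup 2 P) {x : G} (hx : x ∈ P) :
    ∃ n : ℕ, x ^ 2 ^ n = 1 := by
  obtain ⟨n, hn⟩ := hP ⟨x, hx⟩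
  exact ⟨n, by simpa using congrArg Subtype.val hn⟩

/-- the 2-part of the order -/
theorem le_factorization {P H : Subgroup G} {a : ℕ} (hP : Nat.card P = 2 ^ a) (h : P ≤ H) :
    a ≤ (Nat.card H).factorization 2 := by
  have h1 : 2 ^ a ∣ Nat.card H := hP ▸ card_dvd_of_le h
  exact (Nat.prime_two.pow_dvd_iff_le_factorization Nat.card_pos.ne').mp h1

end Cfsg.Agent.McLLyComp.TwoGroup
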