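import Cfsg.Agent.McLLyComp.Order
import Cfsg.Agent.McLLyComp.TwoGroup
import Cfsg.Agent.TypeM.OuterInvol
import Cfsg.Agent.TypeM.OddConj
import Cfsg.Agent.Wreath.CFive

/-!
# Theorem W, type `McL`, `S₀ ≠ J`: an involution `w ∈ C_{S₀}(t) - J` and `f : C(t) → ±1` with `f t = 1`, `f w = -1`
-/

set_option autoImplicit false

open Cfsg Subgroup
open Cfsg.Agent.SignalizersComponents
open Cfsg.Agent.Intrinsic.Basic
open Cfsg.Agent.McLLyComp.Act Cfsg.Agent.McLLyComp.Defs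
open Cfsg.Agent.McLLyComp.Lift Cfsg.Agent.McLLyComp.World Cfsg.Agent.McLLyComp.CaseOne
open Cfsg.Agent.McLLyComp.FactsMT
open Cfsg.Agent.Wreath.End Cfsg.Agent.Wreath.CommonDef
open Cfsg.Agent.StdEven.Syl

universe u

namespace Cfsg.Agent.McLLyComp.EndMcL

variable {𝒯 : Ty.{u}} {G : Type u} [Group G] [Finite G]

/-- the action of `C(t)` on `K / O(K)` -/
noncomputable def Φ {t : G} {K : Subgroup G} (hn : centralizer ({t} : Set G) ≤ normalizer (K : Set G)) :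
    ↥(centralizer ({t} : Set G)) →* MulAut (↥K ⧸ oddCore ↥K) := (act K).comp (Subgroup.inclusion hn)

theorem cen_le_norm (W : CaseI 𝒯 G) {t : G} {K : Subgroup G} (ht : orderOf t = 2)
    (hK : TComp 𝒯 (centralizer ({t} : Set G)) K) :
    centralizer ({t} : Set G) ≤ normalizer (K : Set G) := fun _ hg =>
  W.norm ht hK (mem_centralizer_singleton_iff.mp hg)

variable {t : G} {K : Subgroup G} (hn : centralizer ({t} : Set G) ≤ normalizer (K : Set G))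

theorem Φ_eq_one_iff {x : G} (hx : x ∈ centralizer ({t} : Set G)) : Φ hn ⟨x, hx⟩ = 1 ↔ Fixes x K :=
  act_eq_one_iff (hn hx)

theorem Φ_of_mem {k : G} (hk : k ∈ K) (hkt : k ∈ centralizer ({t} : Set G)) :
    Φ hn ⟨k, hkt⟩ = MulAut.conj (QuotientGroup.mk ⟨k, hk⟩) := act_of_mem hk

/-- 2-subgroups of `C(t)` inducing inner automorphisms -/
theorem card_inner (hT : Tight t K) {a m : ℕ} (hc : Nat.card (↥K ⧸ oddCore ↥K) = 2 ^ a * m) (hm : ¬ 2 ∣ m)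
    {T : Subgroup G} (hT2 : IsPGroup 2 T) (hTt : T ≤ centralizer ({t} : Set G))
    (hin : ∀ (x : G) (hx : x ∈ T), Φ hn ⟨x, hTt hx⟩ ∈
      (MulAut.conj : ↥K ⧸ oddCore ↥K →* MulAut (↥K ⧸ oddCore ↥K)).range) :
    Nat.card T ≤ 2 ^ (a + 1) := by
  let f : ↥T →* MulAut (↥K ⧸ oddCore ↥K) := (Φ hn).comp (Subgroup.inclusion hTt)
  have h1 : Nat.card f.range ≤ 2 ^ a := by
    refine Order.card_inner_le hc hm ?_ ?_
    · have h2 : IsPGroup 2 (⊤ : Subgroup ↥T) := hT2.to_subgroup ⊤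
      have h3 := h2.map f
      rwa [← MonoidHom.range_eq_map] at h3
    · rintro _ ⟨⟨x, hx⟩, rfl⟩
      exact hin x hx
  have h2 : Nat.card f.ker ≤ 2 := by
    have h3 : ∀ x : ↥T, x ∈ f.ker → (x : G) = 1 ∨ (x : G) = t := by
      intro x hx
      have hx1 : Φ hn ⟨x, hTt x.2⟩ = 1 := hx
      have hx2 := (Φ_eq_one_iff hn (hTt x.2)).mp hx1
      obtain ⟨k, hk⟩ := hT2 x
      exact hT x k (by simpa using congrArg Subtype.val hk) (mem_centralizer_singleton_iff.mp (hTt x.2)) hx2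
    have h4 : Nat.card f.ker ≤ Nat.card ({1, t} : Set G) := by
      refine Nat.card_le_card_of_injective
        (fun x : f.ker => (⟨((x : ↥T) : G), by
          rcases h3 x x.2 with h | h
          · exact Or.inl h
          · exact Or.inr h⟩ : ({1, t} : Set G))) ?_
      intro x y hxy
      have hxy' : ((x : ↥T) : G) = ((y : ↥T) : G) := Subtype.mk_eq_mk.mp hxy
      exact Subtype.ext (Subtype.ext hxy')
    refine h4.trans ?_
    rw [Nat.card_coe_set_eq]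
    exact (Set.ncard_insert_le _ _).trans (by rw [Set.ncard_singleton])
  have h3 : Nat.card ↥T = Nat.card f.ker * Nat.card f.range := by
    rw [← Subgroup.card_mul_index f.ker, Subgroup.index_ker]
  rw [h3, pow_succ, mul_comm]
  exact Nat.mul_le_mul h1 h2

section

variable {u' : G} {A M₁ M₂ : Subgroup G} {h : Inp t u' A M₁ M₂} {S S₀ : Subgroup G}

/-- an element of `C_J(t)` -/
theorem eq_pr_of_comm (h : Inp t u' A M₁ M₂) {w : G} (hw : w ∈ h.J) (hwt : w * t = t * w) :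
    ∃ a ∈ A, w = pr t a a := by
  obtain ⟨a, ha, b, hb, rfl⟩ := h.mem_J.mp hw
  have h1 : t * pr t a b * t = pr t a b := by rw [← hwt, mul_assoc, h.t_sq, mul_one]
  rw [h.pr_swap ha hb] at h1
  obtain ⟨h2, -⟩ := h.pr_inj hb ha ha hb h1
  exact ⟨a, ha, by rw [h2]⟩

/-- **`McL`, `S₀ ≠ J`.** -/
theorem mcl (W : CaseI (TM.{u} 8) G) (ht : orderOf t = 2)
    (hK : TComp (TM 8) (centralizer ({t} : Set G)) K) (hT : Tight t K) (c : Com h S S₀) (hne : S₀ ≠ h.J)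
    (hA : ∀ a ∈ A, pr t a a ∈ K) :
    ∃ w ∈ S₀, w ∉ h.J ∧ w * w = 1 ∧ w * t = t * w ∧
      ∃ f : ↥(centralizer ({t} : Set G)) →* ℤˣ, f ⟨t, mem_centralizer_singleton_iff.mpr rfl⟩ = 1 ∧
        ∀ hw : w ∈ centralizer ({t} : Set G), f ⟨w, hw⟩ = -1 := by
  have hn := cen_le_norm W ht hK
  obtain ⟨hsimp, hord, ⟨M⟩⟩ := id hK.2
  have hcard : Nat.card (↥K ⧸ oddCore ↥K) = 2 ^ 7 * 7016625 := by
    rcases hord with ⟨-, h⟩ | ⟨h, -⟩
    · rw [h]; norm_num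
    · exact absurd h (by norm_num)
  obtain ⟨I, hI⟩ : ∃ I, I = (MulAut.conj : ↥K ⧸ oddCore ↥K →* MulAut (↥K ⧸ oddCore ↥K)).range := ⟨_, rfl⟩
  have hIn : I.Normal := by
    constructor
    rintro x hx φ
    rw [hI] at hx ⊢
    obtain ⟨g, rfl⟩ := hx
    refine ⟨φ g, ?_⟩
    ext y
    simp [MulAut.mul_apply, MulAut.conj_apply]
  have ho3 : ∀ φ ψ : MulAut (↥K ⧸ oddCore ↥K), φ ∉ I → ψ ∉ I → φ * ψ ∈ I := by
    intro φ ψ hφ hψ
    rw [hI] at hφ hψ ⊢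
    obtain ⟨g, hg⟩ := TypeM.FactsAut.mul_inner M (Or.inl rfl) (TypeM.FactsAut.gen M hord)
      (fun g h => hφ ⟨g, h.symm⟩) (fun g h => hψ ⟨g, h.symm⟩)
    exact ⟨g, hg.symm⟩
  have htt := sq_of_order ht
  have htC : t ∈ centralizer ({t} : Set G) := mem_centralizer_singleton_iff.mpr rfl
  have hKC : K ≤ centralizer ({t} : Set G) := hK.1.le
  have hft : Φ hn ⟨t, htC⟩ = 1 := (Φ_eq_one_iff hn htC).mpr (fixes_self hKC)
  have hΦK : ∀ {k : G} (hk : k ∈ K), Φ hn ⟨k, hKC hk⟩ ∈ I := fun {k} hk => by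
    rw [Φ_of_mem hn hk, hI]; exact ⟨_, rfl⟩
  obtain ⟨hsyl, hsylc⟩ := c.sylt hne
  -- an element inducing an outer automorphism
  obtain ⟨b, hb, hbI⟩ : ∃ (b : G) (hb : b ∈ S ⊓ centralizer ({t} : Set G)), Φ hn ⟨b, hb.2⟩ ∉ I := by
    by_contra hcon
    push Not at hcon
    have h1 := card_inner hn hT hcard (by norm_num) hsyl.two hsyl.le (fun x hx => hI ▸ hcon x hx)
    rw [hsylc] at h1
    norm_num at h1
  -- an outer involution
  obtain ⟨φ, hφI, hφφ⟩ := TypeM.OuterInvol.exists_outer_involution M (Or.inl rfl) (TypeM.FactsAut.gen M hord)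
    ⟨_, hI ▸ hbI⟩
  rw [← hI] at hφI
  have hbI' : (Φ hn ⟨b, hb.2⟩)⁻¹ ∉ I := fun h => hbI (by simpa using I.inv_mem h)
  have h2 := ho3 _ _ hφI hbI'
  rw [hI] at h2
  obtain ⟨k', hk'⟩ := h2
  obtain ⟨⟨k, hk⟩, rfl⟩ := QuotientGroup.mk_surjective k'
  obtain ⟨c₁, hc₁⟩ : ∃ c₁ : ↥(centralizer ({t} : Set G)), c₁ = ⟨k, hKC hk⟩ * ⟨b, hb.2⟩ := ⟨_, rfl⟩
  have hΦc₁ : Φ hn c₁ = φ := by
    rw [hc₁, map_mul, Φ_of_mem hn hk, show (MulAut.conj (QuotientGroup.mk (⟨k, hk⟩ : ↥K)) :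
      MulAut (↥K ⧸ oddCore ↥K)) = _ from hk', inv_mul_cancel_right]
  -- a 2-element inducing it
  obtain ⟨m, ⟨q, hq⟩, n, hn2⟩ := TypeM.OddConj.exists_two_pow c₁
  obtain ⟨c₂, hc₂⟩ : ∃ c₂, c₂ = c₁ ^ m := ⟨_, rfl⟩
  have hΦc₂ : Φ hn c₂ = φ := by
    rw [hc₂, map_pow, hΦc₁, hq, pow_succ, pow_mul, pow_two, hφφ, one_pow, one_mul]
  rw [← hc₂] at hn2
  have hcc : ((c₂ : G) * c₂ = 1) ∨ ((c₂ : G) * c₂ = t) := by
    have h3 : Φ hn (c₂ * c₂) = 1 := by rw [map_mul, hΦc₂, hφφ]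
    refine hT _ n ?_ ?_ ((Φ_eq_one_iff hn (c₂ * c₂).2).mp h3)
    · have h4 := congrArg Subtype.val hn2
      have h5 : ((c₂ : G)) ^ 2 ^ n = 1 := h4
      rw [← pow_two, ← pow_mul, mul_comm, pow_mul, h5, one_pow]
    · exact mem_centralizer_singleton_iff.mp (c₂ * c₂).2
  -- conjugate it into `S`
  have hzp : IsPGroup 2 (zpowers (c₂ : G)) := TwoGroup.isPGroup_zpowers (n := n) (congrArg Subtype.val hn2)
  obtain ⟨g, hg, hgS⟩ := hsyl.exists_conj hzp (zpowers_le.mpr c₂.2)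
  have hgS' := hgS _ (mem_zpowers _)
  have hgt := mem_centralizer_singleton_iff.mp hg
  obtain ⟨d, hd⟩ : ∃ d, d = g * (c₂ : G) * g⁻¹ := ⟨_, rfl⟩
  rw [← hd] at hgS'
  have hdt := mem_centralizer_singleton_iff.mp hgS'.2
  have hΦd : Φ hn ⟨d, hgS'.2⟩ ∉ I := by
    intro h3
    have h4 : (⟨d, hgS'.2⟩ : ↥(centralizer ({t} : Set G))) = ⟨g, hg⟩ * c₂ * ⟨g, hg⟩⁻¹ := Subtype.ext hd
    rw [h4, map_mul, map_mul, map_inv, hΦc₂] at h3
    have h5 := hIn.conj_mem _ h3 (Φ hn ⟨g, hg⟩)⁻¹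
    rw [inv_inv] at h5
    apply hφI
    have h6 : (Φ hn ⟨g, hg⟩)⁻¹ * (Φ hn ⟨g, hg⟩ * φ * (Φ hn ⟨g, hg⟩)⁻¹) * Φ hn ⟨g, hg⟩ = φ := by group
    rwa [h6] at h5
  have hdd : d * d = 1 := by
    have h3 : d * d = g * ((c₂ : G) * c₂) * g⁻¹ := by rw [hd]; group
    rcases hcc with h4 | h4
    · rw [h3, h4]; group
    · exfalso
      have h5 : d * d = t := by rw [h3, h4, hgt, mul_inv_cancel_right]
      apply c.t_notMem
      rcases c.idx d hgS'.1 with h6 | h6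
      · rw [← h5]; exact S₀.mul_mem h6 h6
      · have h7 := S₀.mul_mem h6 h6
        have h8 : d * t * (d * t) = t := by
          calc d * t * (d * t) = d * (t * d) * t := by group
            _ = (d * d) * (t * t) := by rw [← hdt]; group
            _ = t := by rw [h5, htt, mul_one]
        rwa [h8] at h7
  -- the involution `w`
  obtain ⟨w, hwS, hww, hwt, hwI⟩ : ∃ w ∈ S₀, w * w = 1 ∧ w * t = t * w ∧
      ∀ hw : w ∈ centralizer ({t} : Set G), Φ hn ⟨w, hw⟩ ∉ I := by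
    rcases c.idx d hgS'.1 with h6 | h6
    · exact ⟨d, h6, hdd, hdt, fun _ => hΦd⟩
    · refine ⟨d * t, h6, ?_, by rw [mul_assoc, ← mul_assoc t d t, ← hdt, mul_assoc], fun hw => ?_⟩
      · calc d * t * (d * t) = d * (t * d) * t := by group
          _ = (d * d) * (t * t) := by rw [← hdt]; group
          _ = 1 := by rw [hdd, htt, mul_one]
      · have h7 : (⟨d * t, hw⟩ : ↥(centralizer ({t} : Set G))) = ⟨d, hgS'.2⟩ * ⟨t, htC⟩ := rfl
        rw [h7, map_mul, hft, mul_one]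
        exact hΦd
  have hwC : w ∈ centralizer ({t} : Set G) := mem_centralizer_singleton_iff.mpr hwt
  have hwI' := hwI hwC
  refine ⟨w, hwS, fun hwJ => ?_, hww, hwt, ?_⟩
  · obtain ⟨a, ha, rfl⟩ := eq_pr_of_comm h hwJ hwt
    exact hwI' (hΦK (hA a ha))
  · -- the homomorphism
    obtain ⟨N, hN⟩ : ∃ N : Subgroup ↥(centralizer ({t} : Set G)), N = I.comap (Φ hn) := ⟨_, rfl⟩
    have hNn : N.Normal := hN ▸ hIn.comap _
    have hmem : ∀ x, x ∈ N ↔ Φ hn x ∈ I := fun x => by rw [hN]; rfl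
    have hidx : N.index = 2 := by
      rw [Subgroup.index_eq_two_iff]
      refine ⟨⟨w, hwC⟩, fun x => ?_⟩
      rw [hmem, hmem, map_mul]
      by_cases hx : Φ hn x ∈ I
      · right
        refine ⟨hx, fun h3 => hwI' ?_⟩
        have h4 := I.mul_mem (I.inv_mem hx) h3
        rwa [inv_mul_cancel_left] at h4
      · left
        exact ⟨ho3 _ _ hx hwI', hx⟩
    obtain ⟨f, hf⟩ := Cfsg.Agent.Wreath.CFive.exists_hom hNn hidx
    refine ⟨f, ?_, fun hw => ?_⟩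
    · rw [hf, hmem, hft]; exact I.one_mem
    · rcases Int.units_eq_one_or (f ⟨w, hw⟩) with h3 | h3
      · rw [hf, hmem] at h3
        exact absurd h3 hwI'
      · exact h3

end

end Cfsg.Agent.McLLyComp.EndMcL
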