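import Cfsg.Agent.McLLyComp.SimpleMT
import Cfsg.Agent.TypeM.FactsMcL
import Cfsg.Agent.TypeM.FactsLy
import Cfsg.Agent.J2Type.CStruct
import Cfsg.Agent.McLType.Final
import Cfsg.Agent.S1660

/-!
# Automorphisms of finite groups with one class of involutions and centraliser `2.A_n`, `n = 8, 11` (helper279)

The fields `simple`, `fix`, `outer`, `sq` of `McLLyComp.Facts` for `𝒯 X = Nonempty (MT n X)`, and the order
(`orderEq`) and the isomorphism type (`iso_mcl`, `iso_ly`) of these groups.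
-/

set_option autoImplicit false

namespace Cfsg.Agent.McLLyComp.FactsAutMT

open Subgroup Equiv Cfsg.Agent.SporRec.TwoAn Cfsg.Agent.TypeM.Two Cfsg.Agent.TypeM.CoverTools Cfsg.Agent.TypeM.FactsAut
open Cfsg.Agent.SporadicRecognition.AltCover

section

variable {G : Type*} [Group G] [Finite G]

theorem iso_mcl (L : MT 8 G) : Cfsg.Spor.IsoMcL G := by
  obtain ⟨π, hπ, -⟩ := exists_isCover_of L.K (by norm_num)
  have hz : L.K.z = ⟨L.t, mem_centralizer_singleton_iff.2 rfl⟩ := Subtype.ext L.hz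
  rw [hz] at hπ
  obtain ⟨u, hu, hu1, hut, hc⟩ := exists_u L (Or.inl rfl)
  obtain ⟨g, hg⟩ := L.one u hu hu1
  exact Cfsg.Agent.McLType.Final.isoMcL hπ ⟨g, by rw [hg]; exact hut, by rw [hg]; exact hc⟩

theorem iso_ly (L : MT 11 G) : Cfsg.Spor.IsoLy G := by
  have hs : IsSimpleGroup G := SimpleMT.simple L (Or.inr rfl)
  exact Cfsg.Agent.S1660.result L.t L.orderOf_t (isNonsplit_of_cover L.K (by norm_num))

theorem orderEq {n : ℕ} (L : MT n G) (hn : n = 8 ∨ n = 11) : OrderEq n G := by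
  rcases hn with rfl | rfl
  · exact Or.inl ⟨rfl, (Cfsg.Agent.TypeM.FactsMcL.facts (iso_mcl L)).2.2.1⟩
  · exact Or.inr ⟨rfl, (Cfsg.Agent.TypeM.FactsLy.facts (iso_ly L)).2.2.1⟩

theorem gen' {n : ℕ} (L : MT n G) (hn : n = 8 ∨ n = 11) : Gen L := gen L (orderEq L hn)

variable {n : ℕ}

theorem fix (hn : n = 8 ∨ n = 11) (L : MT n G) {b : G} (hb : orderOf b = 2) {α : MulAut G}
    (h : ∀ x : G, x * b = b * x → α x = x) : α = 1 ∨ α = MulAut.conj b := by
  have hbb : b * b = 1 := by rw [← pow_two, ← hb, pow_orderOf_eq_one]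
  have hb1 : b ≠ 1 := by rintro rfl; rw [orderOf_one] at hb; omega
  obtain ⟨L', hL'⟩ := L.exists_rebase hbb hb1
  subst hL'
  exact eq_one_or_conj L' hn (gen' L' hn) fun g hg => h g (mem_centralizer_singleton_iff.1 hg)

theorem sq (hn : n = 8 ∨ n = 11) (L : MT n G) (γ : MulAut G) : ∃ x : G, γ * γ = MulAut.conj x := by
  by_cases h : ∃ x, γ = MulAut.conj x
  · obtain ⟨x, rfl⟩ := h
    exact ⟨x * x, (map_mul _ _ _).symm⟩
  · push Not at h
    exact mul_inner L hn (gen' L hn) h h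

/-- An automorphism of order two fixes an involution. -/
theorem exists_fixed (L : MT n G) {β : MulAut G} (hβ : β * β = 1) : ∃ s : G, s * s = 1 ∧ s ≠ 1 ∧ β s = s := by
  classical
  let I : Type _ := {y : G // ∃ k : G, k * L.t * k⁻¹ = y}
  have hinv : ∀ y : G, (∃ k : G, k * L.t * k⁻¹ = y) ↔ y * y = 1 ∧ y ≠ 1 := by
    intro y
    constructor
    · rintro ⟨k, rfl⟩
      constructor
      · calc k * L.t * k⁻¹ * (k * L.t * k⁻¹) = k * (L.t * L.t) * k⁻¹ := by group
          _ = 1 := by rw [L.t_mul_t]; group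
      · intro h
        apply L.t_ne
        calc L.t = k⁻¹ * (k * L.t * k⁻¹) * k := by group
          _ = 1 := by rw [h]; group
    · rintro ⟨h1, h2⟩
      exact L.one y h1 h2
  have hβI : ∀ y : G, (∃ k : G, k * L.t * k⁻¹ = y) → ∃ k : G, k * L.t * k⁻¹ = β y := by
    intro y hy
    rw [hinv] at hy ⊢
    refine ⟨by rw [← map_mul, hy.1, map_one], fun h => hy.2 ?_⟩
    exact β.injective (h.trans (map_one β).symm)
  let f : Function.End I := fun y => ⟨β y, hβI y y.2⟩
  have hf : f ^ 2 ^ 1 = 1 := by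
    funext y
    apply Subtype.ext
    show β (β y) = y
    rw [← MulAut.mul_apply, hβ]; rfl
  have hIfin : Finite I := Subtype.finite
  have : Fintype I := Fintype.ofFinite I
  have h1 := Equiv.Perm.card_fixedPoints_modEq (p := 2) (n := 1) hf
  have hodd : Odd (Fintype.card I) := by
    have h2 := Cfsg.Agent.J2Type.CStruct.card_conj L.t
    have h3 : Nat.card {k : G // k * L.t = L.t * k} = Nat.card (centralizer ({L.t} : Set G)) :=
      Nat.card_congr (Equiv.subtypeEquivRight fun k => mem_centralizer_singleton_iff.symm)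
    rw [h3, ← (centralizer ({L.t} : Set G)).card_mul_index, mul_comm] at h2
    have h4 := Nat.eq_of_mul_eq_mul_left Nat.card_pos h2
    rw [← Nat.card_eq_fintype_card]
    show Odd (Nat.card {y : G // ∃ k : G, k * L.t * k⁻¹ = y})
    rw [h4]
    exact odd_index L
  have h5 : 0 < Fintype.card (Function.fixedPoints f) := by
    rw [Nat.pos_iff_ne_zero]
    intro h0
    rw [h0] at h1
    rw [Nat.odd_iff] at hodd
    have h6 : Fintype.card I % 2 = 0 % 2 := h1
    omega
  obtain ⟨⟨y, hy⟩⟩ := Fintype.card_pos_iff.1 h5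
  have hy' : f y = y := hy
  exact ⟨y, ((hinv y).1 y.2).1, ((hinv y).1 y.2).2, congrArg Subtype.val hy'⟩

theorem outer (hn : n = 8 ∨ n = 11) (L : MT n G) {β : MulAut G} (hβ : β * β = 1) (hout : ∀ x : G, β ≠ MulAut.conj x) :
    ∃ m c : G, m * (β m)⁻¹ = c * c ∧ c * c ≠ 1 ∧ (c * c) * (c * c) = 1 ∧ β c = c := by
  obtain ⟨s, hs, hs1, hβs⟩ := exists_fixed L hβ
  obtain ⟨L', hL'⟩ := L.exists_rebase hs hs1
  subst hL'
  obtain ⟨⟨a, ha, haβ⟩, q, hq, hqβ, hqq⟩ := exists_neg_pos L' hn (gen' L' hn) hout hβs (fun g _ => by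
    rw [← MulAut.mul_apply, hβ]; rfl)
  refine ⟨a, q, ?_, ?_, ?_, hqβ⟩
  · rw [haβ, hqq, mul_inv_rev, L'.t_inv, ← mul_assoc, ha, mul_inv_cancel_right]
  · rw [hqq]; exact L'.t_ne
  · rw [hqq]; exact L'.t_mul_t

end

end Cfsg.Agent.McLLyComp.FactsAutMT
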