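import Cfsg.Agent.McLLyComp.Lift

/-!
# Minimal counterexamples: `C_G(F*(G)) = 1`, 2-components of type `𝒯` lie in `F*(G)`
-/

set_option autoImplicit false

open Cfsg Subgroup
open Cfsg.Agent.SignalizersComponents Cfsg.Agent.Lib
open Cfsg.Agent.SignalizersComponents.IntrinsicBasic
open Cfsg.Agent.SignalizersComponents.PLayerAut
open Cfsg.Agent.Intrinsic.Basic Cfsg.Agent.Intrinsic.Cen Cfsg.Agent.Intrinsic.Quot
open Cfsg.Agent.McLLyComp.Act Cfsg.Agent.McLLyComp.MapComp Cfsg.Agent.McLLyComp.Defs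
open Cfsg.Agent.McLLyComp.Reduce Cfsg.Agent.McLLyComp.Lift
open scoped commutatorElement

universe u

namespace Cfsg.Agent.McLLyComp.World

variable {G : Type u} [Group G] [Finite G]

/-- `F*(G)` -/
local notation "FS" G => (generalizedFittingSubgroup G)

omit [Finite G] in
theorem core_top : core (⊤ : Subgroup G) = oddCore G :=
  Cores.map_equiv_pPrimeCore (Subgroup.topEquiv (G := G)) 2

omit [Finite G] in
theorem even_fs (hO : oddCore G = ⊥) (hF : IsQuasisimple ↥(FS G)) : 2 ∣ Nat.card ↥(FS G) := by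
  have hn : (FS G).Normal := GenFitting.genFitting_normal
  by_contra h
  have h1 : (Nat.card ↥(FS G)).Coprime 2 :=
    ((Nat.Prime.coprime_iff_not_dvd Nat.prime_two).mpr h).symm
  have h2 : (FS G) ≤ oddCore G := Cores.le_pPrimeCore hn h1
  rw [hO, le_bot_iff] at h2
  have h3 := Components.quasisimple_nontrivial hF
  rw [h2] at h3
  exact not_nontrivial _ h3

theorem core_fs (hO : oddCore G = ⊥) : core (FS G) = ⊥ := by
  have hn : (FS G).Normal := GenFitting.genFitting_normal
  have h1 := core_eq_inf_of_subnormal (H := ⊤) (S := FS G) le_top (hn.subgroupOf ⊤).isSubnormal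
  rw [h1, core_top, hO, inf_bot_eq]

theorem isComp_fs (hO : oddCore G = ⊥) (hF : IsQuasisimple ↥(FS G)) :
    IsComp (⊤ : Subgroup G) (FS G) := by
  have hn : (FS G).Normal := GenFitting.genFitting_normal
  refine isComp_iff.mpr ⟨le_top, (hn.subgroupOf ⊤).isSubnormal, ?_, ?_⟩
  · have h1 : oddCore ↥(FS G) = ⊥ := by
      have := core_fs hO
      rw [core, Subgroup.map_eq_bot_iff_of_injective _ (Subgroup.subtype_injective _)] at this
      exact this
    have e : (↥(FS G) ⧸ oddCore ↥(FS G)) ≃* ↥(FS G) :=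
      (QuotientGroup.quotientMulEquivOfEq h1).trans QuotientGroup.quotientBot
    exact Components.isQuasisimple_of_mulEquiv e.symm hF
  · exact IntrinsicLift.pElem_component ⟨hn.isSubnormal, hF⟩ (even_fs hO hF)

theorem eq_fs (hO : oddCore G = ⊥) (hF : IsQuasisimple ↥(FS G)) {J : Subgroup G}
    (hJ : IsComp (⊤ : Subgroup G) J) : J = FS G := by
  by_contra hne
  have h1 := hJ.comm_le_core (isComp_fs hO hF) hne
  rw [core_fs hO, inf_bot_eq, le_bot_iff] at h1
  have h2 : J ≤ centralizer ((FS G : Subgroup G) : Set G) := by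
    rwa [← Subgroup.commutator_eq_bot_iff_le_centralizer]
  have h3 : J ≤ FS G := h2.trans GenFitting.centralizer_genFitting_le
  have h4 : ⁅J, J⁆ = ⊥ := by
    rw [eq_bot_iff, ← h1]
    exact commutator_mono le_rfl h3
  rw [hJ.perfect] at h4
  exact hJ.ne_bot h4

/-- 2-components of centralizers of involutions lie in `F*(G)`. -/
theorem comp_le_fs (hO : oddCore G = ⊥) (hF : IsQuasisimple ↥(FS G)) {t : G} (htt : t * t = 1)
    {K : Subgroup G} (hK : IsComp (centralizer ({t} : Set G)) K) : K ≤ FS G := by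
  have hn : (FS G).Normal := GenFitting.genFitting_normal
  have hK' : IsComp (⊤ ⊓ centralizer ({t} : Set G)) K := by rwa [top_inf_eq]
  obtain ⟨J, hJ, -, h | h⟩ := PumpT.exists_pump (mem_top t) htt hK'
  · rw [← eq_fs hO hF hJ]; exact h.2
  · exfalso
    apply h.1
    rw [eq_fs hO hF hJ, ← mem_normalizer_iff_cj, normalizer_eq_top]
    trivial

/-- `t` does not centralize `F*(G)` -/
theorem not_fixes_fs {𝒯 : Ty.{u}} (F : Facts 𝒯) (hO : oddCore G = ⊥) (hF : IsQuasisimple ↥(FS G))
    {t : G} (ht : orderOf t = 2) {K : Subgroup G} (hK : TComp 𝒯 (centralizer ({t} : Set G)) K) :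
    ¬ t ∈ centralizer ((FS G : Subgroup G) : Set G) := by
  intro h
  have hn : (FS G).Normal := GenFitting.genFitting_normal
  have htE : t ∈ FS G := GenFitting.centralizer_genFitting_le h
  have hEC : (FS G) ≤ centralizer ({t} : Set G) := by
    intro x hx
    rw [mem_centralizer_singleton_iff]
    exact mem_centralizer_iff.mp h x hx
  have hE : IsComp (centralizer ({t} : Set G)) (FS G) :=
    (isComp_fs hO hF).restrict le_top hEC
  have h1 := hK.1.eq_of_le hE (comp_le_fs hO hF (sq_of_order ht) hK.1)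
  have h2 : Fixes t K := by
    refine ⟨le_normalizer (h1 ▸ htE), fun y hy => ?_⟩
    have h3 : ⁅t, y⁆ = 1 := by
      rw [commutatorElement_eq_one_iff_mul_comm]
      exact (mem_centralizer_singleton_iff.mp (hK.1.le hy)).symm
    rw [h3]
    exact one_mem _
  exact not_fixes_of_mem F hK (h1 ▸ htE) (sq_of_order ht) (ne_one_of_order ht) h2

/-- minimal counterexamples have `C_G(F*(G)) = 1` -/
theorem centralizer_fs {𝒯 : Ty.{u}} (F : Facts 𝒯) (hO : oddCore G = ⊥)
    (hF : IsQuasisimple ↥(FS G)) (hmin : NoT 𝒯 (Nat.card G)) {t : G} (ht : orderOf t = 2)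
    {K : Subgroup G} (hK : TComp 𝒯 (centralizer ({t} : Set G)) K) :
    centralizer ((FS G : Subgroup G) : Set G) = ⊥ := by
  by_contra hne
  have hn : (FS G).Normal := GenFitting.genFitting_normal
  have htt := sq_of_order ht
  have hEc := isComp_fs hO hF
  have hK' : TComp 𝒯 (⊤ ⊓ centralizer ({t} : Set G)) K := by rwa [top_inf_eq]
  have hnt : normalizer ((FS G : Subgroup G) : Set G) = ⊤ := normalizer_eq_top _
  have hall : ∀ x : G, x ∈ normalizer ((FS G : Subgroup G) : Set G) := fun x => by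
    rw [hnt]; exact mem_top x
  have htn := hall t
  -- an element in the kernel
  obtain ⟨⟨z, hz⟩, hz1'⟩ := (Subgroup.ne_bot_iff_exists_ne_one).mp hne
  have hz1 : z ≠ 1 := fun h => hz1' (Subtype.ext h)
  have hcard : Nat.card (actH (⊤ : Subgroup G) (FS G)).range < Nat.card G := by
    have h1 := (actH (⊤ : Subgroup G) (FS G)).ker.card_eq_card_quotient_mul_card_subgroup
    have h2 : Nat.card (↥(⊤ ⊓ normalizer ((FS G : Subgroup G) : Set G)) ⧸
        (actH (⊤ : Subgroup G) (FS G)).ker) = Nat.card (actH (⊤ : Subgroup G) (FS G)).range :=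
      Nat.card_congr (QuotientGroup.quotientKerEquivRange _).toEquiv
    have h3 : 1 < Nat.card (actH (⊤ : Subgroup G) (FS G)).ker := by
      rw [Finite.one_lt_card_iff_nontrivial, Subgroup.nontrivial_iff_exists_ne_one]
      refine ⟨⟨z, mem_top z, hall z⟩, ?_, fun h => hz1 (congrArg Subtype.val h)⟩
      rw [MonoidHom.mem_ker, actH_apply]
      apply (act_eq_one_iff (hall z)).mpr
      refine ⟨hall z, fun y hy => ?_⟩
      have h3 : ⁅z, y⁆ = 1 := by
        rw [commutatorElement_eq_one_iff_mul_comm]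
        exact (mem_centralizer_iff.mp hz y hy).symm
      rw [h3]
      exact one_mem _
    have h4 : Nat.card ↥(⊤ ⊓ normalizer ((FS G : Subgroup G) : Set G)) ≤ Nat.card G :=
      Nat.card_le_card_of_injective _ (Subgroup.subtype_injective _)
    have h5 : 0 < Nat.card (actH (⊤ : Subgroup G) (FS G)).range := Nat.card_pos
    rw [h2] at h1
    rw [h1] at h4
    nlinarith
  have hf := fixes_of_min' F hmin hcard (mem_top t) htt hK' hEc htn
    (comp_le_fs hO hF htt hK.1)
  apply not_fixes_fs F hO hF ht hK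
  rw [mem_centralizer_iff]
  intro y hy
  have h1 := hf.2 y hy
  rw [core_fs hO, mem_bot, commutatorElement_eq_one_iff_mul_comm] at h1
  exact h1.symm

/-- a minimal counterexample -/
structure Min (𝒯 : Ty.{u}) (G : Type u) [Group G] [Finite G] : Prop where
  facts : Facts 𝒯
  core : oddCore G = ⊥
  qs : IsQuasisimple ↥(FS G)
  min : NoT 𝒯 (Nat.card G)
  cent : centralizer ((FS G : Subgroup G) : Set G) = ⊥

variable {𝒯 : Ty.{u}}

theorem Min.of (F : Facts 𝒯) (hO : oddCore G = ⊥)
    (hF : IsQuasisimple ↥(FS G)) (hmin : NoT 𝒯 (Nat.card G)) {t : G} (ht : Bad 𝒯 t) :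
    Min 𝒯 G := by
  obtain ⟨h1, K, hK⟩ := ht
  exact ⟨F, hO, hF, hmin, centralizer_fs F hO hF hmin h1 hK⟩

theorem Min.card_lt (W : Min 𝒯 G) {t : G} (ht : t ≠ 1) :
    Nat.card (centralizer ({t} : Set G)) < Nat.card G := by
  refine lt_of_le_of_ne (Nat.card_le_card_of_injective _ (Subgroup.subtype_injective _)) ?_
  intro h
  have h1 := Subgroup.eq_top_of_card_eq _ h
  apply ht
  rw [← mem_bot, ← W.cent, mem_centralizer_iff]
  intro y _
  have h2 : y ∈ centralizer ({t} : Set G) := by rw [h1]; trivial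
  exact mem_centralizer_singleton_iff.mp h2

/-- pump-up in a minimal counterexample -/
theorem Min.pump (W : Min 𝒯 G) {t s : G} {Z : Subgroup G} (ht : t ≠ 1) (hst : s * t = t * s)
    (hss : s * s = 1) (hZ : TComp 𝒯 (centralizer ({t} : Set G) ⊓ centralizer ({s} : Set G)) Z) :
    ∃ J, TComp 𝒯 (centralizer ({t} : Set G)) J ∧ ((Fixes s J ∧ Z = cen J s ∧ Z ⊔ Cfsg.Agent.Intrinsic.Basic.core J = J) ∨
      (cj s J ≠ J ∧ Z = Intrinsic.Diag.diag (centralizer ({t} : Set G)) J s)) :=
  Reduce.pump W.facts W.min (W.card_lt ht) (mem_centralizer_singleton_iff.mpr hst) hss hZ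

/-- the final contradiction: commuting normal subgroups -/
theorem Min.false_of_commute (W : Min 𝒯 G) {t i : G} {K A B : Subgroup G} (ht : orderOf t = 2)
    (hK : TComp 𝒯 (centralizer ({t} : Set G)) K) (hB : B.Normal) (hi : i ≠ 1)
    (hiA : i ∈ A) (hKB : K ≤ B) (hAB : ⁅A, B⁆ = ⊥) : False := by
  have hKE := comp_le_fs W.core W.qs (sq_of_order ht) hK.1
  have h1 : (B.subgroupOf (FS G)).Normal := inferInstance
  rcases (Components.quasisimple_normal W.qs _ h1).symm with h | h
  · -- `K` is abelian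
    have h2 : ⁅K, K⁆ = ⊥ := by
      rw [eq_bot_iff, commutator_le]
      intro a ha b hb
      have h3 : (⟨b, hKE hb⟩ : ↥(FS G)) ∈ B.subgroupOf (FS G) := hKB hb
      have h4 := mem_center_iff.mp (h h3) ⟨a, hKE ha⟩
      rw [mem_bot, commutatorElement_eq_one_iff_mul_comm]
      exact congrArg Subtype.val h4
    rw [hK.1.perfect] at h2
    exact hK.1.ne_bot h2
  · rw [subgroupOf_eq_top] at h
    apply hi
    rw [← mem_bot, ← W.cent, mem_centralizer_iff]
    intro y hy
    have h2 : ⁅i, y⁆ ∈ (⊥ : Subgroup G) := hAB ▸ commutator_mem_commutator hiA (h hy)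
    rw [mem_bot, commutatorElement_eq_one_iff_mul_comm] at h2
    exact h2.symm

end Cfsg.Agent.McLLyComp.World
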