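import Cfsg.Agent.McLLyComp.NoPair
import Cfsg.Agent.McLLyComp.World
import Cfsg.Agent.Intrinsic.RedMain

/-!
# Minimal counterexamples to S1739 satisfy the hypotheses `Ctx` (by S1738)
-/

set_option autoImplicit false

open Cfsg Subgroup
open Cfsg.Agent.SignalizersComponents Cfsg.Agent.Lib
open Cfsg.Agent.SignalizersComponents.IntrinsicBasic
open Cfsg.Agent.SignalizersComponents.PLayerAut
open Cfsg.Agent.Intrinsic.Basic Cfsg.Agent.Intrinsic.Cen Cfsg.Agent.Intrinsic.Quot
open Cfsg.Agent.McLLyComp.Defs Cfsg.Agent.McLLyComp.World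

universe u

namespace Cfsg.Agent.McLLyComp.NoPair

variable {𝒯 : Ty.{u}} {n : ℕ} {G : Type u} [Group G] [Finite G]

theorem not_isPair (W : Min 𝒯 G) (hpqs : ∀ N, PQS.{u} N) (hn : 8 ≤ n) {c : ℕ}
    (hc1 : ∀ (X : Type u) [Group X] [Finite X], 𝒯 X → Nat.card X = c)
    (hc2 : ∀ (X : Type u) [Group X] [Finite X] [IsSimpleGroup X] (z : X), orderOf z = 2 →
      IsNonsplitDoubleCover ↥(centralizer ({z} : Set X)) ↥(alternatingGroup (Fin n)) →
        Nat.card X = c) {t : G} (ht : Bad 𝒯 t) (u : G) (X : Subgroup G) : ¬ IsPair n u X := by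
  intro hp
  obtain ⟨F, hF⟩ : ∃ F, F = generalizedFittingSubgroup G := ⟨_, rfl⟩
  have hcent := W.cent
  have hqs := W.qs
  have hcore := core_fs W.core (G := G)
  rw [← hF] at hcent hqs hcore
  have hXF : X ≤ F := hF ▸ comp_le_fs W.core W.qs hp.sq hp.comp
  have hOF : oddCore ↥F = ⊥ := by
    rw [core, Subgroup.map_eq_bot_iff_of_injective _ (Subgroup.subtype_injective _)] at hcore
    exact hcore
  have hpF := Intrinsic.Red.pair_restrict hp F hXF
  rcases hpqs (Nat.card ↥F + 1) ↥F (Nat.lt_succ_self _) hqs hOF n hn _ _ hpF with h | hT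
  · apply hp.ne_one
    rw [← mem_bot, ← hcent, mem_centralizer_iff]
    intro y hy
    exact congrArg Subtype.val (mem_center_iff.mp h ⟨y, hy⟩)
  · obtain ⟨-, hs, hC, hb, -⟩ := hT
    have hcov : IsNonsplitDoubleCover
        ↥(centralizer ({(⟨u, hXF hp.mem⟩ : ↥F)} : Set ↥F)) ↥(alternatingGroup (Fin n)) := by
      refine cover_congr ?_ hpF.cover
      exact (QuotientGroup.quotientMulEquivOfEq hb).trans (QuotientGroup.quotientBot.trans
        (MulEquiv.subgroupCongr hC.symm))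
    have h1 := hc2 ↥F _ hpF.inv hcov
    obtain ⟨ht2, K, hK⟩ := ht
    have hKF : K ≤ F := hF ▸ comp_le_fs W.core W.qs (sq_of_order ht2) hK.1
    have h2 := hc1 _ hK.2
    have h3 : Nat.card ↥F ≤ Nat.card ↥K := by
      rw [h1, ← h2]
      exact card_quot_le K
    have h4 : K = F := Subgroup.eq_of_le_of_card_ge hKF h3
    apply ne_one_of_order ht2
    rw [← mem_bot, ← hcent, mem_centralizer_iff]
    intro y hy
    rw [← h4] at hy
    exact mem_centralizer_singleton_iff.mp (hK.1.le hy)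

/-- The context of `NoPair` for a minimal counterexample. -/
theorem ctx_of_min (W : Min 𝒯 G) (hn : n = 8 ∨ n = 11) (hpqs : ∀ N, PQS.{u} N)
    (mt : ∀ {X : Type u} [Group X] [Finite X], 𝒯 X → Nonempty (TypeM.Two.MT n X)) {c : ℕ}
    (hc1 : ∀ (X : Type u) [Group X] [Finite X], 𝒯 X → Nat.card X = c)
    (hc2 : ∀ (X : Type u) [Group X] [Finite X] [IsSimpleGroup X] (z : X), orderOf z = 2 →
      IsNonsplitDoubleCover ↥(centralizer ({z} : Set X)) ↥(alternatingGroup (Fin n)) →
        Nat.card X = c) {t : G} (ht : Bad 𝒯 t) : Ctx 𝒯 n G where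
  F := W.facts
  mt := mt
  hn := hn
  min := W.min
  pqs := hpqs _
  pair := not_isPair W hpqs (by omega) hc1 hc2 ht
  cent := fun x hx e => by
    have h1 := W.card_lt (ne_one_of_order hx)
    rw [e, card_top] at h1
    exact lt_irrefl _ h1

end Cfsg.Agent.McLLyComp.NoPair
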