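import Cfsg.Agent.McLLyComp.NoBad
import Cfsg.Agent.McLLyComp.OfMin
import Cfsg.Agent.McLLyComp.CaseOne

/-!
# S1739: the induction frame

`WStmt 𝒯` is Theorem W (the tight case), `TightStmt 𝒯` is the end of Case I.
-/

set_option autoImplicit false

open Cfsg Subgroup
open Cfsg.Agent.SignalizersComponents Cfsg.Agent.Lib
open Cfsg.Agent.SignalizersComponents.IntrinsicBasic
open Cfsg.Agent.Intrinsic Cfsg.Agent.Intrinsic.Basic Cfsg.Agent.Intrinsic.Cen
open Cfsg.Agent.McLLyComp.Defs Cfsg.Agent.McLLyComp.World Cfsg.Agent.McLLyComp.CaseOne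
open Cfsg.Agent.McLLyComp.NoPair

universe u

namespace Cfsg.Agent.McLLyComp.Main

/-- the end of Case I: all type-`𝒯` components are tight -/
def TightStmt (𝒯 : Ty.{u}) : Prop :=
  ∀ (G : Type u) [Group G] [Finite G], CaseI 𝒯 G → ∀ (t : G) (K : Subgroup G), orderOf t = 2 →
    TComp 𝒯 (centralizer ({t} : Set G)) K → Tight t K

/-- Theorem W -/
def WStmt (𝒯 : Ty.{u}) : Prop :=
  ∀ (G : Type u) [Group G] [Finite G], CaseI 𝒯 G → ∀ (t : G) (K : Subgroup G), orderOf t = 2 →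
    TComp 𝒯 (centralizer ({t} : Set G)) K → Tight t K → False

/-- The facts on the type `𝒯` and `n` used in the frame. -/
structure Type' (𝒯 : Ty.{u}) (n c : ℕ) : Prop where
  F : Facts 𝒯
  hn : n = 8 ∨ n = 11
  mt : ∀ {X : Type u} [Group X] [Finite X], 𝒯 X → Nonempty (TypeM.Two.MT n X)
  hc1 : ∀ (X : Type u) [Group X] [Finite X], 𝒯 X → Nat.card X = c
  hc2 : ∀ (X : Type u) [Group X] [Finite X] [IsSimpleGroup X] (z : X), orderOf z = 2 →
      IsNonsplitDoubleCover ↥(centralizer ({z} : Set X)) ↥(alternatingGroup (Fin n)) →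
        Nat.card X = c

variable {𝒯 : Ty.{u}} {n c : ℕ}

/-- A minimal counterexample is in Case I. -/
theorem caseI (hS : Red.SimpleCase.{u}) (T : Type' 𝒯 n c) {G : Type u} [Group G] [Finite G]
    (W : Min 𝒯 G) {t : G} (ht : Bad 𝒯 t) : CaseI 𝒯 G where
  toMin := W
  h0 := fun _ _ hs hL _ hz hb => NoBad.not_bad
    (ctx_of_min W T.hn (Red.pqs_all hS) T.mt T.hc1 T.hc2 ht) hs hL hb.1 hz hb

theorem noT (hS : Red.SimpleCase.{u}) (T : Type' 𝒯 n c) (hT : TightStmt 𝒯) (hW : WStmt 𝒯) (N : ℕ) :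
    NoT 𝒯 N := by
  induction N using Nat.strong_induction_on with
  | _ N ih =>
    intro X _ _ hcard hO hF t ht K hK
    have hb : Bad 𝒯 t := ⟨ht, K, hK⟩
    have W : Min 𝒯 X := Min.of T.F hO hF (ih _ hcard) hb
    have h1 := caseI hS T W hb
    exact hW X h1 t K ht hK (hT X h1 t K ht hK)

/-- S1739 for one type. -/
theorem not_type (hS : Red.SimpleCase.{u}) (T : Type' 𝒯 n c) (hT : TightStmt 𝒯) (hW : WStmt 𝒯)
    {G : Type u} [Group G] [Finite G]
    (hO : Cfsg.oddCore G = ⊥) (hF : Cfsg.IsQuasisimple ↥(Cfsg.generalizedFittingSubgroup G)) (t : G)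
    (ht : orderOf t = 2) (K : Subgroup ↥(Subgroup.centralizer ({t} : Set G)))
    (hK : Cfsg.IsPComponent 2 K) : ¬ 𝒯 (↥K ⧸ Cfsg.oddCore ↥K) := by
  intro h
  let L := K.map (centralizer ({t} : Set G)).subtype
  let e0 : ↥K ≃* ↥L := K.equivMapOfInjective _ (centralizer ({t} : Set G)).subtype_injective
  have h1 : 𝒯 (↥L ⧸ oddCore ↥L) :=
    T.F.iso (QuotientGroup.congr _ _ e0 (Lib.Cores.map_equiv_pPrimeCore e0 2)) h
  exact noT hS T hT hW (Nat.card G + 1) G (Nat.lt_succ_self _) hO hF t ht L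
    ⟨isComp_of_subtype hK, h1⟩

end Cfsg.Agent.McLLyComp.Main
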