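import Cfsg.Agent.McLLyComp.TzOr
import Cfsg.Agent.McLLyComp.Main
import Cfsg.Agent.TypeM.GlueW
import Cfsg.Agent.TypeM.Bridge

/-!
# The entry of Theorem W

From Case I and a tight pair `(t, K)`: the two frames of Theorem W (`GlueW.exists_double`) for `K → K / O(K)`.
-/

set_option autoImplicit false

open Cfsg Subgroup
open Cfsg.Agent.SignalizersComponents
open Cfsg.Agent.Intrinsic.Basic
open Cfsg.Agent.TypeM Cfsg.Agent.TypeM.Glue Cfsg.Agent.TypeM.GlueW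
open Cfsg.Agent.McLLyComp.Act Cfsg.Agent.McLLyComp.Defs
open Cfsg.Agent.McLLyComp.Lift Cfsg.Agent.McLLyComp.World Cfsg.Agent.McLLyComp.CaseOne

universe u

namespace Cfsg.Agent.McLLyComp.Frames

/-- the facts on a simple group `L` of type `McL` or `Ly` used in Theorem W -/
structure LF {L : Type*} [Group L] (ε s ε' s' : ℕ → L) : Prop where
  F : LFacts ε s ε' s'
  o1 : ∀ φ : MulAut L, (∀ i < 16, ∃ j < 16, φ (ε i) = ε j) → φ ∈ (MulAut.conj : L →* MulAut L).range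
  o1' : ∀ φ : MulAut L, (∀ i < 16, ∃ j < 16, φ (ε' i) = ε' j) → φ ∈ (MulAut.conj : L →* MulAut L).range
  o2 : ∀ φ : MulAut L, φ * φ = 1 → ∀ A : Subgroup L, (∀ x ∈ A, x * x = 1) → Nat.card A = 8 →
    (∀ x ∈ A, φ x = x) → φ ∈ (MulAut.conj : L →* MulAut L).range
  o3 : ∀ φ ψ : MulAut L, φ ∉ (MulAut.conj : L →* MulAut L).range → ψ ∉ (MulAut.conj : L →* MulAut L).range →
    φ * ψ ∈ (MulAut.conj : L →* MulAut L).range

/-- the facts hold for all groups of type `𝒯` -/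
def LStmt (𝒯 : Ty.{u}) : Prop :=
  ∀ (L : Type u) [Group L] [Finite L], 𝒯 L → ∃ ε s ε' s' : ℕ → L, LF ε s ε' s'

variable {𝒯 : Ty.{u}} {G : Type u} [Group G] [Finite G]

/-- `K → K / O(K)` is as required in Theorem W. -/
theorem lhyp (W : CaseI 𝒯 G) {t : G} {K : Subgroup G} (ht : orderOf t = 2)
    (hK : TComp 𝒯 (centralizer ({t} : Set G)) K) (hT : Tight t K) :
    LHyp t K (QuotientGroup.mk' (oddCore ↥K)) :=
  Bridge.lhyp W.facts ht hK (fun _ hc => W.norm ht hK hc)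
    (fun x ⟨n, hn⟩ hx hf => hT x n hn hx hf) (fun z hz => W.h0 t K ht hK z hz)

/-- **The two frames.** -/
theorem exists_frames (hZ : AutSylow.ZStar.{u}) (W : CaseI 𝒯 G) {t : G} {K : Subgroup G} (ht : orderOf t = 2)
    (hK : TComp 𝒯 (centralizer ({t} : Set G)) K) (hT : Tight t K)
    {ε s ε' s' : ℕ → ↥K ⧸ oddCore ↥K} (h : LF ε s ε' s') :
    ∃ e f μ σ e' f' μ' σ' : ℕ → G, IsLift (QuotientGroup.mk' (oddCore ↥K)) ε s e f ∧
      IsLift (QuotientGroup.mk' (oddCore ↥K)) ε' s' e' f' ∧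
      QConf t e μ σ ∧ QConf t e' μ' σ' ∧ EPre t e f (LHyp.NE K e) ∧ EPre t e' f' (LHyp.NE K e') ∧
      E32 t e e' ∧ Aut t e ∧ Aut t e' ∧ Dbl e μ ∧ Dbl e' μ' ∧
      (∀ k < 5, ∃ o : G, (∃ r : ℕ, Odd r ∧ o ^ r = 1) ∧ o * t = t * o ∧ (∀ i < 16, o * e i = e i * o) ∧
        σ k = o * f k) ∧
      (∀ k < 5, ∃ o : G, (∃ r : ℕ, Odd r ∧ o ^ r = 1) ∧ o * t = t * o ∧ (∀ i < 16, o * e' i = e' i * o) ∧
        σ' k = o * f' k) :=
  exists_double (lhyp W ht hK hT) h.F h.o1 h.o1' h.o2 h.o3 (TzOr.exists_tk hZ W ht hK hT)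

end Cfsg.Agent.McLLyComp.Frames
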