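import Cfsg.Agent.McLLyComp.FramesL
import Cfsg.Agent.TypeM.LPairW

/-!
# The entry of Theorem W for `Ly`: the image of `D.S.S` in `K/O(K)` is normalised by an involution outside it
-/

set_option autoImplicit false

open Cfsg Subgroup
open Cfsg.Agent.SignalizersComponents
open Cfsg.Agent.Intrinsic.Basic
open Cfsg.Agent.TypeM Cfsg.Agent.TypeM.LPair
open Cfsg.Agent.McLLyComp.Act Cfsg.Agent.McLLyComp.Defs
open Cfsg.Agent.McLLyComp.Lift Cfsg.Agent.McLLyComp.World Cfsg.Agent.McLLyComp.CaseOne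
open Cfsg.Agent.McLLyComp.FactsMT

universe u

namespace Cfsg.Agent.McLLyComp.FramesB

section

open Cfsg.Agent.TypeM.LyL Cfsg.Agent.TypeM.SRel Cfsg.Agent.TypeM.OddF Cfsg.Agent.TypeM.Glue
open Cfsg.Agent.TypeM.GlueW Cfsg.Agent.TypeM.SLift Cfsg.Agent.TypeM.Base Cfsg.Agent.TypeM.BaseS

section L

variable {L : Type*} [Group L] {ε s ε' s' : ℕ → L}

/-- The group `S` in `L`, with the shape of `b`. -/
theorem exists_SRel_L' [Finite L] (F : LFacts ε s ε' s') (R : PairRel ε s ε' s') :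
    ∃ b : L, SRel ε ε' b ∧ ∃ m : ℕ, b = s 1 ^ m ∨ b = s 1 ^ m * ε 2 := by
  have hact := nact F.E F.E' F.low R
  have comm : ∀ i < 16, ∀ j < 16, ε i * ε j = ε j * ε i := fun i hi j hj => by
    rw [F.E.mul i hi j hj, F.E.mul j hj i hi, Nat.xor_comm]
  have comm' : ∀ i < 16, ∀ j < 16, ε' i * ε' j = ε' j * ε' i := fun i hi j hj => by
    rw [F.E'.mul i hi j hj, F.E'.mul j hj i hi, Nat.xor_comm]
  obtain ⟨m, hm, n, hn⟩ := OddConj.exists_two_pow (s 1)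
  set x : L := s 1 ^ m with hx
  have h1 : ∀ i < 16, x * ε i = ε (gm 1 i) * x := act_pow (by norm_num) (F.E.sε 1 (by norm_num)) m hm
  have h1' : ∀ i < 16, x * ε' i = ε' (gm 1 i) * x :=
    act_pow (by norm_num) (fun i hi => by rw [← R.b]; exact F.E'.sε 1 (by norm_num) i hi) m hm
  have h2 : TwoElt (x * x) := ⟨n, by rw [← pow_two, ← pow_mul, mul_comm, pow_mul, hn, one_pow]⟩
  have h3 : ∀ i < 16, x * x * ε i = ε i * (x * x) := by
    intro i hi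
    rw [mul_assoc, h1 i hi, ← mul_assoc, h1 _ (gm_lt 1 i), gm_gm 1 (by norm_num) i hi, mul_assoc]
  have h3' : ∀ i < 16, x * x * ε' i = ε' i * (x * x) := by
    intro i hi
    rw [mul_assoc, h1' i hi, ← mul_assoc, h1' _ (gm_lt 1 i), gm_gm 1 (by norm_num) i hi, mul_assoc]
  obtain ⟨i, hi, h4⟩ := F.E.cen _ h2 h3
  have eq_of : ∀ i < 16, ∀ j < 16, ε i = ε j → i = j := by
    intro i hi j hj h
    have zero : ε 0 = 1 := by
      have := F.E.mul 0 (by norm_num) 0 (by norm_num)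
      simpa using this
    have h5 : ε (i ^^^ j) = 1 := by
      rw [← F.E.mul i hi j hj, h, F.E.mul j hj j hj, Nat.xor_self, zero]
    exact Nat.xor_eq_zero_iff.1 (F.E.inj _ (xor_lt hi hj) h5)
  have h5 : i < 4 := by
    refine cl_fix 1 (by norm_num) (by norm_num) i hi (eq_of _ (act_lt _ hi) _ hi ?_)
    have h6 := hact 4 (by norm_num) i hi
    have h7 := h3' 4 (by norm_num)
    rw [h4] at h7
    rw [← h7] at h6
    exact (mul_right_cancel h6).symm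
  have h6 : gm 1 i = i := by
    refine eq_of _ (gm_lt 1 i) _ hi ?_
    have h7 := h1 i hi
    rw [← h4] at h7
    have h8 : x * (x * x) = x * x * x := by group
    rw [h8, h4] at h7
    exact (mul_right_cancel h7).symm
  have base : ∀ y : L, y * y = 1 → (∀ i < 16, y * ε i = ε (gm 1 i) * y) → (∀ i < 16, y * ε' i = ε' (gm 1 i) * y) →
      SRel ε ε' y := fun y hy h h' =>
    ⟨F.E.mul, F.E.inj, F.E'.mul, F.E'.inj, F.low, hact, hy, h, h'⟩
  rcases fix_low i h5 h6 with h7 | h7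
  · refine ⟨x, base x ?_ h1 h1', m, Or.inl hx⟩
    rw [h4, h7]
    have := F.E.mul 0 (by norm_num) 0 (by norm_num)
    simpa using this
  · refine ⟨x * ε 2, base _ ?_ ?_ ?_, m, Or.inr (by rw [hx])⟩
    · have h8 : ε 2 * x = x * ε 3 := by
        rw [h1 3 (by norm_num), show gm 1 3 = 2 by decide]
      calc x * ε 2 * (x * ε 2) = x * (ε 2 * x) * ε 2 := by group
        _ = (x * x) * (ε 3 * ε 2) := by rw [h8]; group
        _ = ε 1 * ε 1 := by rw [h4, h7, F.E.mul 3 (by norm_num) 2 (by norm_num)]; rfl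
        _ = 1 := by
          rw [F.E.mul 1 (by norm_num) 1 (by norm_num), Nat.xor_self]
          have := F.E.mul 0 (by norm_num) 0 (by norm_num)
          simpa using this
    · intro i hi
      rw [mul_assoc, comm 2 (by norm_num) i hi, ← mul_assoc, h1 i hi, mul_assoc]
    · intro i hi
      rw [mul_assoc, ← F.low 2 (by norm_num), comm' 2 (by norm_num) i hi, ← mul_assoc, h1' i hi, mul_assoc]

end L

section K

variable {G L : Type*} [Group G] [Group L] {t : G} {K : Subgroup G} {π : K →* L}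

/-- The group `S` in `K`, with the image of `b`. -/
theorem exists_SRel_K' [Finite G] (hπ : Function.Surjective π) (hodd : Odd (Nat.card π.ker)) {ε ε' : ℕ → L} {b₀ : L}
    (S : SRel ε ε' b₀) : ∃ e e' : ℕ → G, ∃ b : G, SRel e e' b ∧ (∀ i < 16, ∃ h : e i ∈ K, π ⟨e i, h⟩ = ε i) ∧
      (∀ i < 16, ∃ h : e' i ∈ K, π ⟨e' i, h⟩ = ε' i) ∧ ∃ h : b ∈ K, π ⟨b, h⟩ = b₀ := by
  obtain ⟨P, hP, h1, h2, h3⟩ := exists_lift_two π hπ hodd S.S S.isPGroup_S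
  have h4 : ∀ a : L, ∃ x : K, a ∈ S.S → x ∈ P ∧ π x = a := by
    intro a
    by_cases ha : a ∈ S.S
    · obtain ⟨x, hx, hx'⟩ := h2 a ha
      exact ⟨x, fun _ => ⟨hx, hx'⟩⟩
    · exact ⟨1, fun h => absurd h ha⟩
  choose f hf using h4
  have hmul : ∀ x ∈ S.S, ∀ y ∈ S.S, f (x * y) = f x * f y := by
    intro x hx y hy
    refine h3 _ (hf _ (mul_mem hx hy)).1 _ (mul_mem (hf x hx).1 (hf y hy).1) ?_
    rw [(hf _ (mul_mem hx hy)).2, map_mul, (hf x hx).2, (hf y hy).2]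
  have hinj : ∀ x ∈ S.S, f x = 1 → x = 1 := by
    intro x hx h
    rw [← (hf x hx).2, h, map_one]
  have hS := S.map (fun x => ((f x : K) : G)) (fun x hx y hy => by rw [hmul x hx y hy]; rfl)
    (fun x hx h => hinj x hx (Subtype.ext h))
  refine ⟨_, _, _, hS, fun i hi => ⟨(f (ε i)).2, (hf _ (S.mu_mem hi)).2⟩,
    fun i hi => ⟨(f (ε' i)).2, (hf _ (S.nu_mem hi)).2⟩, (f b₀).2, (hf _ S.β_mem).2⟩

/-- **Existence of the local data**, with the images in `L`. -/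
theorem exists_data_b [Finite L] [Finite G] (H : LHyp t K π) {ε s ε' s' : ℕ → L} (F : LFacts ε s ε' s')
    (o1 : ∀ φ : MulAut L, (∀ i < 16, ∃ j < 16, φ (ε i) = ε j) → φ ∈ (MulAut.conj : L →* MulAut L).range)
    (o1' : ∀ φ : MulAut L, (∀ i < 16, ∃ j < 16, φ (ε' i) = ε' j) → φ ∈ (MulAut.conj : L →* MulAut L).range)
    (o2 : ∀ φ : MulAut L, φ * φ = 1 → ∀ A : Subgroup L, (∀ x ∈ A, x * x = 1) → Nat.card A = 8 →
      (∀ x ∈ A, φ x = x) → φ ∈ (MulAut.conj : L →* MulAut L).range)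
    (o3 : ∀ φ ψ : MulAut L, φ ∉ (MulAut.conj : L →* MulAut L).range → ψ ∉ (MulAut.conj : L →* MulAut L).range →
      φ * ψ ∈ (MulAut.conj : L →* MulAut L).range)
    (hfus : ∃ k ∈ K, k * k = 1 ∧ k ≠ 1 ∧ IsConj t (t * k)) {b₀ : L} (SL : SRel ε ε' b₀) :
    ∃ (e e' : ℕ → G) (b : G) (μ σ μ' σ' : ℕ → G), Data t K e e' b μ σ μ' σ' ∧
      (∀ i < 16, ∃ h : e i ∈ K, π ⟨e i, h⟩ = ε i) ∧ (∀ i < 16, ∃ h : e' i ∈ K, π ⟨e' i, h⟩ = ε' i) ∧
      ∃ h : b ∈ K, π ⟨b, h⟩ = b₀ := by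
  obtain ⟨e₀, f, μ, σ, e₀', f', μ', σ', I, I', Q, Q', -, -, -, A, A', D, D', hs, hs'⟩ :=
    exists_double H F o1 o1' o2 o3 hfus
  obtain ⟨e, e', b, SK, he, he', hb, hb'⟩ := exists_SRel_K' H.surj H.odd SL
  have hKt : ∀ k ∈ K, k * t = t * k := fun k hk => (H.Kt k hk).symm
  -- one frame
  have frame : ∀ {ε s : ℕ → L} {e₀ f μ σ e : ℕ → G}, IsLift π ε s e₀ f → QConf t e₀ μ σ → Aut t e₀ → Dbl e₀ μ →
      (∀ k < 5, ∃ o : G, (∃ r : ℕ, Odd r ∧ o ^ r = 1) ∧ o * t = t * o ∧ (∀ i < 16, o * e₀ i = e₀ i * o) ∧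
        σ k = o * f k) → (∀ i < 16, ∀ j < 16, e i * e j = e (i ^^^ j)) → (∀ i < 16, ∃ h : e i ∈ K, π ⟨e i, h⟩ = ε i) →
      ∃ μ₁ σ₁ : ℕ → G, QConf t e μ₁ σ₁ ∧ Aut t e ∧ Dbl e μ₁ ∧ ∃ O : Subgroup G, IsO t e O ∧ KM K e μ₁ O := by
    intro ε s e₀ f μ σ e I Q A D hs mul he
    obtain ⟨n, hn, hn'⟩ := conj_lift H I.mul mul I.ev he
    have hnt := hKt n hn
    have Q₁ := congr_Q (conj_Q Q hnt) hn' fun _ _ => rfl
    obtain ⟨O, hO⟩ := exists_oddF Q₁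
    refine ⟨_, _, Q₁, congr_aut (conj_aut A hnt) hn', congr_dbl (conj_dbl D n) hn' fun _ _ => rfl, O, hO, ?_⟩
    have e' : ∀ x y : G, (n * x * n⁻¹) * (n * y * n⁻¹) = n * (x * y) * n⁻¹ := fun x y => by group
    refine km (f := fun k => n * f k * n⁻¹) hKt H.tK Q₁ hO (fun i hi => (he i hi).1) (fun k hk => ?_) (fun k hk i hi => ?_)
      (fun k hk => ?_)
    · obtain ⟨h1, -⟩ := I.fv k hk
      exact mul_mem (mul_mem hn h1) (inv_mem hn)
    · show n * f k * n⁻¹ * e i = e (gm k i) * (n * f k * n⁻¹)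
      rw [← hn' i hi, ← hn' _ (gm_lt k i), e', e', I.act k hk i hi]
    · obtain ⟨o, ⟨r, hr, hor⟩, h1, h2, h3⟩ := hs k hk
      refine ⟨n * o * n⁻¹, ⟨r, hr, by rw [conj_pow, hor]; group⟩, ?_, fun i hi => ?_, ?_⟩
      · have h4 : t = n * t * n⁻¹ := by rw [hnt, mul_inv_cancel_right]
        rw [h4, e', e', h1]
      · rw [← hn' i hi, e', e', h2 i hi]
      · rw [h3, e']
  obtain ⟨μ₁, σ₁, q1, q2, q3, O, hO, q4⟩ := frame I Q A D hs SK.mul he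
  obtain ⟨μ₁', σ₁', r1, r2, r3, r4⟩ := frame I' Q' A' D' hs' SK.mul' he'
  have hSK : SK.S ≤ K := SK.S_le (fun i hi => (he i hi).1) (fun i hi => (he' i hi).1) hb
  obtain ⟨n, hn, hn'⟩ := S_adjust q1 hO SK.S SK.isPGroup_S (fun x hx => hKt x (hSK hx)) (by
    intro x hx
    obtain ⟨w, hw, h1⟩ := SK.exists_word hx
    exact ⟨w, hw, h1, q4 x (hSK hx) w hw h1⟩)
  exact ⟨e, e', b, _, _, _, _, ⟨SK, fun i hi => (he i hi).1, fun i hi => (he' i hi).1, hb, hKt, conj_O q1 hO hn, r1, q2, r2,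
    conj_O_dbl q3 hO hn, r3, r4, hn'⟩, he, he', hb, hb'⟩


/-- image of a subgroup -/
theorem image_le {e e' : ℕ → G} {b : G} {ε ε' : ℕ → L} {b₀ : L} (D : SRel e e' b) (SL : SRel ε ε' b₀)
    (he : ∀ i < 16, ∃ h : e i ∈ K, π ⟨e i, h⟩ = ε i) (he' : ∀ i < 16, ∃ h : e' i ∈ K, π ⟨e' i, h⟩ = ε' i)
    (hb : ∃ h : b ∈ K, π ⟨b, h⟩ = b₀) (x : G) (hx : x ∈ D.S) (hxK : x ∈ K) : π ⟨x, hxK⟩ ∈ SL.S := by
  have h1 : D.S ≤ (SL.S.comap π).map K.subtype := by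
    refine D.S_le (fun i hi => ?_) (fun i hi => ?_) ?_
    · obtain ⟨h, h'⟩ := he i hi
      exact ⟨⟨e i, h⟩, by rw [SetLike.mem_coe, mem_comap, h']; exact SL.mu_mem hi, rfl⟩
    · obtain ⟨h, h'⟩ := he' i hi
      exact ⟨⟨e' i, h⟩, by rw [SetLike.mem_coe, mem_comap, h']; exact SL.nu_mem hi, rfl⟩
    · obtain ⟨h, h'⟩ := hb
      exact ⟨⟨b, h⟩, by rw [SetLike.mem_coe, mem_comap, h']; exact SL.β_mem, rfl⟩
  obtain ⟨y, hy, rfl⟩ := h1 hx
  exact hy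

end K

section L

variable {L : Type*} [Group L] {ε s ε' s' : ℕ → L}

/-- an element swapping `ε` and `ε'` is not in `S` -/
theorem not_mem_S {b w : L} (SL : SRel ε ε' b) (sw' : ∀ i < 16, ∃ j < 16, w * ε' i * w⁻¹ = ε j) : w ∉ SL.S := by
  intro hw
  obtain ⟨j, hj, e⟩ := sw' 4 (by norm_num)
  obtain ⟨l, hl, h1⟩ := SL.exists_word (SL.S.inv_mem hw)
  have h2 : ε' 4 = ε (act l j) := by
    rw [← h1 j hj, ← e]; group
  have h3 := SL.nact 4 (by norm_num) 4 (by norm_num)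
  have h4 : ε (act l j) * ε 4 = ε 4 * ε (act l j) := SL.comm (act_lt _ hj) (by norm_num)
  rw [← h2, h3] at h4
  have h5 := SL.eq_of (act_lt _ (by norm_num)) (by norm_num) (mul_right_cancel h4)
  exact absurd (cl_fix (4 / 4) (by norm_num) (by norm_num) 4 (by norm_num) h5) (by norm_num)

/-- normalising `S` -/
theorem norm_S {b w : L} (SL : SRel ε ε' b) (hb : ∃ m : ℕ, b = s 1 ^ m ∨ b = s 1 ^ m * ε 2)
    (W : LPairW.WElt ε s ε' w) : ∀ x ∈ SL.S, w * x * w⁻¹ ∈ SL.S := by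
  have h1 : SL.S ≤ SL.S.comap (MulAut.conj w).toMonoidHom := by
    refine SL.S_le (fun i hi => ?_) (fun i hi => ?_) ?_
    · obtain ⟨j, hj, e⟩ := W.sw i hi
      show w * ε i * w⁻¹ ∈ SL.S
      rw [e]; exact SL.nu_mem hj
    · obtain ⟨j, hj, e⟩ := W.sw' i hi
      show w * ε' i * w⁻¹ ∈ SL.S
      rw [e]; exact SL.mu_mem hj
    · show w * b * w⁻¹ ∈ SL.S
      obtain ⟨m, hm⟩ := hb
      have hc : w * s 1 ^ m * w⁻¹ = s 1 ^ m := by
        have h2 : Commute w (s 1) := W.b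
        rw [(h2.pow_right m).eq, mul_inv_cancel_right]
      rcases hm with hm | hm
      · have h3 : w * b * w⁻¹ = b := by
          calc w * b * w⁻¹ = w * s 1 ^ m * w⁻¹ := by rw [← hm]
            _ = b := by rw [hc, hm]
        rw [h3]; exact SL.β_mem
      · obtain ⟨j, hj, e⟩ := W.sw 2 (by norm_num)
        have h3 : s 1 ^ m = b * ε 2 := by rw [hm, mul_assoc, SL.sq (by norm_num), mul_one]
        have h4 : w * b * w⁻¹ = b * ε 2 * ε' j := by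
          calc w * b * w⁻¹ = w * (s 1 ^ m * ε 2) * w⁻¹ := by rw [← hm]
            _ = (w * s 1 ^ m * w⁻¹) * (w * ε 2 * w⁻¹) := by group
            _ = _ := by rw [hc, e, h3]
        rw [h4]
        exact SL.S.mul_mem (SL.S.mul_mem SL.β_mem (SL.mu_mem (by norm_num))) (SL.nu_mem hj)
  exact fun x hx => h1 hx

end L

end

/-- **The data of Theorem W for `Ly`.** -/
theorem exists_data_ly {G : Type u} [Group G] [Finite G] (hZ : AutSylow.ZStar.{u})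
    (W : CaseI (TM.{u} 11) G) {t : G} {K : Subgroup G} (ht : orderOf t = 2)
    (hK : TComp (TM 11) (centralizer ({t} : Set G)) K) (hT : Tight t K)
    (hin : ∀ φ : MulAut (↥K ⧸ oddCore ↥K),
      φ ∈ (MulAut.conj : ↥K ⧸ oddCore ↥K →* MulAut (↥K ⧸ oddCore ↥K)).range) :
    ∃ (e e' : ℕ → G) (b : G) (μ σ μ' σ' : ℕ → G) (D : BaseS.Data t K e e' b μ σ μ' σ')
      (B : Subgroup (↥K ⧸ oddCore ↥K)) (w : ↥K ⧸ oddCore ↥K), IsPGroup 2 B ∧
      (∀ (x : G) (_ : x ∈ D.S.S) (hxK : x ∈ K), (QuotientGroup.mk ⟨x, hxK⟩ : ↥K ⧸ oddCore ↥K) ∈ B) ∧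
      w * w = 1 ∧ w ∉ B ∧ ∀ x ∈ B, w * x * w⁻¹ ∈ B := by
  obtain ⟨-, -, ⟨M⟩⟩ := id hK.2
  obtain ⟨ε, s, ε', s', h, w, hw⟩ := LPairW.exists_eleven M hin
  obtain ⟨b₀, SL, hb₀⟩ := exists_SRel_L' h.F h.R
  obtain ⟨e, e', b, μ, σ, μ', σ', D, he, he', hb⟩ := exists_data_b (Frames.lhyp W ht hK hT) h.F h.o1 h.o1' h.o2 h.o3
    (TzOr.exists_tk hZ W ht hK hT) SL
  exact ⟨e, e', b, μ, σ, μ', σ', D, SL.S, w, SL.isPGroup_S, fun x hx hxK => image_le D.S SL he he' hb x hx hxK,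
    hw.sq, not_mem_S SL hw.sw', norm_S SL hb₀ hw⟩

end Cfsg.Agent.McLLyComp.FramesB
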