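import Cfsg.Agent.McLLyComp.FramesS

/-!
# The entry of Theorem W, third form: `BaseS.Data` over given frames of `K/O(K)`
-/

set_option autoImplicit false

open Cfsg Subgroup
open Cfsg.Agent.SignalizersComponents
open Cfsg.Agent.Intrinsic.Basic
open Cfsg.Agent.TypeM Cfsg.Agent.TypeM.LPair
open Cfsg.Agent.McLLyComp.Act Cfsg.Agent.McLLyComp.Defs
open Cfsg.Agent.McLLyComp.Lift Cfsg.Agent.McLLyComp.World Cfsg.Agent.McLLyComp.CaseOne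
open Cfsg.Agent.McLLyComp.FactsMT

universe u

namespace Cfsg.Agent.McLLyComp.FramesL

section

open Cfsg.Agent.TypeM.LyL Cfsg.Agent.TypeM.SRel Cfsg.Agent.TypeM.OddF Cfsg.Agent.TypeM.Glue
open Cfsg.Agent.TypeM.GlueW Cfsg.Agent.TypeM.SLift Cfsg.Agent.TypeM.Base Cfsg.Agent.TypeM.BaseS

variable {G L : Type*} [Group G] [Group L] {t : G} {K : Subgroup G} {π : K →* L}

/-- **Existence of the local data**, with the images in `L`. -/
theorem exists_data' [Finite L] [Finite G] (H : LHyp t K π) {ε s ε' s' : ℕ → L} (F : LFacts ε s ε' s')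
    (R : PairRel ε s ε' s')
    (o1 : ∀ φ : MulAut L, (∀ i < 16, ∃ j < 16, φ (ε i) = ε j) → φ ∈ (MulAut.conj : L →* MulAut L).range)
    (o1' : ∀ φ : MulAut L, (∀ i < 16, ∃ j < 16, φ (ε' i) = ε' j) → φ ∈ (MulAut.conj : L →* MulAut L).range)
    (o2 : ∀ φ : MulAut L, φ * φ = 1 → ∀ A : Subgroup L, (∀ x ∈ A, x * x = 1) → Nat.card A = 8 →
      (∀ x ∈ A, φ x = x) → φ ∈ (MulAut.conj : L →* MulAut L).range)
    (o3 : ∀ φ ψ : MulAut L, φ ∉ (MulAut.conj : L →* MulAut L).range → ψ ∉ (MulAut.conj : L →* MulAut L).range →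
      φ * ψ ∈ (MulAut.conj : L →* MulAut L).range)
    (hfus : ∃ k ∈ K, k * k = 1 ∧ k ≠ 1 ∧ IsConj t (t * k)) :
    ∃ (e e' : ℕ → G) (b : G) (μ σ μ' σ' : ℕ → G), Data t K e e' b μ σ μ' σ' ∧
      (∀ i < 16, ∃ h : e i ∈ K, π ⟨e i, h⟩ = ε i) ∧ (∀ i < 16, ∃ h : e' i ∈ K, π ⟨e' i, h⟩ = ε' i) := by
  obtain ⟨e₀, f, μ, σ, e₀', f', μ', σ', I, I', Q, Q', -, -, -, A, A', D, D', hs, hs'⟩ :=
    exists_double H F o1 o1' o2 o3 hfus
  obtain ⟨b₀, SL⟩ := exists_SRel_L F R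
  obtain ⟨e, e', b, SK, he, he', hb⟩ := exists_SRel_K H.surj H.odd SL
  have hKt : ∀ k ∈ K, k * t = t * k := fun k hk => (H.Kt k hk).symm
  -- one frame
  have frame : ∀ {ε s : ℕ → L} {e₀ f μ σ e : ℕ → G}, IsLift π ε s e₀ f → QConf t e₀ μ σ → Aut t e₀ → Dbl e₀ μ →
      (∀ k < 5, ∃ o : G, (∃ r : ℕ, Odd r ∧ o ^ r = 1) ∧ o * t = t * o ∧ (∀ i < 16, o * e₀ i = e₀ i * o) ∧
        σ k = o * f k) → (∀ i < 16, ∀ j < 16, e i * e j = e (i ^^^ j)) → (∀ i < 16, ∃ h : e i ∈ K, π ⟨e i, h⟩ = ε i) →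
      ∃ μ₁ σ₁ : ℕ → G, QConf t e μ₁ σ₁ ∧ Aut t e ∧ Dbl e μ₁ ∧ ∃ O : Subgroup G, IsO t e O ∧ KM K e μ₁ O := by
    intro ε s e₀ f μ σ e I Q A D hs mul he
    obtain ⟨n, hn, hn'⟩ := conj_lift H I.mul mul I.ev he
    have hnt := hKt n hn
    have Q₁ := congr_Q (conj_Q Q hnt) hn' fun _ _ => rfl
    obtain ⟨O, hO⟩ := exists_oddF Q₁
    refine ⟨_, _, Q₁, congr_aut (conj_aut A hnt) hn', congr_dbl (conj_dbl D n) hn' fun _ _ => rfl, O, hO, ?_⟩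
    have e' : ∀ x y : G, (n * x * n⁻¹) * (n * y * n⁻¹) = n * (x * y) * n⁻¹ := fun x y => by group
    refine km (f := fun k => n * f k * n⁻¹) hKt H.tK Q₁ hO (fun i hi => (he i hi).1) (fun k hk => ?_) (fun k hk i hi => ?_)
      (fun k hk => ?_)
    · obtain ⟨h1, -⟩ := I.fv k hk
      exact mul_mem (mul_mem hn h1) (inv_mem hn)
    · show n * f k * n⁻¹ * e i = e (gm k i) * (n * f k * n⁻¹)
      rw [← hn' i hi, ← hn' _ (gm_lt k i), e', e', I.act k hk i hi]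
    · obtain ⟨o, ⟨r, hr, hor⟩, h1, h2, h3⟩ := hs k hk
      refine ⟨n * o * n⁻¹, ⟨r, hr, by rw [conj_pow, hor]; group⟩, ?_, fun i hi => ?_, ?_⟩
      · have h4 : t = n * t * n⁻¹ := by rw [hnt, mul_inv_cancel_right]
        rw [h4, e', e', h1]
      · rw [← hn' i hi, e', e', h2 i hi]
      · rw [h3, e']
  obtain ⟨μ₁, σ₁, q1, q2, q3, O, hO, q4⟩ := frame I Q A D hs SK.mul he
  obtain ⟨μ₁', σ₁', r1, r2, r3, r4⟩ := frame I' Q' A' D' hs' SK.mul' he'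
  have hSK : SK.S ≤ K := SK.S_le (fun i hi => (he i hi).1) (fun i hi => (he' i hi).1) hb
  obtain ⟨n, hn, hn'⟩ := S_adjust q1 hO SK.S SK.isPGroup_S (fun x hx => hKt x (hSK hx)) (by
    intro x hx
    obtain ⟨w, hw, h1⟩ := SK.exists_word hx
    exact ⟨w, hw, h1, q4 x (hSK hx) w hw h1⟩)
  exact ⟨e, e', b, _, _, _, _, ⟨SK, fun i hi => (he i hi).1, fun i hi => (he' i hi).1, hb, hKt, conj_O q1 hO hn, r1, q2, r2,
    conj_O_dbl q3 hO hn, r3, r4, hn'⟩, he, he'⟩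

end

/-- **The data of Theorem W** for a tight pair `(t, K)` in Case I, over given frames of `K/O(K)`. -/
theorem exists_data_of {n : ℕ} {G : Type u} [Group G] [Finite G] (hZ : AutSylow.ZStar.{u})
    (W : CaseI (TM.{u} n) G) {t : G} {K : Subgroup G} (ht : orderOf t = 2)
    (hK : TComp (TM n) (centralizer ({t} : Set G)) K) (hT : Tight t K)
    {ε s ε' s' : ℕ → ↥K ⧸ oddCore ↥K} (h : LP ε s ε' s') :
    ∃ (e e' : ℕ → G) (b : G) (μ σ μ' σ' : ℕ → G), BaseS.Data t K e e' b μ σ μ' σ' ∧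
      (∀ i < 16, ∃ h : e i ∈ K, QuotientGroup.mk' (oddCore ↥K) ⟨e i, h⟩ = ε i) ∧
      (∀ i < 16, ∃ h : e' i ∈ K, QuotientGroup.mk' (oddCore ↥K) ⟨e' i, h⟩ = ε' i) :=
  exists_data' (Frames.lhyp W ht hK hT) h.F h.R h.o1 h.o1' h.o2 h.o3 (TzOr.exists_tk hZ W ht hK hT)

end Cfsg.Agent.McLLyComp.FramesL
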