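import Cfsg.Agent.McLLyComp.Frames
import Cfsg.Agent.McLLyComp.FactsMT
import Cfsg.Agent.TypeM.BaseS
import Cfsg.Agent.TypeM.LPair

/-!
# The entry of Theorem W, second form: the data `BaseS.Data`
-/

set_option autoImplicit false

open Cfsg Subgroup
open Cfsg.Agent.SignalizersComponents
open Cfsg.Agent.Intrinsic.Basic
open Cfsg.Agent.TypeM Cfsg.Agent.TypeM.LPair
open Cfsg.Agent.McLLyComp.Act Cfsg.Agent.McLLyComp.Defs
open Cfsg.Agent.McLLyComp.Lift Cfsg.Agent.McLLyComp.World Cfsg.Agent.McLLyComp.CaseOne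
open Cfsg.Agent.McLLyComp.FactsMT

universe u

namespace Cfsg.Agent.McLLyComp.Frames

/-- the facts for the groups of type `TM n` -/
theorem exists_lp {n : ℕ} {L : Type u} [Group L] [Finite L] (hL : TM n L)
    (hin : n = 11 → ∀ φ : MulAut L, φ ∈ (MulAut.conj : L →* MulAut L).range) :
    ∃ ε s ε' s' : ℕ → L, LP ε s ε' s' := by
  obtain ⟨-, hO, ⟨M⟩⟩ := id hL
  rcases hL.eq with rfl | rfl
  · exact exists_eight M (TypeM.FactsAut.gen M hO)
  · exact exists_eleven M (hin rfl)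

/-- **The data of Theorem W** for a tight pair `(t, K)` in Case I. -/
theorem exists_data {n : ℕ} {G : Type u} [Group G] [Finite G] (hZ : AutSylow.ZStar.{u})
    (W : CaseI (TM.{u} n) G) {t : G} {K : Subgroup G} (ht : orderOf t = 2)
    (hK : TComp (TM n) (centralizer ({t} : Set G)) K) (hT : Tight t K)
    (hin : n = 11 → ∀ φ : MulAut (↥K ⧸ oddCore ↥K),
      φ ∈ (MulAut.conj : ↥K ⧸ oddCore ↥K →* MulAut (↥K ⧸ oddCore ↥K)).range) :
    ∃ (e e' : ℕ → G) (b : G) (μ σ μ' σ' : ℕ → G), BaseS.Data t K e e' b μ σ μ' σ' := by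
  obtain ⟨ε, s, ε', s', h⟩ := exists_lp hK.2 hin
  exact BaseS.exists_data (lhyp W ht hK hT) h.F h.R h.o1 h.o1' h.o2 h.o3 (TzOr.exists_tk hZ W ht hK hT)

end Cfsg.Agent.McLLyComp.Frames
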