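import Cfsg.Agent.McLLyComp.World
import Cfsg.Agent.Intrinsic.RedMain

/-!
# Minimal counterexamples are generated by `F*(G)` and `t`
-/

set_option autoImplicit false

open Cfsg Subgroup
open Cfsg.Agent.SignalizersComponents Cfsg.Agent.Lib
open Cfsg.Agent.SignalizersComponents.IntrinsicBasic
open Cfsg.Agent.SignalizersComponents.PLayerAut
open Cfsg.Agent.Intrinsic.Basic Cfsg.Agent.Intrinsic.Cen Cfsg.Agent.Intrinsic.Quot
open Cfsg.Agent.McLLyComp.Defs Cfsg.Agent.McLLyComp.World Cfsg.Agent.McLLyComp.MapComp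

universe u

namespace Cfsg.Agent.McLLyComp.Gen

variable {𝒯 : Ty.{u}} {G : Type u} [Group G] [Finite G]

/-- `F*(G)` -/
local notation "FS" G => (generalizedFittingSubgroup G)

/-- A 2-component of type `𝒯` of `C_G(t)` contained in `H ∋ t` is one of `C_H(t)`. -/
theorem tcomp_subgroupOf (F : Facts 𝒯) {H K : Subgroup G} {t : G} (ht : t ∈ H)
    (hK : TComp 𝒯 (centralizer ({t} : Set G)) K) (hKH : K ≤ H) :
    TComp 𝒯 (centralizer ({(⟨t, ht⟩ : ↥H)} : Set ↥H)) (K.subgroupOf H) := by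
  let e1 := (IntrinsicDiag.quotSubgroupOf hKH).symm
  refine ⟨?_, F.iso e1 hK.2⟩
  rw [isComp_iff]
  obtain ⟨-, h2, h3, h4⟩ := isComp_iff.mp hK.1
  refine ⟨?_, ?_, PCompQuot.quasisimple_congr e1 h3, (Intrinsic.Red.pElem_subgroupOf hKH).mpr h4⟩
  · intro x hx
    have h5 := mem_centralizer_singleton_iff.mp (hK.1.le hx)
    exact mem_centralizer_singleton_iff.mpr (Subtype.ext h5)
  · let f : ↥(centralizer ({(⟨t, ht⟩ : ↥H)} : Set ↥H)) →* ↥(centralizer ({t} : Set G)) :=
      { toFun := fun x => ⟨x.1.1, mem_centralizer_singleton_iff.mpr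
          (congrArg Subtype.val (mem_centralizer_singleton_iff.mp x.2))⟩
        map_one' := rfl
        map_mul' := fun _ _ => rfl }
    have h5 : (K.subgroupOf H).subgroupOf (centralizer ({(⟨t, ht⟩ : ↥H)} : Set ↥H)) =
        (K.subgroupOf (centralizer ({t} : Set G))).comap f := by
      ext x; rfl
    rw [h5]
    exact h2.comap f

theorem _root_.Cfsg.Agent.McLLyComp.World.Min.center_fs (W : Min 𝒯 G) : center ↥(FS G) = ⊥ := by
  rw [eq_bot_iff]
  intro x hx
  have h1 : (x : G) ∈ centralizer ((FS G : Subgroup G) : Set G) := by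
    rw [mem_centralizer_iff]
    intro y hy
    exact congrArg Subtype.val (mem_center_iff.mp hx ⟨y, hy⟩)
  rw [W.cent, mem_bot] at h1
  exact Subtype.ext h1

/-- `F*(G)` is simple. -/
theorem _root_.Cfsg.Agent.McLLyComp.World.Min.simple (W : Min 𝒯 G) : IsSimpleGroup ↥(FS G) :=
  Intrinsic.Red.isSimple_of_center_eq_bot W.qs W.center_fs

/-- `G = ⟨F*(G), t⟩` for a bad involution `t`. -/
theorem _root_.Cfsg.Agent.McLLyComp.World.Min.eq_top (W : Min 𝒯 G) {t : G} (ht : Bad 𝒯 t)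
    {H : Subgroup G} (hH : (FS G) ≤ H) (htH : t ∈ H) : H = ⊤ := by
  by_contra hne
  have hn : (FS G).Normal := GenFitting.genFitting_normal
  obtain ⟨ht2, K, hK⟩ := ht
  have hKF := comp_le_fs W.core W.qs (sq_of_order ht2) hK.1
  have hcard : Nat.card ↥H < Nat.card G :=
    lt_of_le_of_ne (Subgroup.card_le_card_group H) fun e => hne (eq_top_of_card_eq _ e)
  have e : ↥((FS G).subgroupOf H) ≃* ↥(FS G) := subgroupOfEquivOfLe hH
  have hs : IsSimpleGroup ↥((FS G).subgroupOf H) := (MulEquiv.isSimpleGroup_congr e).mpr W.simple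
  have hq : IsQuasisimple ↥((FS G).subgroupOf H) := Components.isQuasisimple_of_mulEquiv e.symm W.qs
  have hC : centralizer (((FS G).subgroupOf H : Subgroup ↥H) : Set ↥H) = ⊥ := by
    rw [eq_bot_iff]
    intro x hx
    have h1 : (x : G) ∈ centralizer ((FS G : Subgroup G) : Set G) := by
      rw [mem_centralizer_iff]
      intro y hy
      exact congrArg Subtype.val (mem_centralizer_iff.mp hx ⟨y, hH hy⟩ hy)
    rw [W.cent, mem_bot] at h1
    exact Subtype.ext h1
  have h2 : 2 ∣ Nat.card ↥((FS G).subgroupOf H) := by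
    rw [Nat.card_congr e.toEquiv]
    exact even_fs W.core W.qs
  obtain ⟨h3, h4⟩ := genFitting_eq (hn.subgroupOf H) hs hq hC h2
  refine W.min ↥H hcard h3 (h4 ▸ hq) ⟨t, htH⟩ ?_ _ (tcomp_subgroupOf W.facts htH hK (hKF.trans hH))
  rw [← Subgroup.orderOf_coe]
  exact ht2

/-- `G = F*(G) ⟨t⟩` for a bad involution `t`. -/
theorem _root_.Cfsg.Agent.McLLyComp.World.Min.sup_eq_top (W : Min 𝒯 G) {t : G} (ht : Bad 𝒯 t) :
    (FS G) ⊔ zpowers t = ⊤ :=
  W.eq_top ht le_sup_left (mem_sup_right (mem_zpowers t))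

/-- If `F*(G)` contains a bad involution, then `G` is simple. -/
theorem _root_.Cfsg.Agent.McLLyComp.World.Min.fs_eq_top (W : Min 𝒯 G) {t : G} (ht : Bad 𝒯 t)
    (htF : t ∈ FS G) : (FS G) = ⊤ := W.eq_top ht le_rfl htF

theorem _root_.Cfsg.Agent.McLLyComp.World.Min.isSimple (W : Min 𝒯 G) {t : G} (ht : Bad 𝒯 t)
    (htF : t ∈ FS G) : IsSimpleGroup G := by
  have h1 := W.simple
  rw [W.fs_eq_top ht htF] at h1
  exact (MulEquiv.isSimpleGroup_congr topEquiv).mp h1

/-- `|G : F*(G)| ≤ 2` -/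
theorem _root_.Cfsg.Agent.McLLyComp.World.Min.mem_or_mul_mem (W : Min 𝒯 G) {t : G}
    (ht : Bad 𝒯 t) (g : G) : g ∈ (FS G) ∨ g * t ∈ FS G := by
  have hn : (FS G).Normal := GenFitting.genFitting_normal
  have h1 : g ∈ (FS G) ⊔ zpowers t := by rw [W.sup_eq_top ht]; trivial
  rw [Subgroup.mem_sup_of_normal_left] at h1
  obtain ⟨x, hx, y, ⟨k, rfl⟩, rfl⟩ := h1
  have htt := sq_of_order ht.1
  rcases Int.even_or_odd' k with ⟨m, rfl | rfl⟩
  · left
    have h2 : t ^ (2 * m) = 1 := by rw [zpow_mul, zpow_two, htt, one_zpow]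
    rwa [show (fun x => t ^ x) (2 * m) = 1 from h2, mul_one]
  · right
    have h2 : t ^ (2 * m + 1) = t := by
      rw [zpow_add, zpow_mul, zpow_two, htt, one_zpow, one_mul, zpow_one]
    rw [show (fun x => t ^ x) (2 * m + 1) = t from h2, mul_assoc, htt, mul_one]
    exact hx

end Cfsg.Agent.McLLyComp.Gen
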