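import Cfsg.Agent.McLLyComp.Reduce

/-!
# Lifting the facts on groups of type `𝒯` to 2-components of type `𝒯`
-/

set_option autoImplicit false

open Cfsg Subgroup
open Cfsg.Agent.SignalizersComponents Cfsg.Agent.Lib
open Cfsg.Agent.SignalizersComponents.IntrinsicBasic
open Cfsg.Agent.SignalizersComponents.PLayerAut
open Cfsg.Agent.Intrinsic.Basic Cfsg.Agent.Intrinsic.Cen Cfsg.Agent.Intrinsic.Quot
open Cfsg.Agent.Intrinsic.Lifting
open Cfsg.Agent.McLLyComp.Act Cfsg.Agent.McLLyComp.MapComp Cfsg.Agent.McLLyComp.Defs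
open Cfsg.Agent.McLLyComp.Reduce

universe u

namespace Cfsg.Agent.McLLyComp.Lift

variable {𝒯 : Ty.{u}} {G : Type u} [Group G] [Finite G] {H K L : Subgroup G}

omit [Finite G] in
theorem pow_four (x : G) : x ^ 2 ^ 2 = (x * x) * (x * x) := by
  rw [show (2 : ℕ) ^ 2 = 4 by norm_num]
  simp only [pow_succ, pow_zero, one_mul, mul_assoc]

omit [Finite G] in
theorem pow_two_pow {x : G} (h : x * x = 1) : x ^ 2 ^ 1 = 1 := by rw [pow_one, pow_two, h]

/-- `K / O(K)` has trivial centre. -/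
theorem center_eq_bot (F : Facts 𝒯) (hK : TComp 𝒯 H K) : center (↥K ⧸ oddCore ↥K) = ⊥ := by
  have hs := hK.simple F
  rcases hs.eq_bot_or_eq_top_of_normal _ (inferInstance : (center (↥K ⧸ oddCore ↥K)).Normal)
    with h | h
  · exact h
  · exact absurd h (Components.quasisimple_center_ne_top (quasisimple_quot hK.1))

theorem fixes_core (hK : IsComp H K) {o : G} (ho : o ∈ core K) : Fixes o K :=
  hK.fixes_of_core (hK.core_le_core ho)

theorem mem_core_of_fixes (F : Facts 𝒯) (hK : TComp 𝒯 H K) {k : G} (hk : k ∈ K)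
    (hf : Fixes k K) : k ∈ core K := by
  have h1 := (act_eq_one_iff hf.1).mpr hf
  have h2 := act_of_mem hk
  rw [h1] at h2
  have h3 : (QuotientGroup.mk ⟨k, hk⟩ : ↥K ⧸ oddCore ↥K) ∈ center (↥K ⧸ oddCore ↥K) := by
    rw [← conj_ker, MonoidHom.mem_ker, ← h2]
  rw [center_eq_bot F hK, mem_bot, Act.mk_eq_one_iff] at h3
  exact h3

theorem fixes_iff_mem_core (F : Facts 𝒯) (hK : TComp 𝒯 H K) {k : G} (hk : k ∈ K) :
    Fixes k K ↔ k ∈ core K := ⟨mem_core_of_fixes F hK hk, fixes_core hK.1⟩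

/-- an involution of `K` does not fix `K` -/
theorem not_fixes_of_mem (F : Facts 𝒯) (hK : TComp 𝒯 H K) {k : G} (hk : k ∈ K) (hkk : k * k = 1)
    (hk1 : k ≠ 1) : ¬ Fixes k K := fun hf =>
  hk1 (eq_one_of_mem_core_sq (mem_core_of_fixes F hK hk hf) hkk)

theorem mk_order {b : G} (hbL : b ∈ L) (hbb : b * b = 1) (hb1 : b ≠ 1) :
    orderOf (QuotientGroup.mk ⟨b, hbL⟩ : ↥L ⧸ oddCore ↥L) = 2 := by
  refine order_two ?_ ?_
  · intro h
    rw [Act.mk_eq_one_iff] at h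
    exact hb1 (eq_one_of_mem_core_sq h hbb)
  · have h1 : (⟨b, hbL⟩ : ↥L) * ⟨b, hbL⟩ = 1 := Subtype.ext hbb
    rw [← QuotientGroup.mk_mul, h1]
    rfl

/-- `y` acts on `K / O(K)` as an inner automorphism: then it acts as an involution `b ∈ K` commuting
with `y`. -/
theorem inner_rep (F : Facts 𝒯) (hK : TComp 𝒯 H K) {y k : G} (hy : y ∈ normalizer (K : Set G))
    (hyy : y * y = 1) (hk : k ∈ K) (hf : Fixes (y * k) K) (hny : ¬ Fixes y K) :
    ∃ b ∈ K, b * b = 1 ∧ b ≠ 1 ∧ y * b = b * y ∧ Fixes (y * b) K := by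
  have hkn := le_normalizer (H := K) hk
  have h1 := (act_eq_one_iff hf.1).mpr hf
  have h2 : act K ⟨y, hy⟩ * act K ⟨k, hkn⟩ = 1 := by rw [← act_mul hy hkn]; exact h1
  have h3 : act K ⟨y, hy⟩ * act K ⟨y, hy⟩ = 1 := by
    rw [← act_mul hy hy, act_congr (mul_mem hy hy) hyy]
    exact map_one (act K)
  have h4 : act K ⟨k, hkn⟩ = act K ⟨y, hy⟩ := by
    have := mul_eq_one_iff_eq_inv.mp h2
    have h5 := mul_eq_one_iff_eq_inv.mp h3
    rw [← inv_inv (act K ⟨k, hkn⟩), ← this, ← h5]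
  have hkk : k * k ∈ core K := by
    apply mem_core_of_fixes F hK (K.mul_mem hk hk)
    rw [← act_eq_one_iff (mul_mem hkn hkn), act_mul hkn hkn, h4, h3]
  have hyk : k⁻¹ * (y * k * y⁻¹) ∈ core K := by
    rw [← mk_eq_iff hk (conj_mem hy hk), ← act_mk hy hk, ← h4, act_mk hkn hk]
    congr 1
    apply Subtype.ext
    change k = k * k * k⁻¹
    group
  obtain ⟨o, ho, h5, h6⟩ := exists_involution (odd_card_core K) (pow_two_pow hyy)
    (normalizer_le_normalizer_core K hy) (le_normalizer_core K hk) hkk hyk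
  refine ⟨k * o, K.mul_mem hk (core_le K ho), h5, ?_, h6, ?_⟩
  · intro h
    apply hny
    have h7 : k = o⁻¹ := mul_eq_one_iff_eq_inv.mp h
    have h8 : Fixes k K := by rw [h7]; exact fixes_inv (fixes_core hK.1 ho)
    exact (fixes_mul_iff_left h8).mp hf
  · rw [← mul_assoc]
    exact fixes_mul hf (fixes_core hK.1 ho)

omit [Finite G] in
/-- the action of `y` is that of `b` -/
theorem act_eq_of {y b : G} (hb : b ∈ K) (hbb : b * b = 1) (hf : Fixes (y * b) K)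
    (hy : y ∈ normalizer (K : Set G)) :
    act K ⟨y, hy⟩ = MulAut.conj (QuotientGroup.mk ⟨b, hb⟩) := by
  rw [← act_of_mem hb, act_eq_iff hy (le_normalizer hb)]
  have : b⁻¹ = b := inv_eq_of_mul_eq_one_left hbb
  rw [this]
  exact hf

omit [Finite G] in
theorem commute_mod_iff {x b : G} (hx : x ∈ K) (hb : b ∈ K) :
    x⁻¹ * (b * x * b⁻¹) ∈ core K ↔
      (QuotientGroup.mk ⟨x, hx⟩ : ↥K ⧸ oddCore ↥K) * QuotientGroup.mk ⟨b, hb⟩ =
        QuotientGroup.mk ⟨b, hb⟩ * QuotientGroup.mk ⟨x, hx⟩ := (mk_comm_iff hx hb).symm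

omit [Finite G] in
/-- `x ∈ K` commutes with `y` modulo the core iff it commutes with `b` modulo the core. -/
theorem commute_mod_of {y b x : G} (hb : b ∈ K) (hbb : b * b = 1) (hf : Fixes (y * b) K)
    (hy : y ∈ normalizer (K : Set G)) (hx : x ∈ K) :
    x⁻¹ * (y * x * y⁻¹) ∈ core K ↔ x⁻¹ * (b * x * b⁻¹) ∈ core K := by
  rw [← mk_eq_iff hx (conj_mem hy hx), ← act_mk hy hx, act_eq_of hb hbb hf hy,
    ← mk_eq_iff hx (K.mul_mem (K.mul_mem hb hx) (K.inv_mem hb))]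
  rfl

/-- **cenInner.** `y` acts on `K / O(K)` as the involution `b`: the 2-component of `C_K(y)`. -/
theorem cen_inner (F : Facts 𝒯) (hK : TComp 𝒯 H K) {y b : G} (hyy : y * y = 1)
    (hy : y ∈ normalizer (K : Set G)) (hb : b ∈ K) (hbb : b * b = 1) (hb1 : b ≠ 1)
    (hyb : y * b = b * y) (hf : Fixes (y * b) K) :
    IsComp (H ⊓ centralizer ({y} : Set G)) (cen K y) ∧ b ∈ cen K y ∧
      core (cen K y) = cen K y ⊓ core K ∧
      (∀ x ∈ K, x⁻¹ * (b * x * b⁻¹) ∈ core K → ∃ a ∈ cen K y, a⁻¹ * x ∈ core K) := by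
  have hp : Fact (Nat.Prime 2) := ⟨Nat.prime_two⟩
  have hbo := mk_order hb hbb hb1
  obtain ⟨β, hβ⟩ : ∃ β : ↥K ⧸ oddCore ↥K, β = QuotientGroup.mk ⟨b, hb⟩ := ⟨_, rfl⟩
  rw [← hβ] at hbo
  have hQq := F.cent_qs hK.2 β hbo
  have hQO := F.cent_core hK.2 β hbo
  obtain ⟨M, hM⟩ : ∃ M, M = K ⊓ centralizer ({y} : Set G) := ⟨_, rfl⟩
  have hMK' : M ≤ K := hM ▸ inf_le_left
  have hMC' : M ≤ centralizer ({y} : Set G) := hM ▸ inf_le_right
  have hMK : ∀ a : ↥M, (a : G) ∈ K := fun a => hMK' a.2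
  have hMy : ∀ a : ↥M, (a : G) * y = y * a := fun a =>
    mem_centralizer_singleton_iff.mp (hMC' a.2)
  have hMβ : ∀ a : ↥M, (QuotientGroup.mk ⟨a, hMK a⟩ : ↥K ⧸ oddCore ↥K) ∈
      centralizer ({β} : Set (↥K ⧸ oddCore ↥K)) := by
    intro a
    rw [mem_centralizer_singleton_iff, hβ, ← commute_mod_iff (hMK a) hb,
      ← commute_mod_of hb hbb hf hy (hMK a), ← hMy a]
    simp
  obtain ⟨g, hg⟩ : ∃ g : ↥M →* ↥(centralizer ({β} : Set (↥K ⧸ oddCore ↥K))),
      ∀ a, (g a : ↥K ⧸ oddCore ↥K) = QuotientGroup.mk ⟨a, hMK a⟩ :=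
    ⟨{ toFun := fun a => ⟨QuotientGroup.mk ⟨a, hMK a⟩, hMβ a⟩
       map_one' := rfl
       map_mul' := fun _ _ => rfl }, fun _ => rfl⟩
  have hmemM : ∀ a : G, a ∈ K → a * y = y * a → a ∈ M := fun a h1 h2 => by
    rw [hM]; exact ⟨h1, mem_centralizer_singleton_iff.mpr h2⟩
  have hlift : ∀ x ∈ K, x⁻¹ * (b * x * b⁻¹) ∈ core K → ∃ a : ↥M, (a : G)⁻¹ * x ∈ core K := by
    intro x hx hxb
    rw [← commute_mod_of hb hbb hf hy hx] at hxb
    obtain ⟨o, ho, hc⟩ := exists_commute (odd_card_core K) (pow_two_pow hyy)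
      (normalizer_le_normalizer_core K hy) hxb
    refine ⟨⟨x * o, hmemM _ (K.mul_mem hx (core_le K ho)) hc.symm⟩, ?_⟩
    change (x * o)⁻¹ * x ∈ core K
    have : (x * o)⁻¹ * x = o⁻¹ := by group
    rw [this]
    exact inv_mem ho
  have hgs : Function.Surjective g := by
    rintro ⟨x, hx⟩
    obtain ⟨⟨k, hk⟩, rfl⟩ := QuotientGroup.mk_surjective x
    rw [mem_centralizer_singleton_iff, hβ, ← commute_mod_iff hk hb] at hx
    obtain ⟨a, ha⟩ := hlift k hk hx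
    refine ⟨a, Subtype.ext ?_⟩
    rw [hg]
    exact (mk_eq_iff (hMK a) hk).mpr ha
  have hgk : ∀ a : ↥M, a ∈ g.ker ↔ (a : G) ∈ core K := by
    intro a
    rw [MonoidHom.mem_ker, Subtype.ext_iff, hg]
    exact Act.mk_eq_one_iff (hMK a)
  have hker : Odd (Nat.card g.ker) := by
    have h1 : g.ker.map M.subtype ≤ core K := by
      rintro _ ⟨a, ha, rfl⟩
      exact (hgk a).mp ha
    have h2 := card_dvd_of_le h1
    rw [card_map_of_injective M.subtype_injective] at h2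
    exact Odd.of_dvd_nat (odd_card_core K) h2
  have htop : IsComponent (⊤ : Subgroup ↥(centralizer ({β} : Set (↥K ⧸ oddCore ↥K)))) :=
    ⟨Subgroup.IsSubnormal.top, Components.isQuasisimple_of_mulEquiv Subgroup.topEquiv.symm hQq⟩
  have h2 : 2 ∣ Nat.card (⊤ : Subgroup ↥(centralizer ({β} : Set (↥K ⧸ oddCore ↥K)))) := by
    rw [card_top]
    have h3 : orderOf (⟨β, mem_centralizer_singleton_iff.mpr rfl⟩ :
        ↥(centralizer ({β} : Set (↥K ⧸ oddCore ↥K)))) = 2 := (Subgroup.orderOf_mk β _).trans hbo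
    have h4 := orderOf_dvd_natCard (⟨β, mem_centralizer_singleton_iff.mpr rfl⟩ :
        ↥(centralizer ({β} : Set (↥K ⧸ oddCore ↥K))))
    rwa [h3] at h4
  obtain ⟨h3, h4⟩ := IntrinsicLift.lift_component g hgs hker htop h2
  have h5 : (PComponents.pElem 2 ((⊤ : Subgroup _).comap g)).map M.subtype = cen K y := by
    rw [Intrinsic.Charac.pElem_map_subtype, comap_top, ← MonoidHom.range_eq_map, range_subtype,
      hM]
    rfl
  have h6 : IsComp M (cen K y) := by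
    rw [← h5]
    exact isComp_of_subtype h3
  have hMH : M ≤ H ⊓ centralizer ({y} : Set G) := by
    rw [hM]; exact inf_le_inf_right _ hK.1.le
  have hMn : (M.subgroupOf (H ⊓ centralizer ({y} : Set G))).IsSubnormal := by
    have h7 := hK.1.2.1.comap (inclusion (inf_le_left : H ⊓ centralizer ({y} : Set G) ≤ H))
    convert h7 using 1
    ext ⟨x, hx⟩
    rw [hM]
    constructor
    · intro h; exact h.1
    · intro h; exact ⟨h, hx.2⟩
  have hA : ∀ a ∈ cen K y, a ∈ M := fun a ha => h6.le ha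
  have hcov : ∀ x ∈ K, x⁻¹ * (b * x * b⁻¹) ∈ core K → ∃ a ∈ cen K y, a⁻¹ * x ∈ core K := by
    intro x hx hxb
    obtain ⟨a, ha⟩ := hlift x hx hxb
    have h7 : g a ∈ (PComponents.pElem 2 ((⊤ : Subgroup _).comap g)).map g := by
      rw [h4]; trivial
    obtain ⟨c, hc, hca⟩ := h7
    refine ⟨c, ?_, ?_⟩
    · rw [← h5]; exact ⟨c, hc, rfl⟩
    · have h8 : (c : G)⁻¹ * a ∈ core K := by
        have h9 := congrArg Subtype.val hca
        rw [hg, hg, mk_eq_iff] at h9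
        exact h9
      have h10 : (c : G)⁻¹ * x = ((c : G)⁻¹ * a) * ((a : G)⁻¹ * x) := by group
      rw [h10]
      exact mul_mem h8 ha
  refine ⟨h6.extend hMH hMn, mem_cen_of_sq hb hyb.symm hbb, ?_, hcov⟩
  -- the core
  apply le_antisymm
  · refine le_inf (core_le _) ?_
    have h7 : ((core (cen K y)).subgroupOf M).map g ≤ oddCore _ := by
      refine Cores.le_pPrimeCore ?_ ?_
      · constructor
        rintro _ ⟨c, hc, rfl⟩ q
        have h8 : q ∈ (PComponents.pElem 2 ((⊤ : Subgroup _).comap g)).map g := by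
          rw [h4]; trivial
        obtain ⟨a, ha, rfl⟩ := h8
        refine ⟨a * c * a⁻¹, ?_, by rw [map_mul, map_mul, map_inv]⟩
        have h9 : (a : G) ∈ cen K y := by rw [← h5]; exact ⟨a, ha, rfl⟩
        exact (mem_normalizer_iff.mp (le_normalizer_core _ h9) _).mp hc
      · refine Nat.Coprime.coprime_dvd_left (card_map_dvd _ g) ?_
        refine Nat.Coprime.coprime_dvd_left ?_ (coprime_card_core (cen K y))
        rw [← Subgroup.card_map_of_injective M.subtype_injective, subgroupOf_map_subtype]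
        exact card_dvd_of_le inf_le_left
    rw [hQO] at h7
    intro x hx
    have hxM := hA x (core_le _ hx)
    have h8 : g ⟨x, hxM⟩ = 1 := by
      have := h7 ⟨⟨x, hxM⟩, hx, rfl⟩
      exact mem_bot.mp this
    exact (hgk ⟨x, hxM⟩).mp h8
  · refine le_core inf_le_left ?_ (Odd.of_dvd_nat (odd_card_core K) (card_dvd_of_le inf_le_right))
    intro a ha
    have e1 : a ∈ normalizer (core K : Set G) := le_normalizer_core K (cen_le K y ha)
    rw [mem_normalizer_iff_cj] at e1 ⊢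
    rw [cj_inf, e1, cj_eq_self_of_mem ha]

/-- M5 lifted -/
theorem fix_lift (F : Facts 𝒯) (hL : TComp 𝒯 H L) {r b : G} (hr : r ∈ normalizer (L : Set G))
    (hb : b ∈ L) (hbb : b * b = 1) (hb1 : b ≠ 1)
    (hc : ∀ x ∈ L, x⁻¹ * (b * x * b⁻¹) ∈ core L → x⁻¹ * (r * x * r⁻¹) ∈ core L) :
    Fixes r L ∨ Fixes (r * b) L := by
  rcases F.fix hL.2 _ (mk_order hb hbb hb1) (act L ⟨r, hr⟩) (fun x hx => by
    obtain ⟨⟨k, hk⟩, rfl⟩ := QuotientGroup.mk_surjective x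
    rw [act_mk hr hk, eq_comm, mk_eq_iff]
    exact hc k hk ((commute_mod_iff hk hb).mpr hx)) with h | h
  · left
    exact (act_eq_one_iff hr).mp h
  · right
    rw [← act_of_mem hb, act_eq_iff hr (le_normalizer hb)] at h
    rwa [inv_eq_of_mul_eq_one_left hbb] at h

/-- M6 lifted -/
theorem outer_lift (F : Facts 𝒯) (hL : TComp 𝒯 H L) {t : G} (ht : t ∈ normalizer (L : Set G))
    (htt : t * t = 1) (hout : ∀ x ∈ L, ¬ Fixes (t * x) L) :
    ∃ m ∈ L, ∃ c ∈ L, m * t * m⁻¹ = (c * c) * t ∧ c * t = t * c ∧ c * c ≠ 1 ∧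
      (c * c) * (c * c) = 1 := by
  have hα : act L ⟨t, ht⟩ * act L ⟨t, ht⟩ = 1 := by
    rw [← act_mul ht ht, act_congr (mul_mem ht ht) htt]
    exact map_one (act L)
  obtain ⟨m', c', h1, h2, h3, h4⟩ := F.outer hL.2 _ hα (fun x hx => by
    obtain ⟨⟨k, hk⟩, rfl⟩ := QuotientGroup.mk_surjective x
    rw [← act_of_mem hk, act_eq_iff ht (le_normalizer hk)] at hx
    exact hout k⁻¹ (L.inv_mem hk) hx)
  obtain ⟨⟨m₀, hm₀⟩, rfl⟩ := QuotientGroup.mk_surjective m'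
  obtain ⟨⟨c₀, hc₀⟩, rfl⟩ := QuotientGroup.mk_surjective c'
  have htc : c₀⁻¹ * (t * c₀ * t⁻¹) ∈ core L := by
    rw [act_mk ht hc₀, eq_comm, mk_eq_iff] at h4
    exact h4
  have hc4 : c₀ ^ 2 ^ 2 ∈ core L := by
    have h5 : (QuotientGroup.mk (⟨c₀ ^ 2 ^ 2, pow_mem hc₀ _⟩ : ↥L) : ↥L ⧸ oddCore ↥L) = 1 := by
      rw [← h3, ← QuotientGroup.mk_mul, ← QuotientGroup.mk_mul]
      congr 1
      apply Subtype.ext
      exact pow_four c₀
    rwa [Act.mk_eq_one_iff] at h5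
  obtain ⟨o, ho, h5, h6⟩ := exists_two_element (odd_card_core L) (pow_two_pow htt)
    (normalizer_le_normalizer_core L ht) (le_normalizer_core L hc₀) hc4 htc
  obtain ⟨c, hcdef⟩ : ∃ c, c = c₀ * o := ⟨_, rfl⟩
  rw [← hcdef] at h5 h6
  have hcL : c ∈ L := hcdef ▸ L.mul_mem hc₀ (core_le L ho)
  have hcc : (QuotientGroup.mk (⟨c₀, hc₀⟩ : ↥L) : ↥L ⧸ oddCore ↥L) =
      QuotientGroup.mk ⟨c, hcL⟩ := by
    rw [mk_eq_iff, hcdef]
    simpa using ho
  rw [hcc] at h1 h2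
  have hb2 : (c * c) * (c * c) = 1 := by
    rw [← h5, pow_four]
  have hb1 : c * c ≠ 1 := by
    intro h
    apply h2
    have : (⟨c, hcL⟩ : ↥L) * ⟨c, hcL⟩ = 1 := Subtype.ext h
    rw [← QuotientGroup.mk_mul, this]
    rfl
  have hct : c * t = t * c := h6.symm
  -- `m₀ t m₀⁻¹ ≡ c² t`
  have hw : (m₀ * (t * m₀ * t⁻¹)⁻¹)⁻¹ * (c * c) ∈ core L := by
    rw [act_mk ht hm₀, ← QuotientGroup.mk_inv, ← QuotientGroup.mk_mul, ← QuotientGroup.mk_mul] at h1
    exact (mk_eq_iff (L.mul_mem hm₀ (L.inv_mem (conj_mem ht hm₀))) (L.mul_mem hcL hcL)).mp h1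
  have htn := normalizer_le_normalizer_core L ht
  have hv : (m₀ * t * m₀⁻¹)⁻¹ * ((c * c) * t) ∈ core L := by
    have h7 := (mem_normalizer_iff.mp (inv_mem htn) _).mp hw
    convert h7 using 1
    group
  have e1 : (m₀ * t * m₀⁻¹) ^ 2 ^ 1 = 1 := by
    rw [pow_one, pow_two]
    calc m₀ * t * m₀⁻¹ * (m₀ * t * m₀⁻¹) = m₀ * (t * t) * m₀⁻¹ := by group
      _ = 1 := by rw [htt]; group
  have e2 : ((c * c) * t) ^ 2 ^ 1 = 1 := by
    rw [pow_one, pow_two]
    have h8 : (c * c) * t = t * (c * c) := by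
      rw [mul_assoc, hct, ← mul_assoc, hct, mul_assoc]
    calc (c * c) * t * ((c * c) * t) = (c * c) * (t * (c * c)) * t := by group
      _ = ((c * c) * (c * c)) * (t * t) := by rw [← h8]; group
      _ = 1 := by rw [hb2, htt, one_mul]
  have e3 : m₀ * t * m₀⁻¹ ∈ normalizer (core L : Set G) :=
    mul_mem (mul_mem (le_normalizer_core L hm₀) htn) (inv_mem (le_normalizer_core L hm₀))
  obtain ⟨p, hp, h7⟩ := exists_conj_eq (odd_card_core L) e1 e2 e3 hv
  refine ⟨p * m₀, L.mul_mem (core_le L hp) hm₀, c, hcL, ?_, hct, hb1, hb2⟩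
  rw [← h7]; group

/-- M7 lifted -/
theorem sq_lift (F : Facts 𝒯) (hL : TComp 𝒯 H L) {c : G} (hc : c ∈ normalizer (L : Set G)) {k : ℕ}
    (hck : c ^ 2 ^ k = 1) : ∃ x ∈ L, Fixes (c * c * x) L := by
  obtain ⟨x, hx⟩ := F.sq hL.2 (act L ⟨c, hc⟩) k (by
    rw [← map_pow]
    have : (⟨c, hc⟩ : ↥(normalizer (L : Set G))) ^ 2 ^ k = 1 := by
      apply Subtype.ext
      simpa using hck
    rw [this, map_one])
  obtain ⟨⟨k, hk⟩, rfl⟩ := QuotientGroup.mk_surjective x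
  rw [← act_of_mem hk, ← act_mul hc hc, act_eq_iff (mul_mem hc hc) (le_normalizer hk)] at hx
  exact ⟨k⁻¹, L.inv_mem hk, hx⟩

end Cfsg.Agent.McLLyComp.Lift
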