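import Cfsg.Agent.McLLyComp.PumpT
import Cfsg.Agent.Intrinsic.Quot

/-!
# Images of 2-components with simple quotient; almost simple groups
-/

set_option autoImplicit false

open Cfsg Subgroup
open Cfsg.Agent.SignalizersComponents Cfsg.Agent.Lib
open Cfsg.Agent.SignalizersComponents.IntrinsicBasic
open Cfsg.Agent.SignalizersComponents.PLayerAut
open Cfsg.Agent.Intrinsic.Basic Cfsg.Agent.Intrinsic.Cen Cfsg.Agent.Intrinsic.Quot
open scoped commutatorElement

namespace Cfsg.Agent.McLLyComp.MapComp

section map

variable {A X : Type*} [Group A] [Group X] [Finite A]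

/-- proper normal subgroups of a 2-component `D` with `D / O(D)` simple lie in the core -/
theorem le_core_of_normal {H D : Subgroup A} (hD : IsComp H D)
    (hs : IsSimpleGroup (↥D ⧸ oddCore ↥D)) (M : Subgroup ↥D) (hMn : M.Normal)
    (hM : M ≠ ⊤) : M ≤ oddCore ↥D := by
  have hp : Fact (Nat.Prime 2) := ⟨Nat.prime_two⟩
  have h1 : (M.map (QuotientGroup.mk' (oddCore ↥D))).Normal :=
    hMn.map _ (QuotientGroup.mk'_surjective _)
  rcases hs.eq_bot_or_eq_top_of_normal _ h1 with h | h
  · rw [Subgroup.map_eq_bot_iff, QuotientGroup.ker_mk'] at h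
    exact h
  · exfalso
    apply hM
    have h2 : M ⊔ oddCore ↥D = ⊤ := by
      have := congrArg (Subgroup.comap (QuotientGroup.mk' (oddCore ↥D))) h
      rw [Subgroup.comap_map_eq, QuotientGroup.ker_mk', Subgroup.comap_top] at this
      exact this
    have h3 : D ≤ M.map D.subtype := by
      apply hD.le_of_two
      intro k hk n hn
      have h4 : (⟨k, hk⟩ : ↥D) ∈ M ⊔ oddCore ↥D := by rw [h2]; trivial
      have h5 := LBalanceCore.mem_left_of_mem_sup (p := 2) hMn
        (Cores.pPrimeCore_coprime (G := ↥D) 2) h4 (n := n) (by ext; simpa using hn)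
      exact ⟨_, h5, rfl⟩
    rw [eq_top_iff]
    rintro ⟨d, hd⟩ -
    obtain ⟨m, hm, hmd⟩ := h3 hd
    have : m = ⟨d, hd⟩ := Subtype.ext hmd
    rwa [← this]

/-- The image of a 2-component `D` with simple quotient, `D` not in the kernel. -/
theorem isComp_map [Finite X] (f : A →* X) {H D : Subgroup A} (hD : IsComp H D)
    (hs : IsSimpleGroup (↥D ⧸ oddCore ↥D)) (hne : ¬ D ≤ f.ker) :
    IsComp (H.map f) (D.map f) ∧
      ∃ e : (↥D ⧸ oddCore ↥D) ≃* (↥(D.map f) ⧸ oddCore ↥(D.map f)),
        ∀ (d : A) (hd : d ∈ D), e (QuotientGroup.mk ⟨d, hd⟩) =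
          QuotientGroup.mk ⟨f d, mem_map_of_mem f hd⟩ := by
  have hg : Function.Surjective (f.subgroupMap D) := f.subgroupMap_surjective D
  have hkt : (f.subgroupMap D).ker ≠ ⊤ := by
    intro h
    apply hne
    intro d hd
    have h1 : (⟨d, hd⟩ : ↥D) ∈ (f.subgroupMap D).ker := by rw [h]; trivial
    exact congrArg Subtype.val h1
  have hk := le_core_of_normal hD hs _ (MonoidHom.normal_ker (f.subgroupMap D)) hkt
  have hker : (Nat.card (f.subgroupMap D).ker).Coprime 2 :=
    (Cores.pPrimeCore_coprime (G := ↥D) 2).coprime_dvd_left (card_dvd_of_le hk)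
  obtain ⟨e, he⟩ := exists_equiv_of_surjective (f.subgroupMap D) hg hker
  refine ⟨?_, e, fun d hd => he ⟨d, hd⟩⟩
  obtain ⟨h1, h2, h3, h4⟩ := isComp_iff.mp hD
  refine isComp_iff.mpr ⟨map_mono h1, ?_, PCompQuot.quasisimple_congr e h3, ?_⟩
  · have h5 := h2.map (f.subgroupMap_surjective H)
    convert h5 using 1
    ext ⟨x, hx⟩
    constructor
    · rintro ⟨d, hd, hdx⟩
      exact ⟨⟨d, h1 hd⟩, hd, Subtype.ext hdx⟩
    · rintro ⟨⟨d, hdH⟩, hd, hdx⟩
      exact ⟨d, hd, congrArg Subtype.val hdx⟩
  · apply le_antisymm (PComponents.pElem_le _)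
    have h5 : D ≤ (PComponents.pElem 2 (D.map f)).comap f := by
      apply hD.le_of_two
      intro k hk n hn
      exact PComponents.mem_pElem (n := n) (mem_map_of_mem f hk) (by rw [← map_pow, hn, map_one])
    rintro _ ⟨d, hd, rfl⟩
    exact h5 hd

end map

section almostsimple

variable {X : Type*} [Group X]

theorem le_of_normal {I : Subgroup X} (hn : I.Normal) (hs : IsSimpleGroup I)
    (hC : centralizer (I : Set X) = ⊥) {N : Subgroup X} (hN : N.Normal) (hne : N ≠ ⊥) :
    I ≤ N := by
  have h1 : (N.subgroupOf I).Normal := inferInstance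
  rcases hs.eq_bot_or_eq_top_of_normal _ h1 with h | h
  · exfalso
    apply hne
    rw [eq_bot_iff, ← hC]
    have hd : Disjoint N I := by
      rw [disjoint_iff, eq_bot_iff]
      rintro x ⟨hxN, hxI⟩
      have : (⟨x, hxI⟩ : I) ∈ N.subgroupOf I := hxN
      rw [h, mem_bot] at this
      exact congrArg Subtype.val this
    intro x hx
    rw [mem_centralizer_iff]
    intro y hy
    exact (Subgroup.commute_of_normal_of_disjoint N I hN hn hd x y hx hy).eq.symm
  · rw [subgroupOf_eq_top] at h
    exact h

/-- almost simple groups -/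
theorem genFitting_eq [Finite X] {I : Subgroup X} (hn : I.Normal) (hs : IsSimpleGroup I)
    (hq : IsQuasisimple I) (hC : centralizer (I : Set X) = ⊥) (h2 : 2 ∣ Nat.card I) :
    oddCore X = ⊥ ∧ generalizedFittingSubgroup X = I := by
  constructor
  · by_contra hO
    have h1 := le_of_normal hn hs hC (inferInstance : (oddCore X).Normal) hO
    have h3 := (Cores.pPrimeCore_coprime (G := X) 2)
    have h4 := h2.trans (card_dvd_of_le h1)
    exact (Nat.Prime.coprime_iff_not_dvd Nat.prime_two).mp h3.symm h4
  · have hcomp : IsComponent I := ⟨hn.isSubnormal, hq⟩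
    have hlayer : layer X = I := by
      apply le_antisymm
      · rw [Components.layer_le_iff]
        intro L hL
        by_contra hne
        have hLI : L ≠ I := fun h => hne h.le
        have h1 := Components.component_le_centralizer_of_ne hL hcomp hLI
        rw [hC] at h1
        exact Components.component_ne_bot hL (le_bot_iff.mp h1)
      · exact Components.component_le_layer hcomp
    have hfit : fittingSubgroup X = ⊥ := by
      by_contra hF
      have h1 := le_of_normal hn hs hC (inferInstance : (fittingSubgroup X).Normal) hF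
      have h3 : Group.IsNilpotent (fittingSubgroup X) := Cores.fittingSubgroup_isNilpotent
      have h5 : Group.IsSolvable (fittingSubgroup X) := inferInstance
      exact Components.quasisimple_not_isSolvable hq
        (Group.isSolvable_of_isSolvable_injective (f := inclusion h1) (inclusion_injective h1))
    rw [GenFitting.genFitting_def, hlayer, hfit, sup_bot_eq]

end almostsimple

end Cfsg.Agent.McLLyComp.MapComp
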