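import Cfsg.Agent.McLLyComp.NoPair

/-!
# S1739: no 2-component of type `𝒯` contains a bad involution, and `|Ω(t)| ≤ 1`

Notation: `t` an involution, `K` a 2-component of type `𝒯` of `C(t)`, `z ∈ K` an involution, `A = cen K z`.
`NP 𝒯 G` collects the facts used: minimality, the bridge (`A` is a 2-component of `C_H(z)`, ...) and
statement (V): `A ≤ J`, `J` a `t`-invariant 2-component of `C(z)` which `t` does not fix.

* `NP.v1` : an involution fixing `K` and commuting with `t`, `z` does not fix `J`.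
* `NP.v2` : `C(t)` has at most one 2-component of type `𝒯`.
* `NP.v3` : an involution of `K` is not bad.
* `unique`, `not_bad` : the same from `NoPair.Ctx`.
-/

set_option autoImplicit false

open Cfsg Subgroup
open Cfsg.Agent.SignalizersComponents Cfsg.Agent.Lib
open Cfsg.Agent.SignalizersComponents.IntrinsicBasic
open Cfsg.Agent.SignalizersComponents.PLayerAut
open Cfsg.Agent.Intrinsic.Basic Cfsg.Agent.Intrinsic.Cen Cfsg.Agent.Intrinsic.Quot
open Cfsg.Agent.McLLyComp.Act Cfsg.Agent.McLLyComp.MapComp Cfsg.Agent.McLLyComp.Defs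
open scoped commutatorElement

universe u

namespace Cfsg.Agent.McLLyComp.NoBad

/-- the input of the three lemmas -/
structure NP (𝒯 : Ty.{u}) (G : Type u) [Group G] [Finite G] : Prop where
  F : Facts 𝒯
  min : NoT 𝒯 (Nat.card G)
  cent : ∀ x : G, orderOf x = 2 → centralizer ({x} : Set G) ≠ ⊤
  /-- every involution of a group of type `𝒯` is a square -/
  four : ∀ {X : Type u} [Group X] [Finite X], 𝒯 X → ∀ y : X, orderOf y = 2 → ∃ c : X, c * c = y
  br : ∀ (H K : Subgroup G) (z : G), TComp 𝒯 H K → orderOf z = 2 → z ∈ K →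
    IsComp (H ⊓ centralizer ({z} : Set G)) (cen K z) ∧ z ∈ cen K z ∧
      core (cen K z) = cen K z ⊓ core K ∧
      ∀ a ∈ K, a⁻¹ * (z * a * z⁻¹) ∈ core K → ∃ j ∈ cen K z, j⁻¹ * a ∈ core K
  V : ∀ (t : G) (K : Subgroup G) (z : G), orderOf t = 2 → TComp 𝒯 (centralizer ({t} : Set G)) K →
    orderOf z = 2 → z ∈ K → ∃ J, IsComp (centralizer ({z} : Set G)) J ∧ cen K z ≤ J ∧
      cj t J = J ∧ ¬ Fixes t J

variable {𝒯 : Ty.{u}} {G : Type u} [Group G] [Finite G]

omit [Finite G] in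
theorem sq_of {x : G} (h : orderOf x = 2) : x * x = 1 := sq_of_order h

theorem NP.card_lt (h : NP 𝒯 G) {x : G} (hx : orderOf x = 2) :
    Nat.card (centralizer ({x} : Set G)) < Nat.card G := by
  refine lt_of_le_of_ne (card_le_card_group _) fun he => h.cent x hx ?_
  exact (card_eq_iff_eq_top _).mp he

omit [Finite G] in
theorem mem_ctr {x y : G} (h : x * y = y * x) : x ∈ centralizer ({y} : Set G) :=
  mem_centralizer_singleton_iff.mpr h

/-- two 2-components of `H` containing a common 2-component coincide (diagonal version) -/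
theorem core_of_comm {H A : Subgroup G} (hA : IsComp H A) {X : Subgroup G}
    (h : ∀ a ∈ A, ∀ b ∈ A, ⁅a, b⁆ ∈ core X) : False := by
  have h1 : ⁅A, A⁆ ≤ core X := by
    rw [commutator_le]
    exact h
  rw [hA.perfect] at h1
  exact hA.not_odd (odd_card_core X) h1

theorem NP.v1 (h : NP 𝒯 G) {t z s : G} {K J : Subgroup G} (ht : orderOf t = 2)
    (hK : TComp 𝒯 (centralizer ({t} : Set G)) K) (hz : orderOf z = 2) (hzK : z ∈ K)
    (hJ : IsComp (centralizer ({z} : Set G)) J) (hAJ : cen K z ≤ J) (htJ : cj t J = J)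
    (hnf : ¬ Fixes t J) (hs : orderOf s = 2) (hst : s * t = t * s) (hsK : Fixes s K)
    (hsz : s * z = z * s) : ¬ Fixes s J := by
  intro hsJ
  have hss := sq_of hs
  have htt := sq_of ht
  have hzz := sq_of hz
  obtain ⟨hAc, hzA, hAcore, -⟩ := h.br _ _ _ hK hz hzK
  -- `J_s`
  obtain ⟨hJs, hJsup⟩ := isComp_cen hJ (mem_ctr hsz) hss hsJ
  have hzJs : z ∈ cen J s := mem_cen_of_sq (hAJ hzA) hsz.symm hzz
  have hJs' : IsComp (centralizer ({s} : Set G) ⊓ centralizer ({z} : Set G)) (cen J s) := by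
    rw [inf_comm]; exact hJs
  obtain ⟨Y, hY, hJsY⟩ := exists_pumpup hzz hzJs hJs'
  -- `K_s`
  obtain ⟨hKs, hKsup⟩ := isComp_cen hK.1 (mem_ctr hst) hss hsK
  have hKs' : TComp 𝒯 (centralizer ({s} : Set G) ⊓ centralizer ({t} : Set G)) (cen K s) := by
    rw [inf_comm]
    obtain ⟨e, -⟩ := exists_quotEquiv hKsup
    exact ⟨hKs, h.F.iso e.symm hK.2⟩
  obtain ⟨J1, hJ1, hcase⟩ := Reduce.pump h.F h.min (h.card_lt hs) (mem_ctr hst.symm) htt hKs'
  -- `A_s`
  obtain ⟨A, hA⟩ : ∃ A, A = cen K z := ⟨_, rfl⟩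
  rw [← hA] at hAc hAcore hAJ hzA
  have hsA : Fixes s A := by
    rw [fixes_iff_conj]
    have hsn : s ∈ normalizer (A : Set G) := by rw [hA]; exact mem_normalizer_cen hsK.1 hsz
    refine ⟨hsn, fun y hy => ?_⟩
    rw [hAcore]
    refine ⟨A.mul_mem (A.inv_mem hy) ((mem_normalizer_iff.mp hsn y).mp hy), ?_⟩
    have hyK : y ∈ K := cen_le K z (hA ▸ hy)
    exact (fixes_iff_conj.mp hsK).2 y hyK
  have hsmem : s ∈ centralizer ({t} : Set G) ⊓ centralizer ({z} : Set G) :=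
    ⟨mem_ctr hst, mem_ctr hsz⟩
  obtain ⟨hAs, -⟩ := isComp_cen hAc hsmem hss hsA
  have hAsJ : cen A s ≤ cen J s := hAs.le_of_two fun k hk n hn =>
    mem_cen (hAJ (cen_le _ _ hk)) (comm_of_mem_cen hk) hn
  have hAsY : cen A s ≤ Y := hAsJ.trans hJsY
  have hAsK : cen A s ≤ cen K s := hAs.le_of_two fun k hk n hn =>
    mem_cen (cen_le K z (hA ▸ cen_le _ _ hk)) (comm_of_mem_cen hk) hn
  have htAs : ∀ a ∈ cen A s, t * a * t⁻¹ = a := by
    intro a ha
    have h1 : a ∈ centralizer ({t} : Set G) := (hAs.le ha).1.1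
    rw [← mem_centralizer_singleton_iff.mp h1, mul_inv_cancel_right]
  have hAst : cen A s ≤ cj t Y := by
    intro a ha
    rw [← htAs a ha]
    exact conj_mem_cj (hAsY ha)
  -- `Y = J1`
  have hYJ : Y = J1 ∧ Fixes t J1 := by
    rcases hcase with ⟨hf, h1, -⟩ | ⟨hne, h1⟩
    · refine ⟨hAs.unique hY hJ1.1 hAsY ?_, hf⟩
      refine hAsK.trans ?_
      rw [h1]; exact cen_le _ _
    · exfalso
      have htC : t ∈ centralizer ({s} : Set G) := mem_ctr hst.symm
      have hY2 : Y = J1 ∨ Y = cj t J1 := by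
        by_contra hno
        push Not at hno
        refine core_of_comm hAs (X := centralizer ({s} : Set G)) fun a ha b hb => ?_
        exact Intrinsic.Diag.comm_diag_of_ne hJ1.1 htC htt hne hY hno.1 hno.2
          (h1 ▸ hAsK ha) (hAsY hb)
      have hJ1t : IsComp (centralizer ({s} : Set G)) (cj t J1) :=
        Intrinsic.Diag.isComp_cj_of_mem hJ1.1 htC
      have htt' : cj t (cj t J1) = J1 := by
        have e : t⁻¹ = t := inv_eq_of_mul_eq_one_left htt
        conv_lhs => rw [← e]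
        conv_lhs => rw [e]
        have := cj_inv_cj t J1
        rwa [e] at this
      rcases hY2 with e | e
      · exact hne (hAs.unique hJ1t hJ1.1 (e ▸ hAst) (e ▸ hAsY))
      · refine hne (hAs.unique hJ1t hJ1.1 (e ▸ hAsY) ?_)
        rw [e, htt'] at hAst
        exact hAst
  obtain ⟨rfl, htY⟩ := hYJ
  -- `J_s = cen Y z`
  obtain ⟨hYz, -, hYcore, -⟩ := h.br _ _ _ hJ1 hz (hJsY hzJs)
  have hle : cen J s ≤ cen Y z := hJs'.le_of_two fun k hk n hn =>
    mem_cen (hJsY hk) (mem_centralizer_singleton_iff.mp (hJ.le (cen_le _ _ hk))) hn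
  have heq : cen J s = cen Y z := hJs'.eq_of_le hYz hle
  have hKC : ∀ k ∈ K, k * t = t * k := fun k hk => mem_centralizer_singleton_iff.mp (hK.1.le hk)
  have htz : t * z = z * t := (hKC z hzK).symm
  have htn : t ∈ normalizer (cen Y z : Set G) := mem_normalizer_cen htY.1 htz
  have hft : Fixes t (cen Y z) := by
    rw [fixes_iff_conj]
    refine ⟨htn, fun y hy => ?_⟩
    rw [hYcore]
    exact ⟨(cen Y z).mul_mem ((cen Y z).inv_mem hy) ((mem_normalizer_iff.mp htn y).mp hy),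
      (fixes_iff_conj.mp htY).2 y (cen_le _ _ hy)⟩
  rw [← heq] at hft
  exact hnf ((fixes_iff_of_sup hJsup hft.1 (mem_normalizer_iff_cj.mpr htJ)).mp hft)

omit [Finite G] in
theorem exists_inv {K : Subgroup G} [Finite K] (h : 2 ∣ Nat.card K) : ∃ x ∈ K, orderOf x = 2 := by
  have : Fact (Nat.Prime 2) := ⟨Nat.prime_two⟩
  obtain ⟨x, hx⟩ := exists_prime_orderOf_dvd_card' 2 h
  exact ⟨x, x.2, by rw [Subgroup.orderOf_coe]; exact hx⟩

/-- **(V2)** -/
theorem NP.v2 (h : NP 𝒯 G) {t : G} {K L : Subgroup G} (ht : orderOf t = 2)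
    (hK : TComp 𝒯 (centralizer ({t} : Set G)) K) (hL : TComp 𝒯 (centralizer ({t} : Set G)) L) :
    K = L := by
  by_contra hne
  have htt := sq_of ht
  obtain ⟨x, hxL, hx⟩ := exists_inv hL.1.even
  have hxx := sq_of hx
  have hxt : x * t = t * x := mem_centralizer_singleton_iff.mp (hL.1.le hxL)
  have hxK : Fixes x K := hK.1.fixes_of_mem hL.1 hne hxL
  obtain ⟨hKx, -⟩ := isComp_cen hK.1 (mem_ctr hxt) hxx hxK
  obtain ⟨z, hzKx, hz⟩ := exists_inv hKx.even
  have hzz := sq_of hz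
  have hzx : z * x = x * z := comm_of_mem_cen hzKx
  have hzK : z ∈ K := cen_le _ _ hzKx
  have hzt : z * t = t * z := mem_centralizer_singleton_iff.mp (hK.1.le hzK)
  have hzL : Fixes z L := hL.1.fixes_of_mem hK.1 (Ne.symm hne) hzK
  obtain ⟨J, hJ, hAJ, htJ, hnf⟩ := h.V t K z ht hK hz hzK
  have hnx : ¬ Fixes x J := h.v1 ht hK hz hzK hJ hAJ htJ hnf hx hxt hxK hzx.symm
  obtain ⟨hLz, hLsup⟩ := isComp_cen hL.1 (mem_ctr hzt) hzz hzL
  have hxLz : x ∈ cen L z := mem_cen_of_sq hxL hzx.symm hxx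
  have hLz' : TComp 𝒯 (centralizer ({z} : Set G) ⊓ centralizer ({t} : Set G)) (cen L z) := by
    rw [inf_comm]
    obtain ⟨e, -⟩ := exists_quotEquiv hLsup
    exact ⟨hLz, h.F.iso e.symm hL.2⟩
  have htC : t ∈ centralizer ({z} : Set G) := mem_ctr hzt.symm
  obtain ⟨L', hL', hcase⟩ := Reduce.pump h.F h.min (h.card_lt hz) htC htt hLz'
  rcases hcase with ⟨hf, h1, -⟩ | ⟨hne', h1⟩
  · refine hnx (hJ.fixes_of_mem hL'.1 ?_ (cen_le L' t (h1 ▸ hxLz)))
    rintro rfl
    exact hnf hf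
  · refine hnx ?_
    have hxC : x ∈ centralizer ({z} : Set G) := mem_ctr hzx.symm
    rw [hJ.fixes_iff hxC, mem_cenMod hJ.le]
    refine ⟨hxC, fun l hl => ?_⟩
    have hJL : J ≠ L' := by
      rintro rfl
      exact hne' htJ
    have hJL' : J ≠ cj t L' := by
      intro e
      apply hne'
      have h2 : cj t⁻¹ J = L' := by rw [e, cj_inv_cj]
      have h3 : cj t⁻¹ J = J := by
        conv_lhs => rw [← htJ]
        exact cj_inv_cj t J
      rw [← h2, h3, htJ]
    have h2 := Intrinsic.Diag.comm_diag_of_ne hL'.1 htC htt hne' hJ hJL hJL' (h1 ▸ hxLz) hl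
    -- `l⁻¹ (x l x⁻¹) = l⁻¹ ⁅x, l⁆ l`
    have h3 : l⁻¹ * ⁅x, l⁆ * (l⁻¹)⁻¹ ∈ core (centralizer ({z} : Set G)) :=
      conj_mem_core (le_normalizer (inv_mem (hJ.le hl))) h2
    have h4 : l⁻¹ * ⁅x, l⁆ * (l⁻¹)⁻¹ = l⁻¹ * (x * l * x⁻¹) := by
      rw [commutatorElement_def]; group
    rw [h4] at h3
    exact h3

/-! ### (V3) -/

theorem pow_two_two {X : Type*} [Monoid X] (x : X) : x ^ 2 ^ 2 = x * x * (x * x) := by
  rw [show (2 : ℕ) ^ 2 = 2 * 2 by norm_num, pow_mul, pow_two, pow_two]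

theorem center_eq_one {X : Type*} [Group X] (hs : IsSimpleGroup X) (hq : IsQuasisimple X) {x : X}
    (hx : ∀ y, x * y = y * x) : x = 1 := by
  have hxc : x ∈ center X := mem_center_iff.mpr fun y => (hx y).symm
  rcases (inferInstance : (center X).Normal).eq_bot_or_eq_top with h | h
  · rw [h] at hxc
    exact mem_bot.mp hxc
  · exfalso
    have h1 : commutator X = ⊥ := by
      rw [_root_.commutator_def, eq_bot_iff, commutator_le]
      intro a _ b _
      rw [mem_bot, commutatorElement_eq_one_iff_mul_comm]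
      have hb : b ∈ center X := by rw [h]; exact mem_top b
      exact mem_center_iff.mp hb a
    have h2 := (Group.isPerfect_def).mp hq.1
    rw [h1] at h2
    exact bot_ne_top h2

theorem z_notMem (F : Facts 𝒯) {z : G} {L : Subgroup G} (hz : orderOf z = 2)
    (hL : TComp 𝒯 (centralizer ({z} : Set G)) L) : z ∉ L := by
  intro hzL
  have h1 : (QuotientGroup.mk (⟨z, hzL⟩ : ↥L) : ↥L ⧸ oddCore ↥L) = 1 := by
    refine center_eq_one (hL.simple F) (quasisimple_quot hL.1) fun y => ?_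
    obtain ⟨⟨y, hy⟩, rfl⟩ := QuotientGroup.mk_surjective y
    rw [← QuotientGroup.mk_mul, ← QuotientGroup.mk_mul]
    congr 1
    apply Subtype.ext
    exact (mem_centralizer_singleton_iff.mp (hL.1.le hy)).symm
  have h2 := (Act.mk_eq_one_iff hzL).mp h1
  exact ne_one_of_order hz (eq_one_of_mem_core_sq h2 (sq_of hz))

/-- an element of order 4 fixed by an automorphism of order `≤ 2` -/
theorem NP.exists_four (h : NP 𝒯 G) {X : Type u} [Group X] [Finite X] (hX : 𝒯 X)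
    (hq : IsQuasisimple X) (h2 : 2 ∣ Nat.card X) {τ : MulAut X} (hτ : τ * τ = 1) :
    ∃ c : X, τ c = c ∧ c * c ≠ 1 ∧ (c * c) * (c * c) = 1 := by
  have : Fact (Nat.Prime 2) := ⟨Nat.prime_two⟩
  by_cases hin : ∃ x, τ = MulAut.conj x
  · obtain ⟨x, rfl⟩ := hin
    have hxx : x * x = 1 := by
      refine center_eq_one (h.F.simple hX) hq fun y => ?_
      have h1 := DFunLike.congr_fun hτ y
      change x * (x * y * x⁻¹) * x⁻¹ = y at h1
      calc x * x * y = (x * (x * y * x⁻¹) * x⁻¹) * (x * x) := by group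
        _ = y * (x * x) := by rw [h1]
    by_cases hx : x = 1
    · subst hx
      obtain ⟨y, hy⟩ := exists_prime_orderOf_dvd_card' 2 h2
      obtain ⟨c, hc⟩ := h.four hX y hy
      refine ⟨c, by simp, ?_, ?_⟩
      · rw [hc]; exact ne_one_of_order hy
      · rw [hc]; exact sq_of hy
    · obtain ⟨c, hc⟩ := h.four hX x (order_two hx hxx)
      refine ⟨c, ?_, ?_, ?_⟩
      · change x * c * x⁻¹ = c
        rw [← hc]; group
      · rw [hc]; exact hx
      · rw [hc]; exact hxx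
  · push Not at hin
    obtain ⟨m, c, -, h1, h2, h3⟩ := h.F.outer hX τ hτ hin
    exact ⟨c, h3, h1, h2⟩

/-- **(V3)** -/
theorem NP.v3 (h : NP 𝒯 G) {t z : G} {K : Subgroup G} (ht : orderOf t = 2)
    (hK : TComp 𝒯 (centralizer ({t} : Set G)) K) (hz : orderOf z = 2) (hzK : z ∈ K) :
    ¬ Bad 𝒯 z := by
  rintro ⟨-, L, hL⟩
  have htt := sq_of ht
  have hzz := sq_of hz
  obtain ⟨J, hJ, hAJ, htJ, hnf⟩ := h.V t K z ht hK hz hzK
  obtain ⟨hAc, hzA, hAcore, hAcov⟩ := h.br _ _ _ hK hz hzK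
  have hzL := z_notMem h.F hz hL
  have hne : J ≠ L := by
    rintro rfl
    exact hzL (hAJ hzA)
  have hzt : z * t = t * z := mem_centralizer_singleton_iff.mp (hK.1.le hzK)
  have htC : t ∈ centralizer ({z} : Set G) := mem_ctr hzt.symm
  have htL : cj t L = L := h.v2 hz (hL.cj_of_mem h.F htC) hL
  have htn : t ∈ normalizer (L : Set G) := mem_normalizer_iff_cj.mpr htL
  -- the element of order 4
  have hττ : act L ⟨t, htn⟩ * act L ⟨t, htn⟩ = 1 := by
    rw [← map_mul]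
    have e : (⟨t, htn⟩ * ⟨t, htn⟩ : ↥(normalizer (L : Set G))) = 1 := Subtype.ext htt
    rw [e, map_one]
  have hL2 : 2 ∣ Nat.card (↥L ⧸ oddCore ↥L) := by
    have : Fact (Nat.Prime 2) := ⟨Nat.prime_two⟩
    have h1 : Nat.card ↥L = Nat.card (↥L ⧸ oddCore ↥L) * Nat.card ↥(oddCore ↥L) :=
      card_eq_card_quotient_mul_card_subgroup _
    have h2 := hL.1.even
    rw [h1] at h2
    rcases (Nat.Prime.dvd_mul Nat.prime_two).mp h2 with h3 | h3
    · exact h3
    · exfalso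
      have h4 := (Cores.pPrimeCore_coprime (G := ↥L) 2)
      exact absurd (Nat.Coprime.eq_one_of_dvd h4.symm h3) (by norm_num)
  obtain ⟨c₀, hc1, hc2, hc3⟩ := h.exists_four hL.2 (quasisimple_quot hL.1) hL2 hττ
  obtain ⟨⟨x₀, hx₀⟩, rfl⟩ := QuotientGroup.mk_surjective c₀
  rw [act_mk htn hx₀] at hc1
  have hc1' := (Act.mk_eq_iff hx₀ (conj_mem htn hx₀)).mp hc1.symm
  have hx4 : x₀ ^ 2 ^ 2 ∈ core L := by
    have h1 : (QuotientGroup.mk (⟨x₀ ^ 2 ^ 2, L.pow_mem hx₀ _⟩ : ↥L) : ↥L ⧸ oddCore ↥L) = 1 := by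
      rw [← hc3, ← QuotientGroup.mk_mul, ← QuotientGroup.mk_mul]
      congr 1
      apply Subtype.ext
      exact pow_two_two x₀
    exact (Act.mk_eq_one_iff _).mp h1
  obtain ⟨o, ho, ho4, hot⟩ := Intrinsic.Lifting.exists_two_element (odd_card_core L)
    (v := t) (n := 1) (by simpa [pow_two] using htt)
    (normalizer_le_normalizer_core L htn) (le_normalizer_core L hx₀) hx4 hc1'
  obtain ⟨c, hc⟩ : ∃ c, c = x₀ * o := ⟨_, rfl⟩
  rw [← hc] at ho4 hot
  have hcL : c ∈ L := hc ▸ L.mul_mem hx₀ (core_le L ho)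
  have hcc : c * c ≠ 1 := by
    intro e
    apply hc2
    have h1 : (QuotientGroup.mk (⟨x₀, hx₀⟩ : ↥L) : ↥L ⧸ oddCore ↥L) =
        QuotientGroup.mk ⟨c, hcL⟩ := by
      rw [Act.mk_eq_iff hx₀ hcL, hc]
      have : x₀⁻¹ * (x₀ * o) = o := by group
      rw [this]; exact ho
    rw [h1, ← QuotientGroup.mk_mul]
    have h2 : (⟨c, hcL⟩ * ⟨c, hcL⟩ : ↥L) = 1 := Subtype.ext e
    rw [h2]; rfl
  have hc4 : (c * c) * (c * c) = 1 := by rw [← pow_two_two, ho4]
  have hct : c * t = t * c := hot.symm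
  have hcz : c * z = z * c := mem_centralizer_singleton_iff.mp (hL.1.le hcL)
  have hcK' : cj c K = K := h.v2 ht (hK.cj_of_mem h.F (mem_ctr hct)) hK
  have hcK : c ∈ normalizer (K : Set G) := mem_normalizer_iff_cj.mpr hcK'
  -- `c` fixes `J`
  have hcJ : Fixes c J := hJ.fixes_of_mem hL.1 hne hcL
  -- the action on `K`
  obtain ⟨γ, hγ⟩ : ∃ γ, γ = act K ⟨c, hcK⟩ := ⟨_, rfl⟩
  have hγ4 : γ ^ 2 ^ 2 = 1 := by
    rw [hγ, ← map_pow]
    have e : (⟨c, hcK⟩ : ↥(normalizer (K : Set G))) ^ 2 ^ 2 = 1 := Subtype.ext ho4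
    rw [e, map_one]
  obtain ⟨x, hx⟩ := h.F.sq hK.2 γ 2 hγ4
  have hcA : c ∈ normalizer (cen K z : Set G) := mem_normalizer_cen hcK hcz
  have hAodd : cen K z ⊓ core J ≤ core (cen K z) := by
    refine le_core inf_le_left ?_ ?_
    · intro a ha
      rw [mem_normalizer_iff]
      intro n
      have h1 := mem_normalizer_iff.mp (le_normalizer ha) n
      have h2 := mem_normalizer_iff.mp (le_normalizer_core J (hAJ ha)) n
      exact and_congr h1 h2
    · exact (odd_card_core J).of_dvd_nat (card_dvd_of_le inf_le_right)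
  have hfix : ∀ y : ↥K ⧸ oddCore ↥K, y * QuotientGroup.mk ⟨z, hzK⟩ = QuotientGroup.mk ⟨z, hzK⟩ * y →
      γ y = y := by
    intro y hy
    obtain ⟨⟨a, ha⟩, rfl⟩ := QuotientGroup.mk_surjective y
    have h1 := (mk_comm_iff ha hzK).mp hy
    obtain ⟨j, hj, hja⟩ := hAcov a ha h1
    have hjK : j ∈ K := cen_le K z hj
    have h2 : (QuotientGroup.mk (⟨a, ha⟩ : ↥K) : ↥K ⧸ oddCore ↥K) = QuotientGroup.mk ⟨j, hjK⟩ :=
      ((Act.mk_eq_iff hjK ha).mpr hja).symm
    rw [h2, hγ, act_mk hcK hjK]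
    symm
    rw [Act.mk_eq_iff]
    have h3 : j⁻¹ * (c * j * c⁻¹) ∈ core (cen K z) := by
      apply hAodd
      refine ⟨(cen K z).mul_mem ((cen K z).inv_mem hj) ((mem_normalizer_iff.mp hcA j).mp hj), ?_⟩
      exact (fixes_iff_conj.mp hcJ).2 j (hAJ hj)
    rw [hAcore] at h3
    exact h3.2
  have hz1 : (QuotientGroup.mk (⟨z, hzK⟩ : ↥K) : ↥K ⧸ oddCore ↥K) ≠ 1 := by
    intro e
    exact ne_one_of_order hz (eq_one_of_mem_core_sq ((Act.mk_eq_one_iff hzK).mp e) hzz)
  have hz2 : orderOf (QuotientGroup.mk (⟨z, hzK⟩ : ↥K) : ↥K ⧸ oddCore ↥K) = 2 := by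
    refine order_two hz1 ?_
    rw [← QuotientGroup.mk_mul]
    have e : (⟨z, hzK⟩ * ⟨z, hzK⟩ : ↥K) = 1 := Subtype.ext hzz
    rw [e]; rfl
  have hxcase := h.F.cent_center hK.2 _ hz2 x fun y hy => by
    have h1 := hfix y hy
    have h2 : (γ * γ) y = y := by
      change γ (γ y) = y
      rw [h1, h1]
    rw [hx] at h2
    change x * y * x⁻¹ = y at h2
    calc x * y = (x * y * x⁻¹) * x := by group
      _ = y * x := by rw [h2]
  -- the element `b`
  have hzJ : Fixes z J := by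
    rw [fixes_iff_conj]
    refine ⟨?_, fun y hy => ?_⟩
    · exact le_normalizer (hAJ hzA)
    · have h1 := mem_centralizer_singleton_iff.mp (hJ.le hy)
      rw [← h1, mul_inv_cancel_right, inv_mul_cancel]
      exact one_mem _
  have hccz : (c * c) * z = z * (c * c) := by
    rw [mul_assoc, hcz, ← mul_assoc, hcz, mul_assoc]
  have hcct : (c * c) * t = t * (c * c) := by
    rw [mul_assoc, hct, ← mul_assoc, hct, mul_assoc]
  obtain ⟨b, hb1, hb2, hbt, hbz, hbK, hbJ⟩ : ∃ b : G, b ≠ 1 ∧ b * b = 1 ∧ b * t = t * b ∧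
      b * z = z * b ∧ Fixes b K ∧ Fixes b J := by
    have hccn : c * c ∈ normalizer (K : Set G) := mul_mem hcK hcK
    have hact : act K ⟨c * c, hccn⟩ = γ * γ := by rw [hγ]; exact act_mul hcK hcK
    rcases hxcase with e | e
    · refine ⟨c * c, hcc, hc4, hcct, hccz, ?_, fixes_mul hcJ hcJ⟩
      rw [← act_eq_one_iff hccn, hact, hx, e, map_one]
    · refine ⟨c * c * z⁻¹, ?_, ?_, ?_, ?_, ?_, ?_⟩
      · intro e1
        have e2 : c * c = z := mul_inv_eq_one.mp e1
        exact hzL (e2 ▸ L.mul_mem hcL hcL)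
      · have ez : z⁻¹ = z := inv_eq_of_mul_eq_one_left hzz
        rw [ez]
        calc (c * c * z) * (c * c * z) = (c * c) * (z * (c * c)) * z := by group
          _ = (c * c) * ((c * c) * z) * z := by rw [hccz]
          _ = ((c * c) * (c * c)) * (z * z) := by group
          _ = 1 := by rw [hc4, hzz, one_mul]
      · have ez : z⁻¹ = z := inv_eq_of_mul_eq_one_left hzz
        rw [ez, mul_assoc, hzt, ← mul_assoc, hcct, mul_assoc]
      · rw [inv_mul_cancel_right, ← mul_assoc, ← hccz, mul_inv_cancel_right]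
      · rw [← act_eq_iff hccn (le_normalizer hzK), hact, hx, e, act_of_mem]
      · exact fixes_mul (fixes_mul hcJ hcJ) (fixes_inv hzJ)
  exact h.v1 ht hK hz hzK hJ hAJ htJ hnf (order_two hb1 hb2) hbt hbK hbz hbJ

/-! ### the application -/

/-- in a group of type `MT n` every involution is a square -/
theorem sq_of_mt {n : ℕ} {X : Type*} [Group X] (hn : 8 ≤ n) (L : TypeM.Two.MT n X) {y : X}
    (hy : orderOf y = 2) : ∃ c : X, c * c = y := by
  obtain ⟨L', rfl⟩ := L.exists_rebase (sq_of_order hy) (ne_one_of_order hy)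
  obtain ⟨a, b, c, d, hab, hac, had, hbc, hbd, hcd⟩ : ∃ a b c d : Fin n,
      a ≠ b ∧ a ≠ c ∧ a ≠ d ∧ b ≠ c ∧ b ≠ d ∧ c ≠ d := by
    refine ⟨⟨0, by omega⟩, ⟨1, by omega⟩, ⟨2, by omega⟩, ⟨3, by omega⟩, ?_⟩
    simp [Fin.ext_iff]
  have hm : Equiv.swap a b * Equiv.swap c d ∈ alternatingGroup (Fin n) := by
    rw [Equiv.Perm.mem_alternatingGroup, map_mul, Equiv.Perm.sign_swap hab,
      Equiv.Perm.sign_swap hcd]
    decide
  obtain ⟨g, hg⟩ := L'.K.exists_lift hm
  have h1 := L'.K.dbl a b c d hab hac had hbc hbd hcd g hg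
  refine ⟨g, ?_⟩
  have h2 := congrArg Subtype.val h1
  rw [Subgroup.coe_mul, L'.hz] at h2
  exact h2

/-- the input of the lemmas, from the context -/
theorem np_of_ctx {n : ℕ} (h : NoPair.Ctx 𝒯 n G) : NP 𝒯 G where
  F := h.F
  min := h.min
  cent := h.cent
  four := by
    intro X _ _ hX y hy
    obtain ⟨L⟩ := h.mt hX
    exact sq_of_mt h.eight_le L hy
  br := fun H K z hK hz hzK => ⟨(h.isComp_cen hK hz hzK).1, NoPair.mem_cen_self hz hzK,
    h.core_cen hK hz hzK, fun a ha hc => h.exists_of_comm hK hz hzK ha hc⟩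
  V := fun t K z ht hK hz hzK => h.exists_J ht hK hz hzK

/-- `|Ω(t)| ≤ 1` -/
theorem unique {n : ℕ} (h : NoPair.Ctx 𝒯 n G) {t : G} {K L : Subgroup G} (ht : orderOf t = 2)
    (hK : TComp 𝒯 (centralizer ({t} : Set G)) K) (hL : TComp 𝒯 (centralizer ({t} : Set G)) L) :
    K = L := (np_of_ctx h).v2 ht hK hL

/-- no involution of a 2-component of type `𝒯` is bad -/
theorem not_bad {n : ℕ} (h : NoPair.Ctx 𝒯 n G) {t z : G} {K : Subgroup G} (ht : orderOf t = 2)
    (hK : TComp 𝒯 (centralizer ({t} : Set G)) K) (hz : orderOf z = 2) (hzK : z ∈ K) :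
    ¬ Bad 𝒯 z := (np_of_ctx h).v3 ht hK hz hzK

end Cfsg.Agent.McLLyComp.NoBad
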