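import Cfsg.Agent.McLLyComp.Ctx
import Cfsg.Agent.S0892

/-!
# S1739 from S1738: the component `J` of `C(z)` above `cen K z`

* `injective_of_cover`: a quasisimple group with quotient `2.A_n` is `2.A_n`.
* `Ctx.no_four`: no two different 2-components `2.A_n` of `C(s) ∩ C(v)` contain `s`, `v` respectively.
* `Ctx.exists_J`: `K` a 2-component of type `𝒯` of `C(t)`, `z` an involution of `K`: `cen K z` lies in a
  2-component `J` of `C(z)`, `J` is normalized, but not fixed by `t`.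
-/

set_option autoImplicit false

open Cfsg Subgroup
open Cfsg.Agent.SignalizersComponents Cfsg.Agent.Lib
open Cfsg.Agent.SignalizersComponents.IntrinsicBasic
open Cfsg.Agent.SignalizersComponents.PLayerAut
open Cfsg.Agent.Intrinsic.Basic Cfsg.Agent.Intrinsic.Cen Cfsg.Agent.Intrinsic.Quot
open Cfsg.Agent.Intrinsic.Diag
open Cfsg.Agent.McLLyComp.Defs

universe u

namespace Cfsg.Agent.McLLyComp.NoPair

/-- A quasisimple group with a quotient `2.A_n`, `n = 8, 11`, is `2.A_n`. -/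
theorem injective_of_cover {A B : Type*} [Group A] [Finite A] [Group B] {n : ℕ}
    (hn : n = 8 ∨ n = 11) (hq : IsQuasisimple A)
    (hB : IsNonsplitDoubleCover B ↥(alternatingGroup (Fin n))) (f : A →* B)
    (hf : Function.Surjective f) : Function.Injective f := by
  obtain ⟨h2, ⟨e⟩, -⟩ := hB
  obtain ⟨q, hq1⟩ : ∃ q : A →* ↥(alternatingGroup (Fin n)), ∀ a, q a = e (QuotientGroup.mk (f a)) :=
    ⟨e.toMonoidHom.comp ((QuotientGroup.mk' (center B)).comp f), fun _ => rfl⟩
  have hqs : Function.Surjective q := by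
    intro x
    obtain ⟨y, rfl⟩ := e.surjective x
    obtain ⟨b, rfl⟩ := QuotientGroup.mk_surjective y
    obtain ⟨a, rfl⟩ := hf b
    exact ⟨a, hq1 a⟩
  have hker : ∀ a, a ∈ q.ker ↔ f a ∈ center B := by
    intro a
    rw [MonoidHom.mem_ker, hq1, e.map_eq_one_iff, QuotientGroup.eq_one_iff]
  have hnt : Nontrivial ↥(alternatingGroup (Fin n)) := by
    apply alternatingGroup.nontrivial_of_three_le_card
    rw [Nat.card_eq_fintype_card, Fintype.card_fin]
    omega
  have hne : q.ker ≠ ⊤ := by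
    intro h
    obtain ⟨x, hx⟩ := exists_ne (1 : ↥(alternatingGroup (Fin n)))
    obtain ⟨a, rfl⟩ := hqs x
    exact hx (MonoidHom.mem_ker.mp (by rw [h]; exact mem_top a))
  have hc := (Components.quasisimple_normal hq q.ker inferInstance).resolve_left hne
  have hcard : Nat.card q.ker ≤ 2 := by
    refine Cfsg.Agent.S0892.result n (by omega) (by omega) (by omega) q.ker hc ?_
      (QuotientGroup.quotientKerEquivOfSurjective q hqs)
    rw [hq.1.commutator_eq_top]
    exact le_top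
  obtain ⟨g, hg⟩ : ∃ g : q.ker →* center B, ∀ a, (g a : B) = f a :=
    ⟨{ toFun := fun a => ⟨f a, (hker a).mp a.2⟩
       map_one' := Subtype.ext (map_one f)
       map_mul' := fun a b => Subtype.ext (map_mul f _ _) }, fun _ => rfl⟩
  have hgs : Function.Surjective g := by
    rintro ⟨b, hb⟩
    obtain ⟨a, rfl⟩ := hf b
    exact ⟨⟨a, (hker a).mpr hb⟩, Subtype.ext (hg _)⟩
  have hgi : Function.Injective g := by
    refine (Function.Surjective.bijective_of_nat_card_le hgs ?_).1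
    rw [h2]
    exact hcard
  rw [injective_iff_map_eq_one]
  intro a ha
  have h3 : a ∈ q.ker := (hker a).mpr (by rw [ha]; exact one_mem _)
  have h4 : (⟨a, h3⟩ : q.ker) = 1 := hgi (by
    apply Subtype.ext
    rw [hg, map_one]
    exact ha)
  exact congrArg Subtype.val h4

section

variable {G : Type*} [Group G] [Finite G]

/-- a 2-component inside `W` whose members fix `W` does not exist -/
theorem not_le_of_fixes {H J W : Subgroup G} (hJ : IsComp H J) (hJW : J ≤ W)
    (h : ∀ a ∈ J, Fixes a W) : False := by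
  refine hJ.not_odd (odd_card_core W) ?_
  conv_lhs => rw [← hJ.perfect]
  rw [commutator_le]
  intro a ha b hb
  exact (h a ha).2 b (hJW hb)

end

variable {𝒯 : Ty.{u}} {n : ℕ} {G : Type u} [Group G] [Finite G]

theorem Ctx.no_four (h : Ctx 𝒯 n G) {s v : G} (hs : orderOf s = 2) (hv : orderOf v = 2)
    (hsv : s ≠ v) {J₁ J₂ : Subgroup G}
    (h₁ : IsComp (centralizer ({s} : Set G) ⊓ centralizer ({v} : Set G)) J₁)
    (h₂ : IsComp (centralizer ({s} : Set G) ⊓ centralizer ({v} : Set G)) J₂)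
    (hc₁ : IsNonsplitDoubleCover (↥J₁ ⧸ oddCore ↥J₁) ↥(alternatingGroup (Fin n)))
    (hc₂ : IsNonsplitDoubleCover (↥J₂ ⧸ oddCore ↥J₂) ↥(alternatingGroup (Fin n)))
    (hs1 : s ∈ J₁) (hv2 : v ∈ J₂) (hne : J₁ ≠ J₂) : False := by
  have hvv := sq_of_order hv
  have hvs : v * s = s * v := mem_centralizer_singleton_iff.mp (h₂.le hv2).1
  have hvC : v ∈ centralizer ({s} : Set G) := (h₂.le hv2).1
  obtain ⟨W, hW, hJW⟩ := exists_pumpup hvv hv2 h₂
  have hvW : v ∈ W := hJW hv2
  have hcard : Nat.card ↥W < Nat.card G :=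
    lt_of_le_of_lt (card_le_of_le hW.le) (h.card_lt hs)
  have hsb := small_or_big h.pqs h.eight_le hv hv2 h₂ hc₂ hW hJW hcard
  obtain ⟨Y, hY, -, hYv⟩ := PumpT.exists_pump hvC hvv h₁
  have hvY : v ∈ normalizer (Y : Set G) := hY.L2_le_normalizer (hW.le_L2 hvW)
  have hJY : J₁ ≤ Y := by
    rcases hYv with h5 | h5
    · exact h5.2
    · exact absurd (mem_normalizer_iff_cj.mp hvY) h5.1
  by_cases hYW : Y = W
  · subst hYW
    have hsY : s ∈ Y := hJY hs1
    rcases hsb with hsm | hb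
    · refine not_le_of_fixes h₁ hJY fun a ha => ?_
      refine (fixes_iff_of_sup hsm ?_ (le_normalizer (hJY ha))).mp (h₂.fixes_of_mem h₁ hne.symm ha)
      exact (h₂.fixes_of_mem h₁ hne.symm ha).1
    · obtain ⟨g, hg, e⟩ := hb.conj hvv hsY (sq_of_order hs) (ne_one_of_order hs)
      have hgs : g * s = s * g := mem_centralizer_singleton_iff.mp (hY.le hg)
      apply hsv
      calc s = g⁻¹ * (g * s) := by group
        _ = g⁻¹ * (s * g) := by rw [hgs]
        _ = g⁻¹ * (g * v * g⁻¹) * g := by rw [e]; group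
        _ = v := by group
  · have hf : Fixes v Y := hY.fixes_of_mem hW hYW hvW
    obtain ⟨h5, h6⟩ := Intrinsic.Cen.isComp_cen hY hvC hvv hf
    have h7 : J₁ ≤ cen Y v := h₁.le_of_two fun k hk m hm =>
      mem_cen (hJY hk) (mem_centralizer_singleton_iff.mp (h₁.le hk).2) hm
    have h8 := h₁.eq_of_le h5 h7
    rw [← h8] at h6
    exact h.pair s Y ⟨hs, hJY hs1, hY, (cover_of_sup h6).mp hc₁⟩

/-- **(V)** -/
theorem Ctx.exists_J (h : Ctx 𝒯 n G) {t z : G} {K : Subgroup G} (ht : orderOf t = 2)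
    (hK : TComp 𝒯 (centralizer ({t} : Set G)) K) (hz : orderOf z = 2) (hzK : z ∈ K) :
    ∃ J, IsComp (centralizer ({z} : Set G)) J ∧ cen K z ≤ J ∧ cj t J = J ∧ ¬ Fixes t J := by
  have htt := sq_of_order ht
  have hzz := sq_of_order hz
  have htz : t * z = z * t := (mem_centralizer_singleton_iff.mp (hK.1.le hzK)).symm
  have htC : t ∈ centralizer ({z} : Set G) := mem_centralizer_singleton_iff.mpr htz
  have hA := (h.isComp_cen hK hz hzK).1
  have hcov := h.cover_cen hK hz hzK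
  have hzA := mem_cen_self hz hzK
  rw [inf_comm] at hA
  obtain ⟨J, hJ, -, hJt⟩ := PumpT.exists_pump htC htt hA
  rcases hJt with ⟨h1, h2⟩ | ⟨h1, h2⟩
  · refine ⟨J, hJ, h2, mem_normalizer_iff_cj.mp h1, fun hf => ?_⟩
    obtain ⟨h3, h4⟩ := Reduce.of_fixes htC htt hA hJ hf h2
    exact h.pair z J ⟨hz, h2 hzA, hJ, (cover_of_sup h4).mp hcov⟩
  · exfalso
    -- the diagonal case
    obtain ⟨-, -, hd3, hd4, f, hfs, hfk, hf1, -⟩ := exists_diag hJ htC htt h1
    rw [← h2] at hd3 hd4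
    have hA' := hA
    have hcovA := hcov
    obtain ⟨A, hAe⟩ : ∃ A, A = cen K z := ⟨_, rfl⟩
    rw [← hAe] at hA hcov hzA h2 hd3 hd4
    subst h2
    have hfi := injective_of_cover h.hn (quasisimple_quot hJ) hcov f hfs
    have hcJ : IsNonsplitDoubleCover (↥J ⧸ oddCore ↥J) ↥(alternatingGroup (Fin n)) :=
      cover_congr (MulEquiv.ofBijective f ⟨hfi, hfs⟩).symm hcov
    -- the central involution of `J / O(J)`
    obtain ⟨x, hx⟩ := hfs (QuotientGroup.mk' _ ⟨z, hzA⟩)
    have hxc : ∀ y, y * x = x * y := by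
      intro y
      apply hfi
      obtain ⟨⟨m, hm⟩, hm'⟩ := QuotientGroup.mk'_surjective _ (f y)
      rw [map_mul, map_mul, hx, ← hm', ← map_mul, ← map_mul]
      congr 1
      apply Subtype.ext
      exact mem_centralizer_singleton_iff.mp (hA.le hm).1
    have hxx : x * x = 1 := by
      apply hfi
      rw [map_mul, hx, map_one, ← map_mul]
      have : (⟨z, hzA⟩ * ⟨z, hzA⟩ : ↥(diag (centralizer ({z} : Set G)) J t)) = 1 := Subtype.ext hzz
      rw [this, map_one]
    have hx1 : x ≠ 1 := by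
      rintro rfl
      rw [map_one, eq_comm] at hx
      have h3 : z ∈ core (diag (centralizer ({z} : Set G)) J t) :=
        (mem_core_iff hzA).mpr ((QuotientGroup.eq_one_iff _).mp hx)
      exact ne_one_of_order hz (eq_one_of_mem_core_sq h3 hzz)
    obtain ⟨⟨x₁, hx₁⟩, rfl⟩ := QuotientGroup.mk_surjective x
    have hx₁2 : x₁ ^ 2 ^ 1 ∈ core J := by
      rw [pow_one, pow_two]
      exact (Intrinsic.Quot.mk_eq_one_iff (J.mul_mem hx₁ hx₁)).mp hxx
    obtain ⟨k, hk1, hk2⟩ := Intrinsic.Lifting.exists_two_part (odd_card_core J) hx₁2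
    obtain ⟨x₀, hx₀⟩ : ∃ x₀, x₀ = x₁ ^ k := ⟨_, rfl⟩
    rw [← hx₀] at hk1 hk2
    have hx₀J : x₀ ∈ J := hx₀ ▸ J.pow_mem hx₁ k
    rw [pow_one, pow_two] at hk1
    obtain ⟨s, hsJ, hss, hsx, hst⟩ := exists_comm_swap hJ htC htt h1 hx₀J hk1
    have hsx' : x₁⁻¹ * s ∈ core J := by
      have h3 : x₀⁻¹ * s ∈ core J := by
        rw [hJ.core_eq]
        exact ⟨J.mul_mem (J.inv_mem hx₀J) hsJ, hsx⟩
      have h4 : x₁⁻¹ * s = (x₁⁻¹ * x₀) * (x₀⁻¹ * s) := by group
      rw [h4]
      exact mul_mem hk2 h3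
    have hmk : (QuotientGroup.mk ⟨x₁, hx₁⟩ : ↥J ⧸ oddCore ↥J) = QuotientGroup.mk ⟨s, hsJ⟩ :=
      (mk_eq_mk_iff' hx₁ hsJ).mpr hsx'
    rw [hmk] at hx hxc hxx hx1
    have hs1 : s ≠ 1 := by
      rintro rfl
      exact hx1 rfl
    have hs := order_two hs1 hss
    have hfixJ : Fixes s J := by
      rw [fixes_iff_conj]
      refine ⟨le_normalizer hsJ, fun y hy => ?_⟩
      exact (mk_comm_iff hy hsJ).mp (hxc (QuotientGroup.mk ⟨y, hy⟩))
    obtain ⟨v, hvdef⟩ : ∃ v, v = t * s * t⁻¹ := ⟨_, rfl⟩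
    rw [← hvdef] at hst
    have hti : t⁻¹ = t := inv_eq_of_mul_eq_one_left htt
    have hvv : v * v = 1 := by
      rw [hvdef]
      calc t * s * t⁻¹ * (t * s * t⁻¹) = t * (s * s) * t⁻¹ := by group
        _ = 1 := by rw [hss]; group
    have hv1 : v ≠ 1 := by
      intro hv
      apply hs1
      rw [hvdef] at hv
      calc s = t⁻¹ * (t * s * t⁻¹) * t := by group
        _ = 1 := by rw [hv]; group
    have hv := order_two hv1 hvv
    have hsC : s ∈ centralizer ({z} : Set G) := hJ.le hsJ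
    have hvC : v ∈ centralizer ({z} : Set G) := by
      rw [hvdef]
      exact mul_mem (mul_mem htC hsC) ((centralizer ({z} : Set G)).inv_mem htC)
    -- `s v = z`
    have hzsv : z = s * v := by
      obtain ⟨m, hm, hms⟩ := hd3 s hsJ
      have h3 := hf1 ⟨s, hsJ⟩ ⟨m, hm⟩ hms
      have h4 : (QuotientGroup.mk' (oddCore ↥(diag (centralizer ({z} : Set G)) J t))) ⟨z, hzA⟩ =
          QuotientGroup.mk' _ ⟨m, hm⟩ := hx.symm.trans h3
      have h5 : z⁻¹ * m ∈ core (diag (centralizer ({z} : Set G)) J t) := mk_eq_mk_iff.mp h4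
      rw [hd4] at h5
      have h6 : z⁻¹ * (s * v) ∈ core (centralizer ({z} : Set G)) := by
        have h7 : z⁻¹ * (s * v) = (z⁻¹ * m) * (m⁻¹ * (s * (t * s * t⁻¹))) := by rw [hvdef]; group
        rw [h7]
        exact mul_mem h5.2 hms
      refine Intrinsic.Lifting.eq_of_commute (odd_card_core _) (n := 1) (m := 1)
        (by rw [pow_one, pow_two, hzz]) ?_ ?_ h6
      · rw [pow_one, pow_two]
        calc s * v * (s * v) = s * (v * s) * v := by group
          _ = s * (s * v) * v := by rw [hst]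
          _ = (s * s) * (v * v) := by group
          _ = 1 := by rw [hss, hvv, one_mul]
      · exact (mem_centralizer_singleton_iff.mp (mul_mem hsC hvC)).symm
    have hsv : s ≠ v := by
      intro e
      rw [← e, hss] at hzsv
      exact ne_one_of_order hz hzsv
    -- the centralizers
    have hCC : centralizer ({z} : Set G) ⊓ centralizer ({s} : Set G) =
        centralizer ({s} : Set G) ⊓ centralizer ({v} : Set G) := by
      ext g
      simp only [mem_inf, mem_centralizer_singleton_iff]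
      constructor
      · rintro ⟨h3, h4⟩
        refine ⟨h4, ?_⟩
        have h5 : v = s * z := by rw [hzsv, ← mul_assoc, hss, one_mul]
        rw [h5, ← mul_assoc, h4, mul_assoc, h3, mul_assoc]
      · rintro ⟨h3, h4⟩
        refine ⟨?_, h3⟩
        rw [hzsv, ← mul_assoc, h3, mul_assoc, h4, mul_assoc]
    have hJ2 := isComp_cj_of_mem hJ htC
    have hvJ2 : v ∈ cj t J := hvdef ▸ conj_mem_cj hsJ
    have hfix2 : Fixes s (cj t J) := hJ2.fixes_of_mem hJ h1 hsJ
    obtain ⟨a1, a2⟩ := Intrinsic.Cen.isComp_cen hJ hsC hss hfixJ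
    obtain ⟨b1, b2⟩ := Intrinsic.Cen.isComp_cen hJ2 hsC hss hfix2
    rw [hCC] at a1 b1
    refine h.no_four hs hv hsv a1 b1 ((cover_of_sup a2).mpr hcJ)
      ((cover_of_sup b2).mpr (cover_congr (cjQuot t J) hcJ)) (mem_cen_of_sq hsJ rfl hss)
      (mem_cen_of_sq hvJ2 hst.symm hvv) ?_
    intro e
    have h3 := a1.unique hJ hJ2 (cen_le J s) (e ▸ cen_le (cj t J) s)
    exact h1 h3.symm

end Cfsg.Agent.McLLyComp.NoPair
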