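import Cfsg.Agent.McLLyComp.CaseOne
import Cfsg.Agent.McLLyComp.FactsMT

/-!
# Theorem W: 2-subgroups of `C(t)` have order at most `2 ^ 9`

`w7`: field `w7` of `Wreath.End.Inp` for a tight pair `(t, K)` with `K / O(K)` of type `McL` or `Ly`.
-/

set_option autoImplicit false

open Cfsg Subgroup
open Cfsg.Agent.SignalizersComponents
open Cfsg.Agent.Intrinsic.Basic
open Cfsg.Agent.McLLyComp.Act Cfsg.Agent.McLLyComp.Defs
open Cfsg.Agent.McLLyComp.Lift Cfsg.Agent.McLLyComp.World Cfsg.Agent.McLLyComp.CaseOne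
open Cfsg.Agent.McLLyComp.FactsMT

universe u

namespace Cfsg.Agent.McLLyComp.Order

/-- a 2-subgroup of a group of order `2 ^ a * m`, `m` odd, has order at most `2 ^ a` -/
theorem card_le_of_dvd {c a m k : ℕ} (hc : c = 2 ^ a * m) (hm : ¬ 2 ∣ m) (hk : 2 ^ k ∣ c) : 2 ^ k ≤ 2 ^ a := by
  have hp := Nat.prime_two
  by_contra h
  push Not at h
  have h1 : a < k := (Nat.pow_lt_pow_iff_right (by norm_num)).mp h
  have h2 : 2 ^ (a + 1) ∣ c := (pow_dvd_pow 2 h1).trans hk
  rw [hc, pow_succ] at h2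
  exact hm (Nat.dvd_of_mul_dvd_mul_left (by positivity) h2)

section aut

variable {L : Type*} [Group L] [Finite L] {c a m : ℕ}

/-- 2-groups of inner automorphisms -/
theorem card_inner_le (hL : Nat.card L = 2 ^ a * m) (hm : ¬ 2 ∣ m) {R : Subgroup (MulAut L)}
    (hR : IsPGroup 2 R) (hin : R ≤ (MulAut.conj : L →* MulAut L).range) : Nat.card R ≤ 2 ^ a := by
  have hp : Fact (Nat.Prime 2) := ⟨Nat.prime_two⟩
  obtain ⟨k, hk⟩ := (IsPGroup.iff_card).mp hR
  rw [hk]
  refine card_le_of_dvd hL hm ?_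
  rw [← hk]
  refine (Subgroup.card_dvd_of_le hin).trans ?_
  exact Subgroup.card_range_dvd _

/-- 2-groups of automorphisms, if the product of two outer automorphisms is inner -/
theorem card_aut_le (hL : Nat.card L = 2 ^ a * m) (hm : ¬ 2 ∣ m)
    (o3 : ∀ φ ψ : MulAut L, φ ∉ (MulAut.conj : L →* MulAut L).range → ψ ∉ (MulAut.conj : L →* MulAut L).range →
      φ * ψ ∈ (MulAut.conj : L →* MulAut L).range) {R : Subgroup (MulAut L)} (hR : IsPGroup 2 R) :
    Nat.card R ≤ 2 ^ (a + 1) := by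
  obtain ⟨I, hI⟩ : ∃ I, I = (MulAut.conj : L →* MulAut L).range := ⟨_, rfl⟩
  have h1 : Nat.card (R ⊓ I : Subgroup (MulAut L)) ≤ 2 ^ a :=
    card_inner_le hL hm (hR.to_le inf_le_left) (by rw [hI]; exact inf_le_right)
  have h2 : I.relIndex R ≤ 2 := by
    by_cases hle : R ≤ I
    · rw [Subgroup.relIndex_eq_one.mpr hle]
      norm_num
    · obtain ⟨r, hr, hrI⟩ := SetLike.not_le_iff_exists.mp hle
      have h3 : (I.subgroupOf R).index = 2 := by
        rw [Subgroup.index_eq_two_iff]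
        refine ⟨⟨r⁻¹, R.inv_mem hr⟩, fun b => ?_⟩
        have hr' : r⁻¹ ∉ I := fun h => hrI (by simpa using I.inv_mem h)
        by_cases hb : (b : MulAut L) ∈ I
        · right
          refine ⟨hb, fun h => hr' ?_⟩
          have h4 : (b : MulAut L) * r⁻¹ ∈ I := h
          have h5 := I.mul_mem (I.inv_mem hb) h4
          rwa [inv_mul_cancel_left] at h5
        · left
          refine ⟨?_, hb⟩
          have h4 : (b : MulAut L) * r⁻¹ ∈ I := by
            rw [hI] at hb hr' ⊢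
            exact o3 _ _ hb hr'
          exact h4
      exact h3.le
  have h3 : Nat.card R = Nat.card (R ⊓ I : Subgroup (MulAut L)) * I.relIndex R := by
    have h4 := Subgroup.card_mul_index (I.subgroupOf R)
    rw [← h4, Subgroup.relIndex]
    congr 1
    rw [inf_comm, ← Nat.card_congr (Subgroup.subgroupOfEquivOfLe (inf_le_right : I ⊓ R ≤ R)).toEquiv,
      Subgroup.inf_subgroupOf_right]
  rw [h3, pow_succ]
  exact Nat.mul_le_mul h1 h2

end aut

variable {𝒯 : Ty.{u}} {G : Type u} [Group G] [Finite G]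

/-- 2-subgroups of `C(t)`, from the bound on 2-groups of automorphisms of `K / O(K)`. -/
theorem w7 (W : CaseI 𝒯 G) {t : G} {K : Subgroup G} (ht : orderOf t = 2)
    (hK : TComp 𝒯 (centralizer ({t} : Set G)) K) (hT : Tight t K) {a : ℕ}
    (hm : ∀ R : Subgroup (MulAut (↥K ⧸ oddCore ↥K)), IsPGroup 2 R → Nat.card R ≤ 2 ^ a)
    (T : Subgroup G) (hT2 : IsPGroup 2 T) (hTt : ∀ x ∈ T, x * t = t * x) : Nat.card T ≤ 2 ^ (a + 1) := by
  have hTn : T ≤ normalizer (K : Set G) := fun x hx => W.norm ht hK (hTt x hx)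
  let f : ↥T →* MulAut (↥K ⧸ oddCore ↥K) := (act K).comp (Subgroup.inclusion hTn)
  have h1 : Nat.card f.range ≤ 2 ^ a := by
    refine hm _ ?_
    have h2 : IsPGroup 2 (⊤ : Subgroup ↥T) := hT2.to_subgroup ⊤
    have h3 := h2.map f
    rwa [← MonoidHom.range_eq_map] at h3
  have h2 : Nat.card f.ker ≤ 2 := by
    have h3 : ∀ x : ↥T, x ∈ f.ker → (x : G) = 1 ∨ (x : G) = t := by
      intro x hx
      have hx1 : act K ⟨x, hTn x.2⟩ = 1 := hx
      have hx2 := (act_eq_one_iff (hTn x.2)).mp hx1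
      obtain ⟨k, hk⟩ := hT2 x
      exact hT x k (by simpa using congrArg Subtype.val hk) (hTt x x.2) hx2
    have h4 : Nat.card f.ker ≤ Nat.card ({1, t} : Set G) := by
      refine Nat.card_le_card_of_injective
        (fun x : f.ker => (⟨((x : ↥T) : G), by
          rcases h3 x x.2 with h | h
          · exact Or.inl h
          · exact Or.inr h⟩ : ({1, t} : Set G))) ?_
      intro x y hxy
      have hxy' : ((x : ↥T) : G) = ((y : ↥T) : G) := Subtype.mk_eq_mk.mp hxy
      exact Subtype.ext (Subtype.ext hxy')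
    refine h4.trans ?_
    rw [Nat.card_coe_set_eq]
    exact (Set.ncard_insert_le _ _).trans (by rw [Set.ncard_singleton])
  have h3 : Nat.card ↥T = Nat.card f.ker * Nat.card f.range := by
    rw [← Subgroup.card_mul_index f.ker, Subgroup.index_ker]
  rw [h3, pow_succ, mul_comm]
  exact Nat.mul_le_mul h1 h2

/-- 2-groups of automorphisms of `McL`, `Ly` -/
theorem card_aut {n : ℕ} {L : Type u} [Group L] [Finite L] (hL : TM n L)
    (hin : n = 11 → ∀ φ : MulAut L, φ ∈ (MulAut.conj : L →* MulAut L).range)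
    (R : Subgroup (MulAut L)) (hR : IsPGroup 2 R) : Nat.card R ≤ 2 ^ 8 := by
  rcases hL.2.1 with ⟨hn, hc⟩ | ⟨hn, hc⟩
  · refine card_aut_le (a := 7) (m := 7016625) (by rw [hc]; norm_num) (by norm_num) ?_ hR
    intro φ ψ hφ hψ
    obtain ⟨-, -, ⟨M⟩⟩ := id hL
    obtain ⟨g, hg⟩ := TypeM.FactsAut.mul_inner M hL.eq (TypeM.FactsAut.gen M hL.2.1)
      (fun g h => hφ ⟨g, h.symm⟩) (fun g h => hψ ⟨g, h.symm⟩)
    exact ⟨g, hg.symm⟩
  · exact card_inner_le (a := 8) (m := 202207730484375) (by rw [hc]; norm_num) (by norm_num) hR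
      fun φ _ => hin hn φ

/-- **(W7)** -/
theorem w7_tm {n : ℕ} (W : CaseI (TM.{u} n) G) {t : G} {K : Subgroup G} (ht : orderOf t = 2)
    (hK : TComp (TM n) (centralizer ({t} : Set G)) K) (hT : Tight t K)
    (hin : n = 11 → ∀ φ : MulAut (↥K ⧸ oddCore ↥K),
      φ ∈ (MulAut.conj : ↥K ⧸ oddCore ↥K →* MulAut (↥K ⧸ oddCore ↥K)).range)
    (T : Subgroup G) (hT2 : IsPGroup 2 T) (hTt : ∀ x ∈ T, x * t = t * x) : Nat.card T ≤ 2 ^ 9 :=
  w7 W ht hK hT (card_aut hK.2 hin) T hT2 hTt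

end Cfsg.Agent.McLLyComp.Order
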