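import Cfsg.Agent.McLLyComp.Defs

/-!
# Use of the minimality: automorphisms with a 2-component of type `𝒯` in the fixed group are trivial
-/

set_option autoImplicit false

open Cfsg Subgroup
open Cfsg.Agent.SignalizersComponents Cfsg.Agent.Lib
open Cfsg.Agent.SignalizersComponents.IntrinsicBasic
open Cfsg.Agent.SignalizersComponents.PLayerAut
open Cfsg.Agent.Intrinsic.Basic Cfsg.Agent.Intrinsic.Cen Cfsg.Agent.Intrinsic.Quot
open Cfsg.Agent.McLLyComp.Act Cfsg.Agent.McLLyComp.MapComp Cfsg.Agent.McLLyComp.Defs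

universe u

namespace Cfsg.Agent.McLLyComp.Reduce

section aut

variable {A : Type*} [Group A]

/-- the fixed points of `σ` -/
def fx (σ : MulAut A) : Subgroup A where
  carrier := {a | σ a = a}
  one_mem' := map_one σ
  mul_mem' := fun {a b} ha hb => by
    change σ (a * b) = a * b
    rw [map_mul, show σ a = a from ha, show σ b = b from hb]
  inv_mem' := fun {a} ha => by
    change σ a⁻¹ = a⁻¹
    rw [map_inv, show σ a = a from ha]

theorem mem_fx {σ : MulAut A} {a : A} : a ∈ fx σ ↔ σ a = a := Iff.rfl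

/-- the elements `a` with `σ a ∈ a Z(A)` -/
def wx (σ : MulAut A) : Subgroup A where
  carrier := {a | a⁻¹ * σ a ∈ center A}
  one_mem' := by simp
  mul_mem' := fun {a b} ha hb => by
    have h1 : (a * b)⁻¹ * σ (a * b) = (b⁻¹ * (a⁻¹ * σ a) * b) * (b⁻¹ * σ b) := by
      rw [map_mul]; group
    change (a * b)⁻¹ * σ (a * b) ∈ center A
    rw [h1]
    refine mul_mem ?_ hb
    have h2 : b⁻¹ * (a⁻¹ * σ a) * b = a⁻¹ * σ a := by
      rw [mem_center_iff.mp ha b⁻¹]; group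
    rw [h2]; exact ha
  inv_mem' := fun {a} ha => by
    have h1 : (a⁻¹)⁻¹ * σ a⁻¹ = (a * (a⁻¹ * σ a) * a⁻¹)⁻¹ := by
      rw [map_inv]; group
    change (a⁻¹)⁻¹ * σ a⁻¹ ∈ center A
    have h2 : a * (a⁻¹ * σ a) * a⁻¹ = a⁻¹ * σ a := by
      rw [mem_center_iff.mp ha a]; group
    rw [h1, h2]
    exact inv_mem ha

theorem mem_wx {σ : MulAut A} {a : A} : a ∈ wx σ ↔ a⁻¹ * σ a ∈ center A := Iff.rfl

theorem fx_le_wx (σ : MulAut A) : fx σ ≤ wx σ := by
  intro a ha
  rw [mem_wx, mem_fx.mp ha, inv_mul_cancel]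
  exact one_mem _

theorem fx_normal (σ : MulAut A) : ((fx σ).subgroupOf (wx σ)).Normal := by
  constructor
  rintro ⟨n, hn⟩ hn' ⟨g, hg⟩
  have h1 : σ n = n := hn'
  have h2 : σ g = g * (g⁻¹ * σ g) := by group
  have h3 := mem_center_iff.mp (mem_wx.mp hg)
  change σ (g * n * g⁻¹) = g * n * g⁻¹
  rw [map_mul, map_mul, map_inv, h1, h2]
  obtain ⟨c, hc⟩ : ∃ c, c = g⁻¹ * σ g := ⟨_, rfl⟩
  rw [← hc] at h3 ⊢
  calc g * c * n * (g * c)⁻¹ = g * (c * n) * (c⁻¹ * g⁻¹) := by group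
    _ = g * (n * c) * (c⁻¹ * g⁻¹) := by rw [h3 n]
    _ = _ := by group

/-- automorphisms commuting with all inner automorphisms of a perfect group -/
theorem eq_one_of_commute (hp : Group.IsPerfect A) {α : MulAut A}
    (h : ∀ a : A, α * MulAut.conj a = MulAut.conj a * α) : α = 1 := by
  have h1 : ∀ a : A, a⁻¹ * α a ∈ center A := by
    intro a
    rw [mem_center_iff]
    intro g
    obtain ⟨g, rfl⟩ := α.surjective g
    have h2 := DFunLike.congr_fun (h a) g
    change α (a * g * a⁻¹) = a * α g * a⁻¹ at h2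
    rw [map_mul, map_mul, map_inv] at h2
    calc α g * (a⁻¹ * α a) = a⁻¹ * (a * α g * a⁻¹) * α a := by group
      _ = a⁻¹ * (α a * α g * (α a)⁻¹) * α a := by rw [h2]
      _ = a⁻¹ * α a * α g := by group
  have hmul : ∀ a b : A, (a * b)⁻¹ * α (a * b) = (a⁻¹ * α a) * (b⁻¹ * α b) := by
    intro a b
    have h3 := mem_center_iff.mp (h1 a) b⁻¹
    calc (a * b)⁻¹ * α (a * b) = b⁻¹ * (a⁻¹ * α a) * α b := by rw [map_mul]; group
      _ = (a⁻¹ * α a) * b⁻¹ * α b := by rw [h3]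
      _ = _ := by group
  obtain ⟨φ, hφ⟩ : ∃ φ : A →* center A, ∀ a, (φ a : A) = a⁻¹ * α a :=
    ⟨MonoidHom.mk' (fun a => ⟨a⁻¹ * α a, h1 a⟩) (fun a b => Subtype.ext (hmul a b)), fun _ => rfl⟩
  have h4 : commutator A ≤ φ.ker := by
    rw [_root_.commutator_def, commutator_le]
    intro x _ y _
    rw [MonoidHom.mem_ker, map_commutatorElement, commutatorElement_eq_one_iff_mul_comm]
    apply Subtype.ext
    exact (mem_center_iff.mp (φ x).2 (φ y)).symm
  rw [Group.isPerfect_def] at hp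
  rw [hp] at h4
  apply MulEquiv.ext
  intro a
  have h5 : φ a = 1 := h4 (mem_top a)
  have h6 : a⁻¹ * α a = 1 := by rw [← hφ, h5]; rfl
  exact (inv_mul_eq_one.mp h6).symm

theorem conj_ker : (MulAut.conj : A →* MulAut A).ker = center A := by
  ext a
  rw [MonoidHom.mem_ker, mem_center_iff]
  constructor
  · intro h g
    have := DFunLike.congr_fun h g
    change a * g * a⁻¹ = g at this
    calc g * a = (a * g * a⁻¹) * a := by rw [this]
      _ = a * g := by group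
  · intro h
    apply MulEquiv.ext
    intro g
    change a * g * a⁻¹ = g
    rw [← h g]; group

end aut

variable {𝒯 : Ty.{u}}

theorem false_of_min (F : Facts 𝒯) {N : ℕ} (hmin : NoT 𝒯 N) {A : Type u} [Group A] [Finite A]
    (hq : IsQuasisimple A) {Y : Subgroup (MulAut A)} (hconj : ∀ a : A, MulAut.conj a ∈ Y)
    (hcard : Nat.card Y < N) {σ : MulAut A} (hσY : σ ∈ Y) (hσ : σ * σ = 1) (hσ1 : σ ≠ 1)
    {D : Subgroup A} (hD : TComp 𝒯 (fx σ) D) : False := by
  have hDs := hD.simple F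
  -- the map to `Y`
  obtain ⟨f, hf⟩ : ∃ f : A →* ↥Y, ∀ a, ((f a : ↥Y) : MulAut A) = MulAut.conj a :=
    ⟨(MulAut.conj : A →* MulAut A).codRestrict Y hconj, fun _ => rfl⟩
  have hfker : f.ker = center A := by
    rw [← conj_ker]
    ext a
    rw [MonoidHom.mem_ker, MonoidHom.mem_ker, ← hf, Subtype.ext_iff]
    rfl
  have hW : IsComp (wx σ) D := hD.1.extend (fx_le_wx σ) (fx_normal σ).isSubnormal
  have hDker : ¬ D ≤ f.ker := by
    intro h
    have h1 : ⁅D, D⁆ = ⊥ := by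
      rw [eq_bot_iff, commutator_le]
      intro a ha b hb
      rw [mem_bot, commutatorElement_eq_one_iff_mul_comm]
      have := h hb
      rw [hfker] at this
      exact mem_center_iff.mp this a
    rw [hD.1.perfect] at h1
    exact hD.1.ne_bot h1
  obtain ⟨h1, e, -⟩ := isComp_map f hW hDs hDker
  -- the involution
  obtain ⟨s, hs⟩ : ∃ s : ↥Y, s = ⟨σ, hσY⟩ := ⟨_, rfl⟩
  have hss : s * s = 1 := by rw [hs]; exact Subtype.ext hσ
  have hs1 : s ≠ 1 := by
    rw [hs]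
    intro h
    exact hσ1 (congrArg Subtype.val h)
  have hsf : ∀ a, s * f a * s⁻¹ = f (σ a) := by
    intro a
    apply Subtype.ext
    rw [hs]
    change σ * (f a : MulAut A) * σ⁻¹ = (f (σ a) : MulAut A)
    rw [hf, hf]
    apply MulEquiv.ext
    intro g
    change σ (a * σ⁻¹ g * a⁻¹) = σ a * g * (σ a)⁻¹
    rw [map_mul, map_mul, map_inv]
    congr 2
    exact σ.apply_symm_apply g
  have hWC : (wx σ).map f ≤ centralizer ({s} : Set ↥Y) := by
    rintro _ ⟨a, ha, rfl⟩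
    rw [mem_centralizer_singleton_iff]
    have h2 : f (σ a) = f a := by
      have h3 : a⁻¹ * σ a ∈ f.ker := by rw [hfker]; exact ha
      rw [MonoidHom.mem_ker, map_mul, map_inv, inv_mul_eq_one] at h3
      exact h3.symm
    calc f a * s = f (σ a) * s := by rw [h2]
      _ = s * f a := by rw [← hsf]; group
  have hWn : (((wx σ).map f).subgroupOf (centralizer ({s} : Set ↥Y))).Normal := by
    constructor
    rintro ⟨_, hn⟩ ⟨a, ha, rfl⟩ ⟨g, hg⟩
    -- `g f(a) g⁻¹ = f (g a)`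
    have h2 : g * f a * g⁻¹ = f ((g : MulAut A) a) := by
      apply Subtype.ext
      change (g : MulAut A) * (f a : MulAut A) * (g : MulAut A)⁻¹ = (f ((g : MulAut A) a) : MulAut A)
      rw [hf, hf]
      apply MulEquiv.ext
      intro x
      change (g : MulAut A) (a * (g : MulAut A)⁻¹ x * a⁻¹) = (g : MulAut A) a * x * ((g : MulAut A) a)⁻¹
      rw [map_mul, map_mul, map_inv]
      congr 2
      exact (g : MulAut A).apply_symm_apply x
    refine ⟨(g : MulAut A) a, ?_, h2.symm⟩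
    change ((g : MulAut A) a)⁻¹ * σ ((g : MulAut A) a) ∈ center A
    rw [← hfker, MonoidHom.mem_ker, map_mul, map_inv, inv_mul_eq_one, ← hsf, ← h2]
    have h3 : s * f a = f a * s := (mem_centralizer_singleton_iff.mp hn).symm
    have h4 : s * g = g * s := (mem_centralizer_singleton_iff.mp hg).symm
    have h5 : s * g⁻¹ = g⁻¹ * s := (show Commute s g from h4).inv_right.eq
    calc g * f a * g⁻¹ = g * f a * g⁻¹ * s * s⁻¹ := by group
      _ = g * f a * (s * g⁻¹) * s⁻¹ := by rw [h5]; group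
      _ = g * (s * f a) * g⁻¹ * s⁻¹ := by rw [h3]; group
      _ = (s * g) * f a * g⁻¹ * s⁻¹ := by rw [h4]; group
      _ = s * (g * f a * g⁻¹) * s⁻¹ := by group
  have h2 : TComp 𝒯 (centralizer ({s} : Set ↥Y)) (D.map f) :=
    ⟨h1.extend hWC hWn.isSubnormal, F.iso e hD.2⟩
  -- `f.range` is a simple normal subgroup
  have hIn : f.range.Normal := by
    constructor
    rintro _ ⟨a, rfl⟩ g
    refine ⟨(g : MulAut A) a, ?_⟩
    apply Subtype.ext
    change (f ((g : MulAut A) a) : MulAut A) = (g : MulAut A) * (f a : MulAut A) * (g : MulAut A)⁻¹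
    rw [hf, hf]
    apply MulEquiv.ext
    intro x
    change (g : MulAut A) a * x * ((g : MulAut A) a)⁻¹ = (g : MulAut A) (a * (g : MulAut A)⁻¹ x * a⁻¹)
    rw [map_mul, map_mul, map_inv]
    congr 2
    exact ((g : MulAut A).apply_symm_apply x).symm
  have hIs : IsSimpleGroup ↥f.range := by
    have e := (QuotientGroup.quotientMulEquivOfEq hfker.symm).trans
      (QuotientGroup.quotientKerEquivRange f)
    exact (MulEquiv.isSimpleGroup_congr e).mp hq.2
  have hIq : IsQuasisimple ↥f.range :=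
    QuasisimpleQuotient.isQuasisimple_of_surjective f.rangeRestrict f.rangeRestrict_surjective hq
  have hIC : centralizer ((f.range : Subgroup ↥Y) : Set ↥Y) = ⊥ := by
    rw [eq_bot_iff]
    intro y hy
    rw [mem_bot]
    apply Subtype.ext
    refine eq_one_of_commute hq.1 fun a => ?_
    have h3 := mem_centralizer_iff.mp hy (f a) ⟨a, rfl⟩
    have h4 := congrArg Subtype.val h3
    change (f a : MulAut A) * (y : MulAut A) = (y : MulAut A) * (f a : MulAut A) at h4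
    rw [hf] at h4
    exact h4.symm
  have hI2 : 2 ∣ Nat.card ↥f.range := by
    refine h1.even.trans (card_dvd_of_le ?_)
    rintro _ ⟨a, -, rfl⟩
    exact ⟨a, rfl⟩
  obtain ⟨h3, h4⟩ := genFitting_eq hIn hIs hIq hIC hI2
  refine hmin ↥Y hcard h3 ?_ s (order_two hs1 hss) _ h2
  rw [h4]
  exact hIq

variable {G : Type u} [Group G] [Finite G]

/-- the action of `H ∩ N(J)` on `J / O(J)` -/
noncomputable def actH (H J : Subgroup G) :
    ↥(H ⊓ normalizer (J : Set G)) →* MulAut (↥J ⧸ oddCore ↥J) :=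
  (act J).comp (inclusion inf_le_right)

omit [Finite G] in
theorem actH_apply {H J : Subgroup G} (a : ↥(H ⊓ normalizer (J : Set G))) :
    actH H J a = act J ⟨a, a.2.2⟩ := rfl

/-- `s` normalizes the 2-component `J` of `H`, and `J` contains a 2-component of type `𝒯` of
`C_H(s)`: then `s` fixes `J`. -/
theorem fixes_of_min' (F : Facts 𝒯) {N : ℕ} (hmin : NoT 𝒯 N) {H Z J : Subgroup G} {s : G}
    (hH : Nat.card (actH H J).range < N) (hsH : s ∈ H) (hss : s * s = 1)
    (hZ : TComp 𝒯 (H ⊓ centralizer ({s} : Set G)) Z) (hJ : IsComp H J)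
    (hsJ : s ∈ normalizer (J : Set G)) (hZJ : Z ≤ J) : Fixes s J := by
  by_contra hns
  have hZs := hZ.simple F
  -- the image of `Z` in `J / O(J)`
  obtain ⟨D, hD⟩ : ∃ D, D = qs J Z := ⟨_, rfl⟩
  obtain ⟨e, he⟩ := exists_qs_equiv hZJ
  have hsC : ∀ z ∈ Z, s * z = z * s := fun z hz =>
    (mem_centralizer_singleton_iff.mp (hZ.1.le hz).2).symm
  have hDfx : D ≤ fx (act J ⟨s, hsJ⟩) := by
    rw [hD]
    rintro _ ⟨⟨z, hzJ⟩, hz, rfl⟩
    change act J ⟨s, hsJ⟩ (QuotientGroup.mk ⟨z, hzJ⟩) = QuotientGroup.mk ⟨z, hzJ⟩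
    rw [act_mk hsJ hzJ]
    congr 1
    apply Subtype.ext
    change s * z * s⁻¹ = z
    rw [hsC z hz, mul_inv_cancel_right]
  -- `Z` is a 2-component of `C_J(s)`
  have hZJs : IsComp (J ⊓ centralizer ({s} : Set G)) Z := by
    refine hZ.1.restrict (inf_le_inf_right _ hJ.le) (le_inf hZJ (hZ.1.le.trans inf_le_right))
  -- the map `C_J(s) → fx σ` is surjective with odd kernel
  obtain ⟨g, hg⟩ : ∃ g : ↥(J ⊓ centralizer ({s} : Set G)) →* (↥J ⧸ oddCore ↥J),
      ∀ a, g a = QuotientGroup.mk ⟨a, a.2.1⟩ :=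
    ⟨(QuotientGroup.mk' (oddCore ↥J)).comp (inclusion inf_le_left), fun _ => rfl⟩
  have hgr : g.range = fx (act J ⟨s, hsJ⟩) := by
    apply le_antisymm
    · rintro _ ⟨a, rfl⟩
      rw [mem_fx, hg, act_mk hsJ a.2.1]
      congr 1
      apply Subtype.ext
      change s * (a : G) * s⁻¹ = a
      rw [← mem_centralizer_singleton_iff.mp a.2.2, mul_inv_cancel_right]
    · intro x hx
      obtain ⟨⟨k, hk⟩, rfl⟩ := QuotientGroup.mk_surjective x
      rw [mem_fx, act_mk hsJ hk, eq_comm, mk_eq_iff] at hx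
      obtain ⟨o, ho, hc⟩ := Intrinsic.Lifting.exists_commute (odd_card_core J) (n := 1)
        (by rw [pow_one, pow_two, hss]) (normalizer_le_normalizer_core J hsJ) hx
      refine ⟨⟨k * o, mul_mem hk (core_le J ho), mem_centralizer_singleton_iff.mpr hc.symm⟩, ?_⟩
      rw [hg, eq_comm, mk_eq_iff]
      simpa using ho
  have hZM : Z ≤ J ⊓ centralizer ({s} : Set G) := hZJs.le
  have hDcomp : IsComp (fx (act J ⟨s, hsJ⟩)) D := by
    have h1 : IsComp (⊤ : Subgroup ↥(J ⊓ centralizer ({s} : Set G)))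
        (Z.subgroupOf (J ⊓ centralizer ({s} : Set G))) := by
      rw [isComp_iff_tc, Intrinsic.Charac.tc_top_iff]
      exact hZJs.2
    have h2 : IsSimpleGroup (↥(Z.subgroupOf (J ⊓ centralizer ({s} : Set G))) ⧸
        oddCore ↥(Z.subgroupOf (J ⊓ centralizer ({s} : Set G)))) := by
      have e := QuotientGroup.congr (oddCore ↥(Z.subgroupOf (J ⊓ centralizer ({s} : Set G))))
        (oddCore ↥Z) (subgroupOfEquivOfLe hZM) (Cores.map_equiv_pPrimeCore _ 2)
      exact (MulEquiv.isSimpleGroup_congr e).mpr hZs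
    have h3 : ¬ Z.subgroupOf (J ⊓ centralizer ({s} : Set G)) ≤ g.ker := by
      intro h
      refine hZ.1.not_odd (odd_card_core J) fun z hz => ?_
      have h4 : (⟨z, hZM hz⟩ : ↥(J ⊓ centralizer ({s} : Set G))) ∈ g.ker := h hz
      rw [MonoidHom.mem_ker, hg, Act.mk_eq_one_iff] at h4
      exact h4
    have h4 := (isComp_map g h1 h2 h3).1
    rw [← MonoidHom.range_eq_map, hgr] at h4
    convert h4 using 1
    rw [hD]
    ext x
    constructor
    · rintro ⟨⟨z, hzJ⟩, hz, rfl⟩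
      exact ⟨⟨z, hZM hz⟩, hz, (hg _).symm ▸ rfl⟩
    · rintro ⟨⟨z, hz'⟩, hz, rfl⟩
      exact ⟨⟨z, hz'.1⟩, hz, (hg _).symm ▸ rfl⟩
  have hDT : TComp 𝒯 (fx (act J ⟨s, hsJ⟩)) D := by
    refine ⟨hDcomp, ?_⟩
    rw [hD]
    exact F.iso e hZ.2
  refine false_of_min F hmin (quasisimple_quot hJ) (Y := (actH H J).range) ?_ hH
    (σ := act J ⟨s, hsJ⟩) ?_ ?_ ?_ hDT
  · intro a
    obtain ⟨⟨k, hk⟩, rfl⟩ := QuotientGroup.mk_surjective a
    exact ⟨⟨k, hJ.le hk, le_normalizer hk⟩, (actH_apply _).trans (act_of_mem hk)⟩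
  · exact ⟨⟨s, hsH, hsJ⟩, actH_apply _⟩
  · rw [← act_mul hsJ hsJ, act_congr (mul_mem hsJ hsJ) hss]
    exact map_one (act J)
  · intro h
    exact hns ((act_eq_one_iff hsJ).mp h)

theorem fixes_of_min (F : Facts 𝒯) {N : ℕ} (hmin : NoT 𝒯 N) {H Z J : Subgroup G} {s : G}
    (hH : Nat.card H < N) (hsH : s ∈ H) (hss : s * s = 1)
    (hZ : TComp 𝒯 (H ⊓ centralizer ({s} : Set G)) Z) (hJ : IsComp H J)
    (hsJ : s ∈ normalizer (J : Set G)) (hZJ : Z ≤ J) : Fixes s J := by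
  refine fixes_of_min' F hmin (lt_of_le_of_lt ?_ hH) hsH hss hZ hJ hsJ hZJ
  refine (Nat.card_le_card_of_surjective _ (actH H J).rangeRestrict_surjective).trans ?_
  exact card_le_of_le inf_le_left

/-! ### pump-ups -/

/-- the pump-up in an `s`-invariant 2-component -/
theorem of_fixes {H Z J : Subgroup G} {s : G} (hsH : s ∈ H) (hss : s * s = 1)
    (hZ : IsComp (H ⊓ centralizer ({s} : Set G)) Z) (hJ : IsComp H J) (hf : Fixes s J)
    (hZJ : Z ≤ J) : Z = cen J s ∧ Z ⊔ core J = J := by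
  obtain ⟨h1, h2⟩ := isComp_cen hJ hsH hss hf
  have h3 : Z ≤ cen J s := hZ.le_of_two fun k hk n hn =>
    mem_cen (hZJ hk) (mem_centralizer_singleton_iff.mp (hZ.le hk).2) hn
  have h4 := hZ.eq_of_le h1 h3
  exact ⟨h4, h4 ▸ h2⟩

/-- **Pump-up** of a 2-component of type `𝒯`. -/
theorem pump (F : Facts 𝒯) {N : ℕ} (hmin : NoT 𝒯 N) {H Z : Subgroup G} {s : G}
    (hH : Nat.card H < N) (hsH : s ∈ H) (hss : s * s = 1)
    (hZ : TComp 𝒯 (H ⊓ centralizer ({s} : Set G)) Z) :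
    ∃ J, TComp 𝒯 H J ∧ ((Fixes s J ∧ Z = cen J s ∧ Z ⊔ core J = J) ∨
      (cj s J ≠ J ∧ Z = Intrinsic.Diag.diag H J s)) := by
  obtain ⟨J, hJ, -, h | h⟩ := PumpT.exists_pump hsH hss hZ.1
  · have hf := fixes_of_min F hmin hH hsH hss hZ hJ h.1 h.2
    obtain ⟨h1, h2⟩ := of_fixes hsH hss hZ.1 hJ hf h.2
    obtain ⟨e, -⟩ := exists_quotEquiv h2
    exact ⟨J, ⟨hJ, F.iso e hZ.2⟩, Or.inl ⟨hf, h1, h2⟩⟩
  · obtain ⟨h1, -, -, -, f, hf, hk, -⟩ := Intrinsic.Diag.exists_diag hJ hsH hss h.1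
    refine ⟨J, ⟨hJ, ?_⟩, Or.inr h⟩
    refine F.cover (quasisimple_quot hJ) (oddCore_quot J) ?_ f hf hk
    rw [← h.2]
    exact hZ.2

end Cfsg.Agent.McLLyComp.Reduce
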