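import Cfsg.Agent.McLLyComp.Order
import Cfsg.Agent.TypeM.OuterInvol
import Cfsg.Agent.Wreath.CFive

/-!
# Theorem W, type `McL`: an involution `w` of `C_S(t) - J` and a sign of `C(t)` with `t ↦ 1`, `w ↦ -1`
-/

set_option autoImplicit false

open Cfsg Subgroup
open Cfsg.Agent.SignalizersComponents
open Cfsg.Agent.Intrinsic.Basic
open Cfsg.Agent.McLLyComp.Act Cfsg.Agent.McLLyComp.Defs
open Cfsg.Agent.McLLyComp.Lift Cfsg.Agent.McLLyComp.World Cfsg.Agent.McLLyComp.CaseOne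
open Cfsg.Agent.McLLyComp.FactsMT
open Cfsg.Agent.Wreath.End Cfsg.Agent.Wreath.CommonDef Cfsg.Agent.StdEven.Syl

universe u

namespace Cfsg.Agent.McLLyComp.Sign

/-- The sign of a homomorphism to a group with a subgroup of index at most two. -/
theorem exists_sign {C H : Type*} [Group C] [Group H] {I : Subgroup H}
    (o3 : ∀ φ ψ : H, φ ∉ I → ψ ∉ I → φ * ψ ∈ I) (f : C →* H) :
    ∃ s : C →* ℤˣ, ∀ c, (f c ∈ I → s c = 1) ∧ (f c ∉ I → s c = -1) := by
  classical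
  have hmul : ∀ a b : C, f (a * b) ∈ I ↔ (f a ∈ I ↔ f b ∈ I) := by
    intro a b
    rw [map_mul]
    by_cases ha : f a ∈ I
    · simp only [ha, true_iff]
      exact I.mul_mem_cancel_left ha
    · by_cases hb : f b ∈ I
      · rw [I.mul_mem_cancel_right hb]
        tauto
      · simp only [ha, hb, iff_true]
        exact o3 _ _ ha hb
  let s : C →* ℤˣ :=
    { toFun := fun g => if f g ∈ I then 1 else -1
      map_one' := by rw [if_pos (by rw [map_one]; exact I.one_mem)]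
      map_mul' := by
        intro a b
        by_cases ha : f a ∈ I <;> by_cases hb : f b ∈ I <;> simp only [hmul, ha, hb, if_true, if_false, iff_true,
          iff_false, not_true] <;> decide }
  refine ⟨s, fun c => ⟨fun h => ?_, fun h => ?_⟩⟩
  · show (if f c ∈ I then (1 : ℤˣ) else -1) = 1
    rw [if_pos h]
  · show (if f c ∈ I then (1 : ℤˣ) else -1) = -1
    rw [if_neg h]

/-- a 2-subgroup of maximal order of the automorphism group contains a conjugate of an outer involution -/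
theorem exists_outer_mem {L : Type*} [Group L] [Finite L] {R : Subgroup (MulAut L)} (hR : IsPGroup 2 R)
    (hm : ∀ T : Subgroup (MulAut L), IsPGroup 2 T → Nat.card T ≤ Nat.card R) {φ : MulAut L}
    (hφ : φ ∉ (MulAut.conj : L →* MulAut L).range) (hφφ : φ * φ = 1) :
    ∃ ψ ∈ R, ψ ∉ (MulAut.conj : L →* MulAut L).range ∧ ψ * ψ = 1 := by
  have hp : Fact (Nat.Prime 2) := ⟨Nat.prime_two⟩
  have hfin : Finite (MulAut L) := inferInstance
  have hmax : ∀ T : Subgroup (MulAut L), IsPGroup 2 T → R ≤ T → T = R := fun T hT hle =>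
    (Subgroup.eq_of_le_of_card_ge hle (hm T hT)).symm
  let P : Sylow 2 (MulAut L) := ⟨R, hR, fun {T} hT hle => hmax T hT hle⟩
  have h1 : IsPGroup 2 (zpowers φ) := by
    have : IsPGroup 2 (zpowers φ) := by
      rintro ⟨x, hx⟩
      obtain ⟨k, rfl⟩ := mem_zpowers_iff.1 hx
      refine ⟨1, Subtype.ext ?_⟩
      show (φ ^ k) ^ 2 ^ 1 = 1
      rw [pow_one, ← zpow_natCast, ← zpow_mul, mul_comm, zpow_mul, zpow_natCast, pow_two, hφφ, one_zpow]
    exact this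
  obtain ⟨Q, hQ⟩ := h1.exists_le_sylow
  obtain ⟨g, hg⟩ := MulAction.exists_smul_eq (MulAut L) Q P
  refine ⟨g * φ * g⁻¹, ?_, ?_, ?_⟩
  · have h2 : g * φ * g⁻¹ ∈ (P : Subgroup (MulAut L)) := by
      rw [← hg, Sylow.coe_subgroup_smul, Subgroup.mem_pointwise_smul_iff_inv_smul_mem]
      show (MulAut.conj g)⁻¹ • (g * φ * g⁻¹) ∈ (Q : Subgroup (MulAut L))
      rw [← map_inv, MulAut.smul_def, MulAut.conj_apply]
      have h3 : g⁻¹ * (g * φ * g⁻¹) * g⁻¹⁻¹ = φ := by group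
      rw [h3]
      exact hQ (mem_zpowers φ)
    exact h2
  · rintro ⟨x, hx⟩
    apply hφ
    refine ⟨g⁻¹ x, ?_⟩
    have h2 : φ = g⁻¹ * MulAut.conj x * g := by rw [hx]; group
    rw [h2]
    ext y
    simp only [MulAut.mul_apply, MulAut.conj_apply, map_mul, map_inv, MulAut.inv_apply_self]
  · calc g * φ * g⁻¹ * (g * φ * g⁻¹) = g * (φ * φ) * g⁻¹ := by group
      _ = 1 := by rw [hφφ, mul_one, mul_inv_cancel]

/-- (C5) from `Com` -/
theorem exists_f {G : Type*} [Group G] [Finite G] {t u : G} {A M₁ M₂ : Subgroup G} {h : Inp t u A M₁ M₂}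
    {S S₀ : Subgroup G} (c : Com h S S₀) : ∃ f : G →* ℤˣ, f t ≠ 1 := by
  obtain ⟨P, hP⟩ := c.syl.exists_sylow
  have h1 := Cfsg.Agent.Wreath.CFive.relIndex_two c
  rcases Cfsg.Agent.Transfer.ThompsonTransfer.thompson_transfer P S₀
    (by rw [hP]; exact c.le) (by rw [hP]; exact h1) t (by rw [pow_two, h.t_sq]) with ⟨N, hN, hi, htN⟩ | ⟨g, hg⟩
  · obtain ⟨f, hf⟩ := Cfsg.Agent.Wreath.CFive.exists_hom hN hi
    exact ⟨f, fun e => htN ((hf t).mp e)⟩
  · exact absurd hg (c.noT g)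

variable {G : Type u} [Group G] [Finite G]

/-- **(a) and (b) of the McL.2 case.** -/
theorem exists_w (W : CaseI (TM.{u} 8) G) {t : G} {K : Subgroup G} (ht : orderOf t = 2)
    (hK : TComp (TM 8) (centralizer ({t} : Set G)) K) (hT : Tight t K)
    {u : G} {A M₁ M₂ : Subgroup G} {h : Inp t u A M₁ M₂} {S S₀ : Subgroup G} (c : Com h S S₀)
    (hne : S₀ ≠ h.J) (hAK : ∀ a ∈ A, pr t a a ∈ K) :
    ∃ w ∈ S₀, w ∉ h.J ∧ w * w = 1 ∧ w * t = t * w ∧
      ∃ f : ↥(centralizer ({t} : Set G)) →* ℤˣ, (∀ ht, f ⟨t, ht⟩ = 1) ∧ ∀ hw, f ⟨w, hw⟩ = -1 := by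
  have hL : TM 8 (↥K ⧸ oddCore ↥K) := hK.2
  obtain ⟨M⟩ := hL.2.2
  have hG := TypeM.FactsAut.gen M hL.2.1
  obtain ⟨I, hI⟩ : ∃ I, I = (MulAut.conj : ↥K ⧸ oddCore ↥K →* MulAut (↥K ⧸ oddCore ↥K)).range := ⟨_, rfl⟩
  have o3 : ∀ φ ψ : MulAut (↥K ⧸ oddCore ↥K), φ ∉ I → ψ ∉ I → φ * ψ ∈ I := by
    intro φ ψ hφ hψ
    rw [hI] at hφ hψ ⊢
    obtain ⟨g, hg⟩ := TypeM.FactsAut.mul_inner M (Or.inl rfl) hG
      (fun g h => hφ ⟨g, h.symm⟩) (fun g h => hψ ⟨g, h.symm⟩)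
    exact ⟨g, hg.symm⟩
  -- the action of `C(t)` on `K / O(K)`
  have hCn : centralizer ({t} : Set G) ≤ normalizer (K : Set G) := fun x hx =>
    W.norm ht hK (mem_centralizer_singleton_iff.mp hx)
  let F : ↥(centralizer ({t} : Set G)) →* MulAut (↥K ⧸ oddCore ↥K) := (act K).comp (Subgroup.inclusion hCn)
  obtain ⟨s, hs⟩ := exists_sign o3 F
  have hF1 : ∀ (x : G) (hx : x ∈ centralizer ({t} : Set G)) (k : ℕ), x ^ 2 ^ k = 1 → F ⟨x, hx⟩ = 1 → x = 1 ∨ x = t := by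
    intro x hx k hk h1
    have h2 := (act_eq_one_iff (hCn hx)).mp h1
    exact hT x k hk (mem_centralizer_singleton_iff.mp hx) h2
  have hFt : ∀ ht' : t ∈ centralizer ({t} : Set G), F ⟨t, ht'⟩ = 1 := by
    intro ht'
    exact (act_eq_one_iff (hCn ht')).mpr (fixes_self hK.1.le)
  -- the Sylow subgroup `T = C_S(t)`
  obtain ⟨-, hT9⟩ := c.sylt hne
  obtain ⟨T, hTdef⟩ : ∃ T, T = S ⊓ centralizer ({t} : Set G) := ⟨_, rfl⟩
  rw [← hTdef] at hT9
  have hTC : T ≤ centralizer ({t} : Set G) := hTdef ▸ inf_le_right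
  have hTS : T ≤ S := hTdef ▸ inf_le_left
  have hT2 : IsPGroup 2 T := c.syl.two.to_le hTS
  let f : ↥T →* MulAut (↥K ⧸ oddCore ↥K) := F.comp (Subgroup.inclusion hTC)
  have hker : ∀ x : ↥T, f x = 1 → (x : G) = 1 ∨ (x : G) = t := by
    intro x hx
    obtain ⟨k, hk⟩ := hT2 x
    exact hF1 x (hTC x.2) k (by simpa using congrArg Subtype.val hk) hx
  have hR2 : IsPGroup 2 f.range := by
    have h3 := (hT2.to_subgroup ⊤).map f
    rwa [← MonoidHom.range_eq_map] at h3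
  have hk2 : Nat.card f.ker ≤ 2 := by
    have h4 : Nat.card f.ker ≤ Nat.card ({1, t} : Set G) := by
      refine Nat.card_le_card_of_injective
        (fun x : f.ker => (⟨((x : ↥T) : G), by
          rcases hker x x.2 with h | h
          · exact Or.inl h
          · exact Or.inr h⟩ : ({1, t} : Set G))) ?_
      intro x y hxy
      have hxy' : ((x : ↥T) : G) = ((y : ↥T) : G) := Subtype.mk_eq_mk.mp hxy
      exact Subtype.ext (Subtype.ext hxy')
    refine h4.trans ?_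
    rw [Nat.card_coe_set_eq]
    exact (Set.ncard_insert_le _ _).trans (by rw [Set.ncard_singleton])
  have hR8 : 2 ^ 8 ≤ Nat.card f.range := by
    have h3 : Nat.card ↥T = Nat.card f.ker * Nat.card f.range := by
      rw [← Subgroup.card_mul_index f.ker, Subgroup.index_ker]
    rw [hT9] at h3
    have h5 := Nat.mul_le_mul_right (Nat.card f.range) hk2
    omega
  -- an outer automorphism
  have hout : ∃ φ : MulAut (↥K ⧸ oddCore ↥K), φ ∉ (MulAut.conj : ↥K ⧸ oddCore ↥K →* MulAut (↥K ⧸ oddCore ↥K)).range := by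
    by_contra hcon
    push Not at hcon
    have hc : Nat.card (↥K ⧸ oddCore ↥K) = 898128000 := by
      rcases hL.2.1 with ⟨-, h⟩ | ⟨h, -⟩
      · exact h
      · exact absurd h (by norm_num)
    have h1 := Order.card_inner_le (a := 7) (m := 7016625) (by rw [hc]; norm_num) (by norm_num) hR2 fun φ _ => hcon φ
    have h2 := hR8.trans h1
    norm_num at h2
  obtain ⟨φ, hφ, hφφ⟩ := TypeM.OuterInvol.exists_outer_involution M (Or.inl rfl) hG hout
  obtain ⟨ψ, ⟨w₀, rfl⟩, hψ, hψψ⟩ := exists_outer_mem hR2 (fun R hR =>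
    (Order.card_aut hL (fun h => absurd h (by norm_num)) R hR).trans hR8) hφ hφφ
  obtain ⟨⟨w₀, hw₀⟩, rfl⟩ : ∃ w, w = w₀ := ⟨_, rfl⟩
  have hw₀t : w₀ * t = t * w₀ := mem_centralizer_singleton_iff.mp (hTC hw₀)
  -- `w₀² = 1`
  obtain ⟨g, hg⟩ := exists_f c
  have hw1 : w₀ * w₀ = 1 := by
    rcases hker (⟨w₀, hw₀⟩ * ⟨w₀, hw₀⟩) (by rw [map_mul]; exact hψψ) with h1 | h1
    · exact h1
    · exfalso
      have h2 : g t = 1 := by
        have h3 : w₀ * w₀ = t := h1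
        rw [← h3, map_mul, Int.units_mul_self]
      exact hg h2
  have htC : t ∈ centralizer ({t} : Set G) := mem_centralizer_singleton_iff.mpr rfl
  have htt : t * t = 1 := h.t_sq
  -- `w ∈ S₀`
  have key : ∀ w : G, w ∈ S₀ → w * w = 1 → w * t = t * w → (∀ hw : w ∈ centralizer ({t} : Set G), F ⟨w, hw⟩ ∉ I) →
      ∃ w ∈ S₀, w ∉ h.J ∧ w * w = 1 ∧ w * t = t * w ∧
      ∃ f : ↥(centralizer ({t} : Set G)) →* ℤˣ, (∀ ht, f ⟨t, ht⟩ = 1) ∧ ∀ hw, f ⟨w, hw⟩ = -1 := by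
    intro w hw hww hwt hwF
    refine ⟨w, hw, fun hJ => ?_, hww, hwt, s, fun ht' => (hs _).1 (by rw [hFt]; exact I.one_mem), fun hw' => (hs _).2 (hwF hw')⟩
    obtain ⟨a, ha, b, hb, e⟩ := h.mem_J.mp hJ
    have h1 : t * w * t = w := by rw [← hwt, mul_assoc, htt, mul_one]
    rw [e, h.pr_swap ha hb] at h1
    have h2 : b = a := (h.pr_inj hb ha ha hb h1).1
    rw [h2] at e
    have h3 : w ∈ K := e ▸ hAK a ha
    have h4 : F ⟨w, mem_centralizer_singleton_iff.mpr hwt⟩ ∈ I := by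
      rw [hI]
      exact ⟨QuotientGroup.mk ⟨w, h3⟩, (act_of_mem h3).symm⟩
    exact hwF _ h4
  have hw₀F : ∀ hw : w₀ ∈ centralizer ({t} : Set G), F ⟨w₀, hw⟩ ∉ I := by
    intro hw
    rw [hI]
    exact hψ
  rcases c.idx w₀ (hTS hw₀) with h1 | h1
  · exact key w₀ h1 hw1 hw₀t hw₀F
  · refine key (w₀ * t) h1 ?_ ?_ ?_
    · calc w₀ * t * (w₀ * t) = w₀ * (t * w₀) * t := by group
        _ = w₀ * (w₀ * t) * t := by rw [hw₀t]
        _ = (w₀ * w₀) * (t * t) := by group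
        _ = 1 := by rw [hw1, htt, mul_one]
    · rw [hw₀t, mul_assoc, hw₀t]
    · intro hw hmem
      apply hw₀F (hTC hw₀)
      have h2 : F ⟨w₀ * t, hw⟩ = F ⟨w₀, hTC hw₀⟩ * F ⟨t, htC⟩ := by rw [← map_mul]; rfl
      rwa [h2, hFt, mul_one] at hmem

end Cfsg.Agent.McLLyComp.Sign
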