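import Cfsg.Agent.TypeM.FactsAut
import Cfsg.Agent.TypeM.CoverTools

/-!
# Finite groups with one class of involutions and centraliser `2.A_n`, `n = 8, 11`, are simple (helper279)
-/

set_option autoImplicit false

namespace Cfsg.Agent.McLLyComp.SimpleMT

open Subgroup Equiv Cfsg.Agent.SporRec.TwoAn Cfsg.Agent.TypeM.Two Cfsg.Agent.TypeM.CoverTools Cfsg.Agent.TypeM.FactsAut

/-- normal subgroups of a cover of `A_n` -/
theorem normal_cases {n : ℕ} {C : Type*} [Group C] (K : Cover (Fin n) C) (hn : 5 ≤ n) (N : Subgroup C) (hN : N.Normal) :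
    (∀ x ∈ N, x = 1 ∨ x = K.z) ∨ ∀ x : C, x ∈ N ∨ x * K.z ∈ N := by
  obtain ⟨π, hπ, hπK⟩ := exists_isCover_of K (by omega)
  have hs : IsSimpleGroup (alternatingGroup (Fin n)) := alternatingGroup.isSimpleGroup (by simpa using hn)
  have h1 : (N.map π).Normal := hN.map π hπ.surj
  rcases h1.eq_bot_or_eq_top with h2 | h2
  · left
    intro x hx
    have h3 : π x ∈ N.map π := ⟨x, hx, rfl⟩
    rw [h2, mem_bot] at h3
    exact (hπ.ker x).1 h3
  · right
    intro x
    have h3 : π x ∈ N.map π := by rw [h2]; trivial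
    obtain ⟨y, hy, hxy⟩ := h3
    have h4 : K.π x = K.π y := by rw [← hπK, ← hπK, hxy]
    rcases K.lift_eq h4 with rfl | rfl
    · exact Or.inl hy
    · right
      rw [mul_assoc, K.z_mul_z, mul_one]
      exact hy

theorem odd_mem {C : Type*} [Group C] [Finite C] {N : Subgroup C} (hodd : Odd (Nat.card N)) {x : C} (hx : x ∈ N)
    (h2 : x * x = 1) : x = 1 := by
  by_contra hne
  have h1 : orderOf (⟨x, hx⟩ : N) = 2 := orderOf_eq_prime (by
    rw [pow_two]; exact Subtype.ext h2) (fun h => hne (congrArg Subtype.val h))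
  have h3 : 2 ∣ Nat.card N := by rw [← h1]; exact orderOf_dvd_natCard _
  rw [Nat.odd_iff] at hodd
  omega

variable {n : ℕ} {G : Type*} [Group G] [Finite G]

/-- a normal subgroup of odd order of a group meets the centraliser of each involution trivially -/
theorem odd_cent (L : MT n G) (hn : 5 ≤ n) (N : Subgroup G) [hN : N.Normal] (hodd : Odd (Nat.card N)) {x : G}
    (hx : x ∈ N) (hxt : x * L.t = L.t * x) : x = 1 := by
  have hn' : (N.subgroupOf (centralizer ({L.t} : Set G))).Normal := inferInstance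
  have hodd' : Odd (Nat.card (N.subgroupOf (centralizer ({L.t} : Set G)))) := by
    have h1 : Nat.card (N.subgroupOf (centralizer ({L.t} : Set G))) ∣ Nat.card N := by
      rw [Nat.card_congr (Subgroup.equivMapOfInjective (N.subgroupOf (centralizer ({L.t} : Set G)))
        (centralizer ({L.t} : Set G)).subtype (subtype_injective _)).toEquiv]
      apply card_dvd_of_le
      rintro _ ⟨y, hy, rfl⟩
      exact hy
    exact Odd.of_dvd_nat hodd h1
  rcases normal_cases L.K hn _ hn' with h | h
  · rcases h ⟨x, L.mem_iff.2 hxt⟩ hx with h1 | h1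
    · exact congrArg Subtype.val h1
    · have h2 : x = L.t := (congrArg Subtype.val h1).trans L.hz
      exact odd_mem hodd hx (by rw [h2, L.t_mul_t])
  · exfalso
    -- an element with square `z`
    obtain ⟨σ, hσ, -, hz⟩ := exists_sq_z L.K (by omega)
    obtain ⟨g, hg⟩ := L.K.exists_lift hσ
    have hgz := hz g hg
    have hz' := hz (g * L.K.z) (by rw [map_mul, hg, L.K.π_z, mul_one])
    have key : L.K.z ∈ N.subgroupOf (centralizer ({L.t} : Set G)) := by
      rcases h g with h1 | h1
      · rw [← hgz]; exact mul_mem h1 h1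
      · rw [← hz']; exact mul_mem h1 h1
    exact L.K.z_ne (odd_mem hodd' key L.K.z_mul_z)

/-- an involution without fixed points on a group of odd order inverts it -/
theorem inverts {N : Subgroup G} [hN : N.Normal] {s : G} (hs : s * s = 1) (hfix : ∀ x ∈ N, x * s = s * x → x = 1)
    {x : G} (hx : x ∈ N) : s * x * s = x⁻¹ := by
  have hsi : s⁻¹ = s := inv_eq_of_mul_eq_one_left hs
  have hmem : ∀ y ∈ N, s * y * s ∈ N := by
    intro y hy
    have := hN.conj_mem y hy s
    rwa [hsi] at this
  let f : N → N := fun y => ⟨(y : G)⁻¹ * (s * y * s), mul_mem (inv_mem y.2) (hmem y y.2)⟩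
  have hf : Function.Injective f := by
    intro y w hyw
    have h1 : (y : G)⁻¹ * (s * y * s) = (w : G)⁻¹ * (s * w * s) := congrArg Subtype.val hyw
    have h2 : (w : G) * (y : G)⁻¹ = s * ((w : G) * (y : G)⁻¹) * s := by
      calc (w : G) * (y : G)⁻¹ = w * ((y : G)⁻¹ * (s * y * s)) * (s * y * s)⁻¹ := by group
        _ = w * ((w : G)⁻¹ * (s * w * s)) * (s * y * s)⁻¹ := by rw [h1]
        _ = s * w * (s * s⁻¹) * (y : G)⁻¹ * s⁻¹ := by group
        _ = s * ((w : G) * (y : G)⁻¹) * s := by rw [hsi, hs]; group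
    have h3 : (w : G) * (y : G)⁻¹ = 1 := by
      apply hfix _ (mul_mem w.2 (inv_mem y.2))
      calc (w : G) * (y : G)⁻¹ * s = s * ((w : G) * (y : G)⁻¹) * s * s := by rw [← h2]
        _ = s * ((w : G) * (y : G)⁻¹) * (s * s) := by group
        _ = s * ((w : G) * (y : G)⁻¹) := by rw [hs, mul_one]
    exact (Subtype.ext (mul_inv_eq_one.1 h3)).symm
  obtain ⟨y, hy⟩ := (Finite.injective_iff_surjective.1 hf) ⟨x, hx⟩
  have h1 : (y : G)⁻¹ * (s * y * s) = x := congrArg Subtype.val hy
  rw [← h1]
  calc s * ((y : G)⁻¹ * (s * y * s)) * s = s * (y : G)⁻¹ * s * y * (s * s) := by group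
    _ = s⁻¹ * (y : G)⁻¹ * s⁻¹ * y := by rw [hs, hsi]; group
    _ = ((y : G)⁻¹ * (s * y * s))⁻¹ := by group

theorem odd_normal (L : MT n G) (hn : n = 8 ∨ n = 11) (N : Subgroup G) [hN : N.Normal] (hodd : Odd (Nat.card N)) :
    N = ⊥ := by
  obtain ⟨u, hu, hu1, hut, hc⟩ := exists_u L hn
  have hn5 : 5 ≤ n := by omega
  have hall : ∀ s : G, s * s = 1 → s ≠ 1 → ∀ x ∈ N, x * s = s * x → x = 1 := by
    intro s hs hs1 x hx hxs
    obtain ⟨L', hL'⟩ := L.exists_rebase hs hs1
    exact odd_cent L' hn5 N hodd hx (by rw [hL']; exact hxs)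
  have huts : (u * L.t) * (u * L.t) = 1 := by
    calc (u * L.t) * (u * L.t) = u * (L.t * u) * L.t := by group
      _ = u * (u * L.t) * L.t := by rw [hc]
      _ = (u * u) * (L.t * L.t) := by group
      _ = 1 := by rw [hu, L.t_mul_t, one_mul]
  have hut1 : u * L.t ≠ 1 := by
    intro h
    apply hut
    rw [mul_eq_one_iff_eq_inv.1 h, L.t_inv]
  rw [eq_bot_iff]
  intro x hx
  have h1 := inverts L.t_mul_t (hall L.t L.t_mul_t L.t_ne) hx
  have h2 := inverts hu (hall u hu hu1) (inv_mem hx)
  apply hall (u * L.t) huts hut1 x hx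
  have h3 : u * (L.t * x * L.t) * u = x := by rw [h1, h2, inv_inv]
  calc x * (u * L.t) = u * (L.t * x * L.t) * u * (u * L.t) := by rw [h3]
    _ = u * (L.t * x * L.t) * (u * u) * L.t := by group
    _ = u * L.t * x * (L.t * L.t) := by rw [hu]; group
    _ = u * L.t * x := by rw [L.t_mul_t, mul_one]

theorem simple (L : MT n G) (hn : n = 8 ∨ n = 11) : IsSimpleGroup G where
  exists_pair_ne := ⟨L.t, 1, L.t_ne⟩
  eq_bot_or_eq_top_of_normal N hN := by
    by_cases hodd : Odd (Nat.card N)
    · exact Or.inl (odd_normal L hn N hodd)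
    right
    rw [Nat.not_odd_iff_even] at hodd
    obtain ⟨s, hs⟩ := exists_prime_orderOf_dvd_card' (G := N) 2 hodd.two_dvd
    have hs1 : (s : G) ≠ 1 := by
      intro h
      have : s = 1 := Subtype.ext h
      rw [this, orderOf_one] at hs
      omega
    have hss : (s : G) * s = 1 := by
      have : s * s = 1 := by rw [← pow_two, ← hs, pow_orderOf_eq_one]
      exact congrArg Subtype.val this
    -- all involutions lie in `N`
    have hall : ∀ r : G, r * r = 1 → r ≠ 1 → r ∈ N := by
      intro r hr hr1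
      obtain ⟨g, hg⟩ := L.conj_of_involutions hss hs1 hr hr1
      rw [← hg]
      exact hN.conj_mem _ s.2 g
    have htN := hall L.t L.t_mul_t L.t_ne
    obtain ⟨u, hu, hu1, hut, hc⟩ := exists_u L hn
    have huN := hall u hu hu1
    -- centralisers
    have hcen : ∀ (L' : MT n G) (u' : G), u' * u' = 1 → u' ≠ 1 → u' ≠ L'.t → u' * L'.t = L'.t * u' →
        centralizer ({L'.t} : Set G) ≤ N := by
      intro L' u' h1 h2 h3 h4
      have hn' : (N.subgroupOf (centralizer ({L'.t} : Set G))).Normal := inferInstance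
      have ht' := hall L'.t L'.t_mul_t L'.t_ne
      rcases normal_cases L'.K (by omega) _ hn' with h | h
      · exfalso
        rcases h ⟨u', L'.mem_iff.2 h4⟩ (hall u' h1 h2) with h5 | h5
        · exact h2 (congrArg Subtype.val h5)
        · exact h3 ((congrArg Subtype.val h5).trans L'.hz)
      · intro x hx
        rcases h ⟨x, hx⟩ with h5 | h5
        · exact h5
        · have h6 : x * L'.t ∈ N := by
            have : x * (L'.K.z : G) ∈ N := h5
            rwa [L'.hz] at this
          have h7 := mul_mem h6 ht'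
          rwa [mul_assoc, L'.t_mul_t, mul_one] at h7
    have h1 : centralizer ({L.t} : Set G) ≤ N := hcen L u hu hu1 hut hc
    have h2 : centralizer ({u} : Set G) ≤ N := by
      obtain ⟨L', hL'⟩ := L.exists_rebase hu hu1
      rw [← hL']
      exact hcen L' L.t L.t_mul_t L.t_ne (by rw [hL']; exact hut.symm) (by rw [hL']; exact hc.symm)
    have h3 := one_class L (by omega) hu hu1 hut hc h1 h2
    rw [eq_top_iff]
    intro g _
    have h4 : g * L.t * g⁻¹ ∈ N := hN.conj_mem _ htN g
    obtain ⟨m, hm, hmg⟩ := h3 _ h4 (by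
      have : orderOf (MulAut.conj g L.t) = orderOf L.t :=
        orderOf_injective (MulAut.conj g).toMonoidHom (MulAut.conj g).injective L.t
      exact this.trans L.orderOf_t)
    have h5 : m⁻¹ * g ∈ centralizer ({L.t} : Set G) := by
      rw [L.mem_iff]
      calc m⁻¹ * g * L.t = m⁻¹ * (g * L.t * g⁻¹) * g := by group
        _ = m⁻¹ * (m * L.t * m⁻¹) * g := by rw [hmg]
        _ = L.t * (m⁻¹ * g) := by group
    have := mul_mem hm (h1 h5)
    rwa [mul_inv_cancel_left] at this

end Cfsg.Agent.McLLyComp.SimpleMT
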