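import Cfsg.Agent.McLLyComp.CaseOne
import Cfsg.Agent.SignalizersComponents.AutSylow

/-!
# Case I, `|R| = 2`: `t ~ tk` for some involution `k ∈ K`

Otherwise `t` is isolated: `t ^ G ∩ C(t) = {t}`, which is impossible by the `Z*`-theorem.
-/

set_option autoImplicit false

open Cfsg Subgroup
open Cfsg.Agent.SignalizersComponents Cfsg.Agent.Lib
open Cfsg.Agent.SignalizersComponents.IntrinsicBasic
open Cfsg.Agent.Intrinsic.Basic Cfsg.Agent.Intrinsic.Cen
open Cfsg.Agent.McLLyComp.Act Cfsg.Agent.McLLyComp.Defs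
open Cfsg.Agent.McLLyComp.Lift Cfsg.Agent.McLLyComp.World Cfsg.Agent.McLLyComp.CaseOne

universe u

namespace Cfsg.Agent.McLLyComp.TzOr

variable {𝒯 : Ty.{u}} {G : Type u} [Group G] [Finite G]

/-- `C(t)` -/
local notation "CC" t => (centralizer ({t} : Set _))

omit [Finite G] in
theorem conj_order {t g : G} (ht : orderOf t = 2) : orderOf (g * t * g⁻¹) = 2 := by
  have e : orderOf (MulAut.conj g t) = orderOf t := orderOf_injective (MulAut.conj g).toMonoidHom
    (MulAut.conj g).injective t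
  rw [← ht, ← e]
  rfl

/-- If `t` is not conjugate to any `tk`, `k ∈ K` an involution, then `t ^ G ∩ C(t) = {t}`. -/
theorem isolated (W : CaseI 𝒯 G) {t : G} {K : Subgroup G} (ht : orderOf t = 2) (hK : TComp 𝒯 (CC t) K)
    (hT : Tight t K) (hno : ∀ k ∈ K, k * k = 1 → k ≠ 1 → ¬ IsConj t (t * k)) (g : G)
    (hg : g * t * g⁻¹ * t = t * (g * t * g⁻¹)) : g * t * g⁻¹ = t := by
  have htt := sq_of_order ht
  have hbad : Bad 𝒯 t := ⟨ht, K, hK⟩
  have hKt : ∀ k ∈ K, k * t = t * k := fun k hk => mem_CC.mp (hK.1.le hk)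
  -- no element of `K` is conjugate to `t`
  have hnc : ∀ k ∈ K, ¬ IsConj t k := by
    intro k hk h
    obtain ⟨x, hx⟩ := isConj_iff.mp h
    have h1 := hbad.conj W.facts x
    rw [hx] at h1
    exact W.h0 t K ht hK k hk h1
  -- 2-elements of `C(t)` acting as involutions of `K`
  have hinv : ∀ e : G, e * e = 1 → e ≠ 1 → e * t = t * e → (∃ x ∈ K, Fixes (e * x) K) →
      e = t ∨ ∃ b ∈ K, b * b = 1 ∧ b ≠ 1 ∧ (e = b ∨ e = t * b) := by
    intro e hee he1 het hex
    by_cases hf : Fixes e K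
    · exact Or.inl ((hT e 1 (pow_two_pow hee) het hf).resolve_left he1)
    · right
      obtain ⟨x, hx, hfx⟩ := hex
      obtain ⟨b, hb, hbb, hb1, heb, hfb⟩ := inner_rep W.facts hK (W.norm ht hK het) hee hx hfx hf
      have h1 : (e * b) * (e * b) = 1 := by
        calc (e * b) * (e * b) = e * (b * e) * b := by group
          _ = (e * e) * (b * b) := by rw [← heb]; group
          _ = 1 := by rw [hee, hbb, one_mul]
      have h2 : (e * b) * t = t * (e * b) := by rw [mul_assoc, hKt b hb, ← mul_assoc, het, mul_assoc]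
      refine ⟨b, hb, hbb, hb1, ?_⟩
      rcases hT (e * b) 1 (pow_two_pow h1) h2 hfb with h | h
      · left
        rw [mul_eq_one_iff_eq_inv.mp h, inv_eq_of_mul_eq_one_left hbb]
      · right
        rw [← h, mul_assoc, hbb, mul_one]
  obtain ⟨y, hy⟩ : ∃ y, y = g * t * g⁻¹ := ⟨_, rfl⟩
  rw [← hy] at hg ⊢
  have hy2 : orderOf y = 2 := hy ▸ conj_order ht
  have hyy := sq_of_order hy2
  have hyn := W.norm ht hK hg
  have hty : IsConj t y := isConj_iff.mpr ⟨g, hy.symm⟩
  by_cases hin : ∃ k ∈ K, Fixes (y * k) K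
  · rcases hinv y hyy (ne_one_of_order hy2) hg hin with h | ⟨b, hb, hbb, hb1, h | h⟩
    · exact h
    · exact absurd (h ▸ hty) (hnc b hb)
    · exact absurd (h ▸ hty) (hno b hb hbb hb1)
  · exfalso
    push Not at hin
    obtain ⟨m, hm, c, hc, h1, hcy, h2, h3⟩ := outer_lift W.facts hK hyn hyy hin
    obtain ⟨d, hd⟩ : ∃ d, d = g⁻¹ * c * g := ⟨_, rfl⟩
    have hyt : g⁻¹ * y * g = t := by rw [hy]; group
    have hdt : d * t = t * d := by
      rw [← hyt, hd]
      calc g⁻¹ * c * g * (g⁻¹ * y * g) = g⁻¹ * (c * y) * g := by group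
        _ = g⁻¹ * (y * c) * g := by rw [hcy]
        _ = g⁻¹ * y * g * (g⁻¹ * c * g) := by group
    have hdd : d * d = g⁻¹ * (c * c) * g := by rw [hd]; group
    have hdd1 : d * d ≠ 1 := by
      intro h
      apply h2
      rw [hdd] at h
      calc c * c = g * (g⁻¹ * (c * c) * g) * g⁻¹ := by group
        _ = 1 := by rw [h]; group
    have hdd4 : (d * d) * (d * d) = 1 := by
      rw [hdd]
      calc g⁻¹ * (c * c) * g * (g⁻¹ * (c * c) * g) = g⁻¹ * ((c * c) * (c * c)) * g := by group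
        _ = 1 := by rw [h3]; group
    have hddt : (d * d) * t = t * (d * d) := by rw [mul_assoc, hdt, ← mul_assoc, hdt, mul_assoc]
    obtain ⟨x, hx, hfx⟩ := sq_lift W.facts hK (W.norm ht hK hdt) (k := 2) (by rw [pow_four, hdd4])
    -- `t ~ t d²`
    have hconj : IsConj t (t * (d * d)) := by
      have h4 : IsConj y ((c * c) * y) := isConj_iff.mpr ⟨m, h1⟩
      have h5 : IsConj ((c * c) * y) (t * (d * d)) := by
        refine isConj_iff.mpr ⟨g⁻¹, ?_⟩
        rw [← hddt, hdd]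
        calc g⁻¹ * (c * c * y) * g⁻¹⁻¹ = g⁻¹ * (c * c) * g * (g⁻¹ * y * g) := by group
          _ = g⁻¹ * (c * c) * g * t := by rw [hyt]
      exact hty.trans (h4.trans h5)
    have hconj' : IsConj (c * c) (d * d) := isConj_iff.mpr ⟨g⁻¹, by rw [hdd]; group⟩
    rcases hinv (d * d) hdd4 hdd1 hddt ⟨x, hx, hfx⟩ with h | ⟨b, hb, hbb, hb1, h | h⟩
    · exact hnc (c * c) (K.mul_mem hc hc) (h ▸ hconj'.symm)
    · rw [h] at hconj
      exact hno b hb hbb hb1 hconj
    · rw [h, ← mul_assoc, htt, one_mul] at hconj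
      exact hnc b hb hconj

/-- **`t ~ tk` for some involution `k ∈ K`.** -/
theorem exists_tk (hZ : AutSylow.ZStar.{u}) (W : CaseI 𝒯 G) {t : G} {K : Subgroup G} (ht : orderOf t = 2)
    (hK : TComp 𝒯 (CC t) K) (hT : Tight t K) : ∃ k ∈ K, k * k = 1 ∧ k ≠ 1 ∧ IsConj t (t * k) := by
  by_contra hcon
  push Not at hcon
  have hiso := isolated W ht hK hT hcon
  have : Fact (Nat.Prime 2) := ⟨Nat.prime_two⟩
  have htt := sq_of_order ht
  -- a Sylow 2-subgroup of `C(t)` containing `t` is Sylow in `G`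
  obtain ⟨R, hR, htR⟩ := RelSylow.exists_isMaxP (p := 2) (C := centralizer ({t} : Set G))
    (W := zpowers t) (by
      rw [IsPGroup.iff_card]
      exact ⟨1, by rw [Nat.card_zpowers, ht, pow_one]⟩)
    (by rw [zpowers_le]; exact mem_CC.mpr rfl)
  obtain ⟨P, hRP⟩ := hR.1.exists_le_sylow
  have htR' : t ∈ R := htR (mem_zpowers t)
  have hPR : (P : Subgroup G) ≤ R := by
    by_contra hnl
    obtain ⟨x, hxP, hxN, hxR⟩ := RelSylow.exists_mem_normalizer P.2 hRP hnl
    apply hxR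
    have h1 : x * t * x⁻¹ ∈ R := (mem_normalizer_iff.mp hxN t).mp htR'
    have h2 := hiso x (mem_CC.mp (hR.2.1 h1))
    have h3 : x ∈ (CC t) := mem_CC.mpr (by
      calc x * t = x * t * x⁻¹ * x := by group
        _ = t * x := by rw [h2])
    exact hR.2.2 ((P : Subgroup G) ⊓ centralizer ({t} : Set G)) (P.2.to_le inf_le_left) inf_le_right
      (le_inf hRP hR.2.1) (mem_inf.mpr ⟨hxP, h3⟩)
  obtain ⟨N, hN, hodd, hNc⟩ := hZ G P t ht (hRP htR') (fun g hg =>
    hiso g (mem_CC.mp (hR.2.1 (hPR hg))))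
  -- `N ≤ O(G) = 1`, so `t` is central
  have hN1 : N = ⊥ := by
    rw [eq_bot_iff, ← W.core]
    exact Cores.le_pPrimeCore hN (Nat.coprime_two_right.mpr hodd)
  have hcent : ∀ g : G, t * g = g * t := by
    intro g
    have h1 := hNc g
    rw [hN1, mem_bot] at h1
    calc t * g = t * g * t⁻¹ * g⁻¹ * (g * t) := by group
      _ = g * t := by rw [h1, one_mul]
  apply ne_one_of_order ht
  rw [← mem_bot, ← W.cent, mem_centralizer_iff]
  intro y _
  exact (hcent y).symm

end Cfsg.Agent.McLLyComp.TzOr
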