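import Cfsg.Agent.McLLyComp.EndLy
import Cfsg.Agent.McLLyComp.FramesB
import Cfsg.Agent.McLLyComp.Gen
import Cfsg.Agent.McLLyComp.Main
import Cfsg.Agent.Wreath.DThreeGlue

/-!
# Theorem W for `McL` and `Ly`, from the bridge (`WAStmt`) and the end of the wreath pattern (`EndStmt`)
-/

set_option autoImplicit false

open Cfsg Subgroup
open Cfsg.Agent.SignalizersComponents Cfsg.Agent.Lib
open Cfsg.Agent.Intrinsic.Basic
open Cfsg.Agent.TypeM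
open Cfsg.Agent.McLLyComp.Act Cfsg.Agent.McLLyComp.Defs
open Cfsg.Agent.McLLyComp.Lift Cfsg.Agent.McLLyComp.World Cfsg.Agent.McLLyComp.CaseOne
open Cfsg.Agent.McLLyComp.FactsMT Cfsg.Agent.McLLyComp.Main
open Cfsg.Agent.Wreath.End Cfsg.Agent.Wreath.CommonDef
open Cfsg.Agent.Wreath.DThreeGlue (Inp3)

universe u

namespace Cfsg.Agent.McLLyComp.WFinal

/-- The bridge [WA]. -/
def WAStmt : Prop :=
  ∀ (G : Type u) [Group G] [Finite G] (t : G) (K : Subgroup G) (e e' : ℕ → G) (b : G) (μ σ μ' σ' : ℕ → G)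
    (D : BaseS.Data t K e e' b μ σ μ' σ'),
    (∀ T : Subgroup G, IsPGroup 2 T → (∀ x ∈ T, x * t = t * x) → Nat.card T ≤ 2 ^ 9) →
    ∃ (v : G) (A M₁ M₂ : Subgroup G), Inp t v A M₁ M₂ ∧ Inp3 t v A M₁ M₂ ∧ ∀ a ∈ A, pr t a a ∈ D.S.S

/-- The end of the wreath pattern. -/
def EndStmt : Prop :=
  ∀ (G : Type u) [Group G] [Finite G] (t v : G) (A M₁ M₂ : Subgroup G) (h : Inp t v A M₁ M₂),
    Inp3 t v A M₁ M₂ → ∀ M : Subgroup G, M.Normal → IsSimpleGroup ↥M → (∀ g, g ∈ M ∨ g * t ∈ M) →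
    (∀ S S₀ : Subgroup G, Com h S S₀ → S₀ ≠ h.J →
      (∃ w ∈ S₀, w ∉ h.J ∧ w * w = 1 ∧ w * t = t * w ∧
        ∃ f : ↥(centralizer ({t} : Set G)) →* ℤˣ, f ⟨t, mem_centralizer_singleton_iff.mpr rfl⟩ = 1 ∧
          ∀ hw : w ∈ centralizer ({t} : Set G), f ⟨w, hw⟩ = -1) ∨
      (∃ w ∈ S₀, w ∉ h.J ∧ w * w = 1 ∧ w * t = t * w ∧ w ∈ M ∧ (∃ g, g * t * g⁻¹ = t * w) ∧
        ∀ y ∈ S₀, y * y = 1 → y ≠ 1 → y * t = t * y → ∃ g, g * t = t * g ∧ g * y * g⁻¹ = pr t v v)) →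
    False

/-- Theorem W for `McL` -/
theorem w_eight (hZ : AutSylow.ZStar.{u}) (hWA : WAStmt.{u}) (hE : EndStmt.{u}) : WStmt (TM.{u} 8) := by
  intro G _ _ W t K ht hK hT
  have hbad : Bad (TM 8) t := ⟨ht, K, hK⟩
  have hin : (8 : ℕ) = 11 → ∀ φ : MulAut (↥K ⧸ oddCore ↥K),
      φ ∈ (MulAut.conj : ↥K ⧸ oddCore ↥K →* MulAut (↥K ⧸ oddCore ↥K)).range := fun h => absurd h (by norm_num)
  obtain ⟨e, e', b, μ, σ, μ', σ', D⟩ := Frames.exists_data hZ W ht hK hT hin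
  obtain ⟨v, A, M₁, M₂, h, h3, hA⟩ := hWA G t K e e' b μ σ μ' σ' D (Order.w7_tm W ht hK hT hin)
  have hSK : D.S.S ≤ K := D.S.S_le D.eK D.eK' D.bK
  exact hE G t v A M₁ M₂ h h3 (generalizedFittingSubgroup G) GenFitting.genFitting_normal W.simple
    (W.mem_or_mul_mem hbad) fun S S₀ c hne => Or.inl (EndMcL.mcl W ht hK hT c hne fun a ha => hSK (hA a ha))

/-- Theorem W for `Ly` -/
theorem w_eleven (hZ : AutSylow.ZStar.{u}) (hWA : WAStmt.{u}) (hE : EndStmt.{u})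
    (hin : ∀ (X : Type u) [Group X] [Finite X], TM 11 X → ∀ φ : MulAut X, φ ∈ (MulAut.conj : X →* MulAut X).range) :
    WStmt (TM.{u} 11) := by
  intro G _ _ W t K ht hK hT
  have hbad : Bad (TM 11) t := ⟨ht, K, hK⟩
  have hin := hin _ hK.2
  obtain ⟨e, e', b, μ, σ, μ', σ', D, B, w₁, hB2, hBS, hw₁, hw₁B, hnorm⟩ := FramesB.exists_data_ly hZ W ht hK hT hin
  obtain ⟨v, A, M₁, M₂, h, h3, hA⟩ := hWA G t K e e' b μ σ μ' σ' D (Order.w7_tm W ht hK hT fun _ => hin)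
  have hSK : D.S.S ≤ K := D.S.S_le D.eK D.eK' D.bK
  exact hE G t v A M₁ M₂ h h3 (generalizedFittingSubgroup G) GenFitting.genFitting_normal W.simple
    (W.mem_or_mul_mem hbad) fun S S₀ c hne => Or.inr (EndLy.ly W ht hK hT hin c hne
      (fun a ha => hSK (hA a ha)) (TzOr.exists_tk hZ W ht hK hT) hB2 (fun a ha => hBS _ (hA a ha) _) hw₁ hw₁B hnorm
      (comp_le_fs W.core W.qs (sq_of_order ht) hK.1))

end Cfsg.Agent.McLLyComp.WFinal
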